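import Groth.Agent.SegreLC.Supp
import Groth.Agent.LocCohLib.NonVanishing
import Groth.Agent.LocCohLib.NonVanishingApp
import Groth.Agent.S13234
import Groth.Agent.S5171
import Mathlib

/-! Cohen–Macaulayness of graded modules through local cohomology at the maximal homogeneous ideal. -/

set_option autoImplicit false
set_option maxHeartbeats 800000
universe u

open DirectSum GrModLib

namespace SegreLC

section Local

variable {A : Type u} [CommRing A] [IsNoetherianRing A]

/-- Depth is at most dimension. -/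
theorem depth_le_supportDim [IsLocalRing A] (M : Type u) [AddCommGroup M] [Module A M] [Module.Finite A M]
    [Nontrivial M] : ((LocCoh.depth A M : ℕ∞) : WithBot ℕ∞) ≤ Module.supportDim A M := by
  obtain ⟨P, hP⟩ := associatedPrimes.nonempty A M
  have h1 : ringKrullDim (A ⧸ P) ≤ Module.supportDim A M := by
    rw [Module.supportDim_eq_ringKrullDim_quotient_annihilator]
    exact ringKrullDim_le_of_surjective
      (Ideal.Quotient.factor (le_of_eq_of_le Submodule.annihilator_top.symm (IsAssociatedPrime.annihilator_le hP)))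
      (Ideal.Quotient.factor_surjective _)
  refine le_trans ?_ h1
  haveI : Nontrivial (A ⧸ P) := Ideal.Quotient.nontrivial_iff.2 hP.isPrime.ne_top
  obtain ⟨e, he⟩ := WithBot.ne_bot_iff_exists.1 (show ringKrullDim (A ⧸ P) ≠ ⊥ from
    ne_bot_of_le_ne_bot WithBot.zero_ne_bot (ringKrullDim_nonneg_of_nontrivial (R := A ⧸ P)))
  rw [← he]
  refine WithBot.coe_le_coe.2 (ENat.forall_natCast_le_iff_le.1 fun n hn => ?_)
  have := CommAlgDim.depth_le_ringKrullDim_quotient hP ((CommAlgDim.le_depth_iff n).1 hn)
  rw [← he] at this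
  exact WithBot.coe_le_coe.1 this

end Local

variable {R : Type u} [CommRing R] [IsNoetherianRing R] {𝒜 : ℤ → AddSubgroup R} [GradedRing 𝒜]
  {M : Type u} [AddCommGroup M] [Module R M] [Module.Finite R M] {ℳ : ℤ → AddSubgroup M}
  [DirectSum.Decomposition ℳ] [SetLike.GradedSMul 𝒜 ℳ]
  {m : HomogeneousIdeal 𝒜} [hmax : m.toIdeal.IsMaximal]
  (htop : ∀ c : HomogeneousIdeal 𝒜, c ≠ ⊤ → c ≤ m)

include htop in
theorem core_le (p : Ideal R) [hp : p.IsPrime] : (p.homogeneousCore 𝒜).toIdeal ≤ m.toIdeal :=
  htop _ fun h => hp.ne_top (top_le_iff.1 (by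
    rw [← HomogeneousIdeal.toIdeal_top (𝒜 := 𝒜), ← h]; exact Ideal.toIdeal_homogeneousCore_le 𝒜 p))

include htop ℳ in
variable (ℳ) in
theorem m_mem_support [Nontrivial M] : (⟨m.toIdeal, inferInstance⟩ : PrimeSpectrum R) ∈ Module.support R M := by
  obtain ⟨q, hq⟩ := Module.nonempty_support_of_nontrivial (R := R) (M := M)
  haveI : (Ideal.homogeneousCore 𝒜 q.asIdeal).toIdeal.IsPrime := Ideal.IsPrime.homogeneousCore q.isPrime
  exact Module.mem_support_mono (show (⟨_, inferInstance⟩ : PrimeSpectrum R) ≤ ⟨m.toIdeal, inferInstance⟩ from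
    core_le htop q.asIdeal) (core_mem_support (𝒜 := 𝒜) ℳ ⟨q, hq⟩)

include htop ℳ in
variable (ℳ) in
/-- The dimension of a graded module is the dimension at the maximal homogeneous ideal. -/
theorem supportDim_eq_localized [Nontrivial M] :
    Module.supportDim R M =
      Module.supportDim (Localization.AtPrime m.toIdeal) (LocalizedModule m.toIdeal.primeCompl M) := by
  let mS : Module.support R M := ⟨⟨m.toIdeal, inferInstance⟩, m_mem_support ℳ htop⟩
  refine Eq.trans ?_ (supportDim_atPrime mS).symm
  haveI : Nonempty (Module.support R M) := ⟨mS⟩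
  rw [Module.supportDim, Order.krullDim_eq_iSup_height_of_nonempty]
  refine congrArg _ (le_antisymm (iSup_le fun p => ?_) (le_iSup (fun p : Module.support R M => Order.height p) mS))
  haveI : (Ideal.homogeneousCore 𝒜 p.1.asIdeal).toIdeal.IsPrime := Ideal.IsPrime.homogeneousCore p.1.isPrime
  let c : Module.support R M := ⟨⟨_, inferInstance⟩, core_mem_support (𝒜 := 𝒜) ℳ p⟩
  rcases eq_or_lt_of_le (core_le htop p.1.asIdeal) with he | hlt
  · have : m.toIdeal = p.1.asIdeal :=
      hmax.eq_of_le p.1.isPrime.ne_top (he ▸ Ideal.toIdeal_homogeneousCore_le 𝒜 p.1.asIdeal)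
    exact le_of_eq (congrArg _ (Subtype.ext (PrimeSpectrum.ext this.symm)))
  · exact (height_le_core (𝒜 := 𝒜) ℳ p c rfl).trans (Order.height_add_one_le (show c < mS from hlt))

include htop ℳ in
variable (ℳ) in
theorem exists_supportDim_eq [Nontrivial M] : ∃ d : ℕ, Module.supportDim R M = d := by
  let mS : Module.support R M := ⟨⟨m.toIdeal, inferInstance⟩, m_mem_support ℳ htop⟩
  obtain ⟨d, hd⟩ := ENat.ne_top_iff_exists.1 (height_ne_top mS)
  exact ⟨d, (supportDim_eq_localized ℳ htop).trans ((supportDim_atPrime mS).trans (by rw [← hd]; rfl))⟩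

include htop ℳ in
variable (ℳ) in
/-- Nonvanishing at the dimension. -/
theorem nontrivial_H_dim [Nontrivial M] {d : ℕ} (hd : Module.supportDim R M = d) :
    Nontrivial (LocCoh.H m.toIdeal d M) := by
  by_contra hn
  rw [not_nontrivial_iff_subsingleton] at hn
  let A := Localization.AtPrime m.toIdeal
  haveI : Subsingleton (TensorProduct R A (LocCoh.H m.toIdeal d M)) := inferInstance
  have h1 : Subsingleton (LocCoh.H (m.toIdeal.map (algebraMap R A)) d (TensorProduct R A M)) :=
    (LocCohLib.tensLcEquiv (R' := A) m.toIdeal M d).symm.injective.subsingleton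
  rw [Localization.AtPrime.map_eq_maximalIdeal] at h1
  have h2 := (LocCohLib.subsingleton_H_congr (LocalizedModule.equivTensorProduct m.toIdeal.primeCompl M).symm d).1 h1
  exact not_nontrivial_iff_subsingleton.2 h2
    (LocCohLib.nonvanishing d (LocalizedModule m.toIdeal.primeCompl M)
      ((supportDim_eq_localized ℳ htop).symm.trans hd)).1

include htop in
/-- Vanishing below the dimension for Cohen–Macaulay modules. -/
theorem subsingleton_H_of_cm [Nontrivial M] (ℳ : ℤ → AddSubgroup M) [DirectSum.Decomposition ℳ]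
    [SetLike.GradedSMul 𝒜 ℳ] {d : ℕ} (hd : Module.supportDim R M = d)
    (hcm : ∀ (p : Ideal R) [p.IsPrime], Subsingleton (LocalizedModule p.primeCompl M) ∨
      LocCoh.IsCohenMacaulayModule (Localization.AtPrime p) (LocalizedModule p.primeCompl M))
    (i : ℕ) (hi : i < d) : Subsingleton (LocCoh.H m.toIdeal i M) := by
  refine (Groth.Agent.S5171.result R m.toIdeal M (fun p => hcm p.asIdeal) d).2 (fun p hp _ => ?_) i hi
  obtain rfl : p = ⟨m.toIdeal, inferInstance⟩ := PrimeSpectrum.ext (hmax.eq_of_le p.isPrime.ne_top hp).symm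
  exact ((supportDim_eq_localized ℳ htop).symm.trans hd).ge

include htop ℳ in
variable (ℳ) in
/-- The vanishing criterion. -/
theorem cm_of_subsingleton_H [Nontrivial M] {d : ℕ} (hd : Module.supportDim R M = d)
    (h : ∀ i, i < d → Subsingleton (LocCoh.H m.toIdeal i M)) (p : Ideal R) [p.IsPrime] :
    Subsingleton (LocalizedModule p.primeCompl M) ∨
      LocCoh.IsCohenMacaulayModule (Localization.AtPrime p) (LocalizedModule p.primeCompl M) := by
  by_cases hps : (⟨p, inferInstance⟩ : PrimeSpectrum R) ∈ Module.support R M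
  swap
  · exact .inl (Module.notMem_support_iff.1 hps)
  right
  let pS : Module.support R M := ⟨⟨p, inferInstance⟩, hps⟩
  haveI : Nontrivial (LocalizedModule p.primeCompl M) := Module.mem_support_iff.1 hps
  haveI : (Ideal.homogeneousCore 𝒜 p).toIdeal.IsPrime := Ideal.IsPrime.homogeneousCore ‹_›
  let c := (Ideal.homogeneousCore 𝒜 p).toIdeal
  let cS : Module.support R M := ⟨⟨c, inferInstance⟩, core_mem_support (𝒜 := 𝒜) ℳ pS⟩
  let mS : Module.support R M := ⟨⟨m.toIdeal, inferInstance⟩, m_mem_support ℳ htop⟩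
  have hm : Order.height mS = (d : ℕ∞) := by
    have := (supportDim_atPrime mS).symm.trans ((supportDim_eq_localized ℳ htop).symm.trans hd)
    exact WithBot.coe_injective this
  have hdm : CommAlgDim.HasSeqIn (IsLocalRing.maximalIdeal (Localization.AtPrime m.toIdeal))
      (LocalizedModule m.toIdeal.primeCompl M) d := by
    have h0 := (LocCohLib.le_idealDepth_iff_subsingleton_H M d).2 h
    rw [CommAlgDim.le_idealDepth_iff, CommAlgDim.hasSeqIn_iff_forall_localization] at h0
    exact (CommAlgDim.le_depth_iff d).1 (h0 m.toIdeal le_rfl)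
  obtain ⟨a, ha⟩ := ENat.ne_top_iff_exists.1 (height_ne_top cS)
  have hadd : Order.height cS + ((m.toIdeal.map (Ideal.Quotient.mk c)).height) ≤ Order.height mS :=
    height_add_le cS mS (core_le htop p)
  obtain ⟨e, he⟩ := ENat.ne_top_iff_exists.1 (show (m.toIdeal.map (Ideal.Quotient.mk c)).height ≠ ⊤ from
    ne_top_of_le_ne_top (by rw [hm]; exact ENat.natCast_ne_top d) (le_add_self.trans hadd))
  have hae : a + e ≤ d := by
    rw [← ha, ← he, hm] at hadd
    exact_mod_cast hadd
  have hc : (a : ℕ∞) ≤ LocCoh.depth (Localization.AtPrime c) (LocalizedModule c.primeCompl M) :=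
    (CommAlgDim.le_depth_iff a).2 (CommAlgDim.hasSeqIn_generization (core_le htop p) he.ge a M
      (hdm.mono hae))
  have hdim := supportDim_atPrime pS
  refine le_antisymm ?_ (depth_le_supportDim _)
  refine hdim.le.trans (WithBot.coe_le_coe.2 ?_)
  rcases eq_or_lt_of_le (Ideal.toIdeal_homogeneousCore_le 𝒜 p) with hcp | hcp
  · have : cS = pS := Subtype.ext (PrimeSpectrum.ext hcp)
    rw [← this, ← ha]
    have key : ∀ (q : Ideal R) [q.IsPrime], q = c →
        (a : ℕ∞) ≤ LocCoh.depth (Localization.AtPrime q) (LocalizedModule q.primeCompl M) := by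
      intro q _ hq; subst hq; exact hc
    exact key p hcp.symm
  · haveI : (p.map (Ideal.Quotient.mk c)).IsPrime :=
      Ideal.map_isPrime_of_surjective Ideal.Quotient.mk_surjective (by rw [Ideal.mk_ker]; exact hcp.le)
    obtain ⟨f, hf⟩ := ENat.ne_top_iff_exists.1 (Ideal.height_ne_top
      (Ideal.IsPrime.ne_top (I := p.map (Ideal.Quotient.mk c)) inferInstance))
    have hf1 : 1 ≤ f := by
      have h4 : (⊥ : Ideal (R ⧸ c)) < p.map (Ideal.Quotient.mk c) :=
        bot_lt_iff_ne_bot.2 fun h => hcp.not_ge (by rwa [Ideal.map_eq_bot_iff_le_ker, Ideal.mk_ker] at h)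
      have := Ideal.height_add_one_le_of_lt_of_isPrime h4
      rw [Ideal.height_bot, zero_add, ← hf] at this
      exact_mod_cast this
    rw [Groth.Agent.S13234.result R 𝒜 M ℳ p f hf.symm]
    refine (height_le_core (𝒜 := 𝒜) ℳ pS cS rfl).trans ?_
    rw [← ha]
    exact add_le_add hc (by exact_mod_cast hf1)

include htop ℳ in
variable (ℳ) in
/-- The dimension from local cohomology. -/
theorem supportDim_eq_of_H [Nontrivial M] {e : ℕ} (hne : Nontrivial (LocCoh.H m.toIdeal e M))
    (habove : ∀ i, e < i → Subsingleton (LocCoh.H m.toIdeal i M)) : Module.supportDim R M = e := by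
  obtain ⟨d, hd⟩ := exists_supportDim_eq (𝒜 := 𝒜) ℳ htop
  rcases lt_trichotomy d e with hlt | rfl | hlt
  · exact absurd hne (not_nontrivial_iff_subsingleton.2
      (LocCohLib.subsingleton_H_of_supportDim_lt e M (by rw [hd]; exact_mod_cast hlt)))
  · exact hd
  · exact absurd (nontrivial_H_dim (𝒜 := 𝒜) ℳ htop hd) (not_nontrivial_iff_subsingleton.2 (habove d hlt))

end SegreLC
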