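import Groth.Agent.SegreLC.RingCase
import Groth.Agent.CycAlgLib.EndoQuot
import Mathlib

/-! Standard graded rings in Segre products. -/

set_option autoImplicit false
universe u

open scoped TensorProduct
open DirectSum GrModLib

namespace SegreLC

/-- A prime of the support of maximal dimension. -/
theorem exists_prime_dim {A : Type u} [CommRing A] {X : Type u} [AddCommGroup X] [Module A X] [Module.Finite A X]
    {r : ℕ} (hd : Module.supportDim A X = r) :
    ∃ Q : PrimeSpectrum A, Q ∈ Module.support A X ∧ (r : WithBot ℕ∞) ≤ ringKrullDim (A ⧸ Q.asIdeal) := by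
  haveI : Nonempty (Module.support A X) := Order.krullDim_nonneg_iff.1 (by
    rw [show Order.krullDim (Module.support A X) = r from hd]; exact_mod_cast Nat.zero_le r)
  obtain ⟨l, hl⟩ := (Order.le_krullDim_iff (n := r)).1 (le_of_eq hd.symm)
  refine ⟨l.head.1, l.head.2, ?_⟩
  let g : Fin (l.length + 1) → PrimeSpectrum.zeroLocus (R := A) (l.head.1.asIdeal : Set A) := fun i =>
    ⟨(l i).1, fun x hx => (LTSeries.head_le l i : l.head ≤ l i) hx⟩
  let l' : LTSeries (PrimeSpectrum.zeroLocus (R := A) (l.head.1.asIdeal : Set A)) :=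
    LTSeries.mk l.length g fun i j hij => (l.strictMono hij : l i < l j)
  rw [ringKrullDim_quotient, ← hl]
  exact Order.LTSeries.length_le_krullDim l'

variable {k : Type u} [Field k] {R : Type u} [CommRing R] [Algebra k R] {𝒜 : ℤ → Submodule k R} [GradedAlgebra 𝒜]
  {M : Type u} [AddCommGroup M] [Module R M] {τ : Type u} [SetLike τ M] [AddSubgroupClass τ M]
  {ℳ : ℤ → τ} [DirectSum.Decomposition ℳ] [SetLike.GradedSMul 𝒜 ℳ]
  (hpos : ∀ n : ℤ, n < 0 → 𝒜 n = ⊥) (h0 : 𝒜 0 = Submodule.span k {(1 : R)})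
  (hstd : Ideal.span (⋃ n ∈ Set.Ioi (0 : ℤ), (𝒜 n : Set R)) = Ideal.span ((𝒜 1 : Submodule k R) : Set R))

include hpos h0 hstd in
/-- A linear form outside a prime of positive dimension. -/
theorem exists_linear_notMem (Q : Ideal R) [Q.IsPrime] (hd : (1 : WithBot ℕ∞) ≤ ringKrullDim (R ⧸ Q)) :
    ∃ z ∈ 𝒜 1, z ∉ Q := by
  by_contra hcon
  push Not at hcon
  haveI : Nontrivial R := ⟨⟨0, 1, fun h => (inferInstance : Q.IsPrime).ne_top ((Ideal.eq_top_iff_one _).2 (h ▸ Q.zero_mem))⟩⟩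
  let m : HomogeneousIdeal 𝒜 := posIdeal' 𝒜
  have hm : m.toIdeal = Ideal.span (⋃ n ∈ Set.Ioi (0 : ℤ), (𝒜 n : Set R)) := rfl
  have hmax := isMaximal_pos hpos h0 hm
  have hle : (toAddIdeal m).toIdeal ≤ Q := by
    rw [toAddIdeal_toIdeal, hm, hstd]
    exact Ideal.span_le.2 hcon
  haveI : Q.IsMaximal := (hmax.eq_of_le (inferInstance : Q.IsPrime).ne_top hle) ▸ hmax
  letI : Field (R ⧸ Q) := Ideal.Quotient.field Q
  rw [ringKrullDim_eq_zero_of_field] at hd
  norm_num at hd

include hpos h0 hstd ℳ in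
variable (ℳ) in
/-- In the standard case torsion-free elements exist in all large degrees. -/
theorem exists_elem_degree [Module.Finite R M] {r : ℕ} (hd : Module.supportDim R M = (r + 1 : ℕ)) :
    ∃ d₀ : ℤ, ∀ n, d₀ ≤ n → ∃ a : M, a ∈ ℳ n ∧ ∃ Q : Ideal R, Q.IsPrime ∧ Module.annihilator R M ≤ Q ∧
      ((r + 1 : ℕ) : WithBot ℕ∞) ≤ ringKrullDim (R ⧸ Q) ∧ ∀ x : R, x • a = 0 → x ∈ Q := by
  obtain ⟨Q, hQ, hQd⟩ := exists_prime_dim hd
  obtain ⟨d, a, ha, hann⟩ := exists_homogeneous_ann_le ℳ Q hQ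
  obtain ⟨z, hz, hzQ⟩ := exists_linear_notMem hpos h0 hstd Q.asIdeal
    (le_trans (by exact_mod_cast Nat.succ_le_succ (Nat.zero_le r)) hQd)
  refine ⟨d, fun n hn => ⟨z ^ (n - d).toNat • a, ?_, Q.asIdeal, inferInstance, ?_, hQd, fun x hx => ?_⟩⟩
  · have h : z ^ (n - d).toNat • a ∈ ℳ ((n - d).toNat • (1 : ℤ) + d) :=
      SetLike.GradedSMul.smul_mem (SetLike.pow_mem_graded (A := 𝒜) _ hz) ha
    rwa [nsmul_one, Int.toNat_of_nonneg (by omega), sub_add_cancel] at h
  · rw [Module.mem_support_iff_of_finite] at hQ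
    exact hQ
  · rw [← mul_smul] at hx
    exact (Q.isPrime.mem_or_mem (hann _ hx)).resolve_right fun h => hzQ (Q.isPrime.mem_of_pow_mem _ h)

include hpos h0 hstd in
/-- A standard ring of positive dimension is nonzero in every nonnegative degree. -/
theorem piece_ne_bot {r : ℕ} (hd : ringKrullDim R = (r + 1 : ℕ)) {n : ℤ} (hn : 0 ≤ n) : 𝒜 n ≠ ⊥ := by
  intro hb
  obtain ⟨Q, -, hQd⟩ := exists_prime_dim ((Module.supportDim_self_eq_ringKrullDim (R := R)).trans hd)
  obtain ⟨z, hz, hzQ⟩ := exists_linear_notMem hpos h0 hstd Q.asIdeal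
    (le_trans (by exact_mod_cast Nat.succ_le_succ (Nat.zero_le r)) hQd)
  have h := SetLike.pow_mem_graded (A := 𝒜) n.toNat hz
  rw [nsmul_one, Int.toNat_of_nonneg hn, hb, Submodule.mem_bot] at h
  exact hzQ (Q.isPrime.mem_of_pow_mem n.toNat (by rw [h]; exact zero_mem _))

/-- The end of a graded object is negative when it vanishes in degrees at least zero. -/
theorem endDeg_lt_zero_iff {X : Type u} [AddCommGroup X] (𝒳 : ℤ → AddSubgroup X) :
    GrLC.endDeg 𝒳 < 0 ↔ ∀ n : ℤ, 0 ≤ n → 𝒳 n = ⊥ := by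
  constructor
  · intro h n hn
    by_contra hb
    have h1 : ((n : WithTop ℤ) : WithBot (WithTop ℤ)) ≤ GrLC.endDeg 𝒳 := le_iSup₂_of_le n hb le_rfl
    have h2 := lt_of_le_of_lt h1 h
    rw [← WithBot.coe_zero, WithBot.coe_lt_coe, ← WithTop.coe_zero, WithTop.coe_lt_coe] at h2
    omega
  · intro h
    refine lt_of_le_of_lt (b := (((-1 : ℤ) : WithTop ℤ) : WithBot (WithTop ℤ))) (iSup₂_le fun n hn => ?_) ?_
    · refine WithBot.coe_le_coe.2 (WithTop.coe_le_coe.2 ?_)
      by_contra hlt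
      exact hn (h n (by omega))
    · rw [← WithBot.coe_zero, WithBot.coe_lt_coe, ← WithTop.coe_zero, WithTop.coe_lt_coe]
      norm_num

theorem isArtinian_of_dim_zero {A : Type u} [CommRing A] [IsNoetherianRing A] {X : Type u} [AddCommGroup X]
    [Module A X] [Module.Finite A X] (h : Module.supportDim A X = (0 : ℕ)) : IsArtinian A X := by
  have hl := CycAlgLib.length_lt_top_of_supportDim_nonpos (R := A) (M := X) (by rw [h]; rfl)
  haveI : IsFiniteLength A X := Module.length_ne_top_iff.1 hl.ne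
  exact (isFiniteLength_iff_isNoetherian_isArtinian.1 this).2

end SegreLC
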