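import Groth.Agent.GrModLib.CanonTop
import Groth.Agent.GrModLib.Van

/-! Top local cohomology is generated by linear forms over the previous degree. -/

set_option autoImplicit false
universe u

open DirectSum GrModLib

namespace SegreLC

variable {R : Type u} [CommRing R] {𝒜 : ℤ → AddSubgroup R} [GradedRing 𝒜] [IsNoetherianRing R]

/-- Top cohomology of a cyclic module is spanned by linear multiples. -/
theorem top_gen (N : GrLC.GMod.{u} 𝒜) [Module.Finite R N.carrier] {g₀ : N.carrier} (hg₀ : g₀ ∈ N.gr 0)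
    (hgen : ∀ y, ∃ r : R, r • g₀ = y) {n : ℕ} (hn : 1 ≤ n)
    (hdim : Module.supportDim R N.carrier ≤ (n : ℕ)) (a : HomogeneousIdeal 𝒜) {g : ℕ} (x : Fin g → R)
    (hx : ∀ j, x j ∈ 𝒜 1) (hm : a.toIdeal = Ideal.span (Set.range x)) (E : GrLC.StarInjRes 𝒜 N.gr)
    (y : E.H a n) : ∃ η : Fin g → E.H a n, y = ∑ j, x j • η j := by
  classical
  let P : Submodule R N.carrier := Submodule.span R (Set.range fun j => x j • g₀)
  have hP : P.IsHomogeneous N.gr := span_isHomogeneous 𝒜 N.gr (by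
    rintro _ ⟨j, rfl⟩; exact ⟨1 + 0, smul_mem 𝒜 N.gr (hx j) hg₀⟩)
  let Q := subG 𝒜 (ℳ := N.gr) P hP
  let C := quotG 𝒜 (ℳ := N.gr) P hP
  obtain ⟨EQ⟩ := nonempty_resG Q
  obtain ⟨EC⟩ := nonempty_resG C
  have hi : GrLC.IsGrHomDeg Q.gr N.gr P.subtype 0 := fun g v hv => by rw [add_zero]; exact hv
  have hq : GrLC.IsGrHomDeg N.gr C.gr P.mkQ 0 := fun g v hv => ⟨v, by rw [add_zero]; exact hv, rfl⟩
  obtain ⟨δ, -, -, hle⟩ := exists_lesG Q N C P.subtype P.mkQ hi hq
    (Submodule.subtype_injective _) (Submodule.mkQ_surjective _)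
    (P.ker_mkQ.trans P.range_subtype.symm) EQ E EC a
  have htors : ∀ z : C.carrier, z ∈ GrLC.gam a.toIdeal C.carrier := fun z => by
    refine ⟨1, fun r hr => ?_⟩
    obtain ⟨w, hw⟩ := P.mkQ_surjective z
    obtain ⟨t, ht⟩ := hgen w
    rw [← hw, ← ht]
    refine (P.mkQ.map_smul r (t • g₀)).symm.trans ((Submodule.Quotient.mk_eq_zero P).2 ?_)
    rw [smul_comm]
    refine P.smul_mem t ?_
    rw [pow_one, hm] at hr
    induction hr using Submodule.span_induction with
    | mem r hr => obtain ⟨j, rfl⟩ := hr; exact Submodule.subset_span ⟨j, rfl⟩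
    | zero => rw [zero_smul]; exact zero_mem _
    | add r r' _ _ h h' => rw [add_smul]; exact add_mem h h'
    | smul c r _ h => rw [smul_eq_mul, mul_smul]; exact P.smul_mem c h
  haveI : Subsingleton (EC.H a n) := by
    obtain ⟨e⟩ := nonempty_H_equiv EC a n
    haveI := LocCohLib.subsingleton_H_of_torsion a.toIdeal C.carrier htors n hn
    exact e.toEquiv.subsingleton
  obtain ⟨z, rfl⟩ := ((hle n).1 y).1 (Subsingleton.elim _ _)
  let m : Fin g → Q.carrier := fun j => ⟨x j • g₀, Submodule.subset_span ⟨j, rfl⟩⟩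
  have hmd : ∀ j, m j ∈ Q.gr 1 := fun j => by
    have := smul_mem 𝒜 N.gr (hx j) hg₀
    rwa [add_zero] at this
  have hspan : Submodule.span R (Set.range m) = ⊤ := Submodule.span_range_subtype_eq_top_iff P (fun j => Submodule.subset_span ⟨j, rfl⟩) |>.2 rfl
  have hk : ∀ r : R, r • g₀ = 0 → ∀ v : Q.carrier, r • v = 0 := fun r hr v => Subtype.ext (by
    obtain ⟨t, ht⟩ := hgen v.1
    show r • v.1 = 0
    rw [← ht, smul_comm, hr, smul_zero])
  choose F hF hFr using fun j => exists_cyclicMap N Q hg₀ hgen (hmd j) fun r hr => hk r hr (m j)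
  obtain ⟨η, rfl⟩ := Htop_surj N Q hg₀ hgen hk hdim a E EQ (fun _ => 1) m hmd hspan F hF hFr z
  refine ⟨η, ?_⟩
  rw [map_sum]
  refine Finset.sum_congr rfl fun j _ => ?_
  have hs : GrLC.IsGrHomDeg N.gr N.gr (x j • (LinearMap.id : N.carrier →ₗ[R] N.carrier)) 1 := fun d v hv => by
    rw [LinearMap.smul_apply, add_comm]; exact smul_mem 𝒜 N.gr (hx j) hv
  have he : P.subtype ∘ₗ F j = x j • (LinearMap.id : N.carrier →ₗ[R] N.carrier) := LinearMap.ext fun v => by
    obtain ⟨r, rfl⟩ := hgen v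
    show (F j (r • g₀)).1 = x j • r • g₀
    rw [hFr, smul_comm]
    rfl
  exact (LinearMap.congr_fun (Hmap_comp E EQ E a (hF j) hi n) (η j)).symm.trans
    (LinearMap.congr_fun ((Hmap_congr E E a (IsGrHomDeg.comp (hF j) hi) hs he (add_zero _) n).trans
      (Hmap_smul E a (x j) hs (hx j) n)) (η j))

end SegreLC
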