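import Mathlib

/-! Pairings whose tensor product is perfect. -/

set_option autoImplicit false
universe u

open scoped TensorProduct

namespace SegreLC

variable {k : Type u} [Field k] {A B A₀ B₀ V W P : Type u} [AddCommGroup A] [Module k A] [AddCommGroup B] [Module k B]
  [AddCommGroup A₀] [Module k A₀] [AddCommGroup B₀] [Module k B₀] [AddCommGroup V] [Module k V]
  [AddCommGroup W] [Module k W] [AddCommGroup P] [Module k P]

theorem exists_dual_ne {x : A} (hx : x ≠ 0) : ∃ f : A →ₗ[k] k, f x ≠ 0 := by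
  by_contra hc
  push Not at hc
  exact hx ((Module.forall_dual_apply_eq_zero_iff k x).1 hc)

theorem tmul_eq_zero' {a : A} {b : B} (h : a ⊗ₜ[k] b = 0) : a = 0 ∨ b = 0 := by
  by_contra hc
  push Not at hc
  obtain ⟨f, hf⟩ := exists_dual_ne (k := k) hc.1
  obtain ⟨g, hg⟩ := exists_dual_ne (k := k) hc.2
  have := congrArg ((TensorProduct.lid k k).toLinearMap ∘ₗ TensorProduct.map f g) h
  simp at this
  tauto

/-- Both factors of a perfect tensor product of pairings have no kernels. -/
theorem factor_nondeg [Nontrivial B] [Nontrivial W] (F : A ⊗[k] B →ₗ[k] Module.Dual k P) (hF : Function.Bijective F)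
    (π : V →ₗ[k] W →ₗ[k] P) (hπ : ∀ p : P, p ∈ Submodule.span k {p | ∃ v w, π v w = p})
    (hπi : ∀ v w, π v w = 0 → v = 0 ∨ w = 0)
    (μ : V →ₗ[k] A →ₗ[k] A₀) (ν : W →ₗ[k] B →ₗ[k] B₀) (γ : A₀ ⊗[k] B₀ →ₗ[k] k)
    (h : ∀ a b v w, F (a ⊗ₜ b) (π v w) = γ (μ v a ⊗ₜ ν w b)) :
    Function.Injective μ ∧ Function.Injective μ.flip := by
  refine ⟨(injective_iff_map_eq_zero μ).2 fun v hv => ?_, (injective_iff_map_eq_zero μ.flip).2 fun a ha => ?_⟩
  · obtain ⟨w, hw⟩ := exists_ne (0 : W)
    refine (hπi v w ?_).resolve_right hw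
    have h1 : ∀ x, F x (π v w) = 0 := fun x => by
      induction x using TensorProduct.induction_on with
      | zero => simp
      | tmul a b => rw [h, hv, LinearMap.zero_apply, TensorProduct.zero_tmul, map_zero]
      | add x y hx hy => rw [map_add, LinearMap.add_apply, hx, hy, add_zero]
    refine (Module.forall_dual_apply_eq_zero_iff k _).1 fun g => ?_
    obtain ⟨x, rfl⟩ := hF.2 g
    exact h1 x
  · obtain ⟨b, hb⟩ := exists_ne (0 : B)
    refine (tmul_eq_zero' (k := k) (hF.1 (?_ : F (a ⊗ₜ b) = F 0))).resolve_right hb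
    rw [map_zero]
    refine LinearMap.ext fun p => ?_
    induction hπ p using Submodule.span_induction with
    | mem p hp =>
      obtain ⟨v, w, rfl⟩ := hp
      rw [h, show μ v a = 0 from LinearMap.congr_fun ha v, TensorProduct.zero_tmul, map_zero, LinearMap.zero_apply]
    | zero => simp
    | add x y _ _ hx hy => rw [map_add, map_add, hx, hy]
    | smul c x _ hx => rw [map_smul, map_smul, hx]

/-- A factor of a one-dimensional tensor product. -/
theorem exists_coord [Nontrivial A] [Nontrivial B] (γ : A ⊗[k] B →ₗ[k] k) (hγ : Function.Injective γ) :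
    ∃ l : A →ₗ[k] k, Function.Bijective l := by
  obtain ⟨b, hb⟩ := exists_ne (0 : B)
  let l : A →ₗ[k] k := γ ∘ₗ (TensorProduct.mk k A B).flip b
  have hl : Function.Injective l := (injective_iff_map_eq_zero l).2 fun a ha =>
    (tmul_eq_zero' (k := k) (hγ (show γ (a ⊗ₜ[k] b) = γ 0 from ha.trans (map_zero γ).symm))).resolve_right hb
  refine ⟨l, hl, fun c => ?_⟩
  obtain ⟨a, ha⟩ := exists_ne (0 : A)
  refine ⟨(c / l a) • a, ?_⟩
  rw [map_smul, smul_eq_mul, div_mul_cancel₀]
  exact fun h => ha (hl (h.trans (map_zero l).symm))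

/-- A pairing without kernels on finite-dimensional spaces is perfect. -/
theorem bijective_of_injective_flip [Module.Finite k V] (δ : A →ₗ[k] Module.Dual k V) (h₁ : Function.Injective δ)
    (h₂ : Function.Injective δ.flip) : Function.Bijective δ := by
  haveI : Module.Finite k A := Module.Finite.of_injective δ h₁
  refine ⟨h₁, (LinearMap.injective_iff_surjective_of_finrank_eq_finrank ?_).1 h₁⟩
  refine le_antisymm (LinearMap.finrank_le_finrank_of_injective h₁) ?_
  rw [Subspace.dual_finrank_eq]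
  exact (LinearMap.finrank_le_finrank_of_injective h₂).trans_eq Subspace.dual_finrank_eq

/-- If two independent vectors are separated, a product vanishes. -/
theorem exists_separating (μ : V →ₗ[k] A →ₗ[k] k) [Module.Finite k V] (hb : Function.Bijective μ.flip) {v v' : V}
    (hv' : v' ∉ Submodule.span k {v}) : ∃ a, μ v a = 0 ∧ μ v' a = 1 := by
  obtain ⟨f, hf, hfv⟩ := Submodule.exists_dual_map_eq_bot_of_notMem hv' inferInstance
  obtain ⟨a, ha⟩ := hb.2 ((f v')⁻¹ • f)
  refine ⟨a, ?_, ?_⟩
  · have h0 : f v = 0 := (Submodule.eq_bot_iff _).1 hfv _ ⟨v, Submodule.mem_span_singleton_self v, rfl⟩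
    rw [show μ v a = μ.flip a v from rfl, ha, LinearMap.smul_apply, h0, smul_zero]
  · rw [show μ v' a = μ.flip a v' from rfl, ha, LinearMap.smul_apply, smul_eq_mul, inv_mul_cancel₀ hf]

theorem apply_zero_of_subsingleton {H D : Type u} [AddCommGroup H] [Module k H] [AddCommGroup D] [Module k D]
    (Ω : A ⊗[k] B →ₗ[k] H) (δ : H →ₗ[k] Module.Dual k D) (w : A ⊗[k] B) (v : D)
    (h : Subsingleton A ∨ Subsingleton B) : δ (Ω w) v = 0 := by
  have hw : w = 0 := by
    induction w using TensorProduct.induction_on with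
    | zero => rfl
    | tmul a b =>
      cases h with
      | inl h => rw [Subsingleton.elim a 0, TensorProduct.zero_tmul]
      | inr h => rw [Subsingleton.elim b 0, TensorProduct.tmul_zero]
    | add x y hx hy => rw [hx, hy, add_zero]
  rw [hw, map_zero, map_zero, LinearMap.zero_apply]

/-- A nondegenerate product into a line gives a perfect pairing. -/
theorem bijective_flip_compr {V' : Type u} [AddCommGroup V'] [Module k V'] [Module.Finite k V']
    (μ : V →ₗ[k] A →ₗ[k] A₀) (l : A₀ →ₗ[k] k) (hl : Function.Injective l) (e : V' →ₗ[k] V)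
    (he : Function.Injective e) (h₁ : Function.Injective μ) (h₂ : Function.Injective μ.flip)
    (hs : Function.Surjective e) : Function.Bijective (μ.compr₂ l ∘ₗ e).flip := by
  refine bijective_of_injective_flip _ (fun a b h => h₂ (LinearMap.ext fun v => hl ?_))
    (fun a b h => he (h₁ (LinearMap.ext fun x => hl (LinearMap.congr_fun h x))))
  obtain ⟨w, rfl⟩ := hs v
  exact LinearMap.congr_fun h w

/-- Two independent vectors are separated by a product into a line. -/
theorem exists_separating' [Module.Finite k V] (μ : V →ₗ[k] A →ₗ[k] A₀) (l : A₀ →ₗ[k] k) (hl : Function.Bijective l)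
    (h₁ : Function.Injective μ) (h₂ : Function.Injective μ.flip) {v v' : V} (hv' : v' ∉ Submodule.span k {v}) :
    ∃ a, μ v a = 0 ∧ ∀ z, z = l z • μ v' a := by
  have hb := bijective_flip_compr μ l hl.1 LinearMap.id Function.injective_id h₁ h₂ Function.surjective_id
  obtain ⟨a, ha, ha'⟩ := exists_separating (μ.compr₂ l) hb hv'
  refine ⟨a, (map_eq_zero_iff l hl.1).1 ha, fun z => hl.1 ?_⟩
  rw [map_smul, show l (μ v' a) = 1 from ha', smul_eq_mul, mul_one]

/-- A commutative product vanishes one step above a perfect pairing. -/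
theorem eq_zero_of_separated [Module.Finite k V] {Q : Type u} [AddCommGroup Q] [Module k Q]
    (μ : V →ₗ[k] A →ₗ[k] A₀) (ν : V →ₗ[k] A₀ →ₗ[k] Q) (hc : ∀ r r' a, ν r (μ r' a) = ν r' (μ r a))
    (l : A₀ →ₗ[k] k) (hl : Function.Bijective l) (h₁ : Function.Injective μ) (h₂ : Function.Injective μ.flip)
    (hex : ∀ r : V, ∃ r', r' ∉ Submodule.span k {r}) (r : V) (v : A₀) : ν r v = 0 := by
  obtain ⟨r', hr'⟩ := hex r
  obtain ⟨a, ha, ha'⟩ := exists_separating' μ l hl h₁ h₂ hr'
  rw [ha' v, map_smul, hc, ha, map_zero, smul_zero]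

/-- Facts about the two factors of a perfect tensor product of pairings. -/
theorem factor_data {R S : Type u} [AddCommGroup R] [Module k R] [AddCommGroup S] [Module k S] {V : Submodule k R}
    {W : Submodule k S} (hV : V ≠ ⊥) (hW : W ≠ ⊥) (F : A ⊗[k] B →ₗ[k] Module.Dual k P) (hF : Function.Bijective F)
    (π : V →ₗ[k] W →ₗ[k] P) (hπ : ∀ p : P, p ∈ Submodule.span k {p | ∃ v w, π v w = p})
    (hπi : ∀ v w, π v w = 0 → v = 0 ∨ w = 0)
    (μ : V →ₗ[k] A →ₗ[k] A₀) (ν : W →ₗ[k] B →ₗ[k] B₀) (γ : A₀ ⊗[k] B₀ →ₗ[k] k)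
    (h : ∀ a b v w, F (a ⊗ₜ b) (π v w) = γ (μ v a ⊗ₜ ν w b)) :
    (Nontrivial A ∧ Nontrivial B) ∧ (Function.Injective μ ∧ Function.Injective μ.flip) ∧
      (Function.Injective ν ∧ Function.Injective ν.flip) := by
  haveI := Submodule.nontrivial_iff_ne_bot.2 hV
  haveI := Submodule.nontrivial_iff_ne_bot.2 hW
  obtain ⟨v, hv⟩ := exists_ne (0 : V)
  obtain ⟨w, hw⟩ := exists_ne (0 : W)
  obtain ⟨f, hf⟩ := exists_dual_ne (k := k) (fun e => (hπi v w e).elim hv hw : π v w ≠ 0)
  obtain ⟨z, hz⟩ := hF.2 f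
  have hAB : Nontrivial A ∧ Nontrivial B := by
    constructor <;> refine not_subsingleton_iff_nontrivial.1 fun hs => hf ?_
    · rw [← hz]; exact apply_zero_of_subsingleton LinearMap.id F z (π v w) (.inl hs)
    · rw [← hz]; exact apply_zero_of_subsingleton LinearMap.id F z (π v w) (.inr hs)
  obtain ⟨hA, hB⟩ := hAB
  refine ⟨⟨hA, hB⟩, factor_nondeg F hF π hπ hπi μ ν γ h, ?_⟩
  exact factor_nondeg (F ∘ₗ (TensorProduct.comm k B A).toLinearMap)
    (hF.comp (TensorProduct.comm k B A).bijective) π.flip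
    (fun p => Submodule.span_mono (s := {p | ∃ v w, π v w = p}) (t := {p | ∃ w v, π.flip w v = p})
      (fun q hq => hq.elim fun v hv => hv.elim fun w e => ⟨w, v, e⟩) (hπ p))
    (fun w v e => (hπi v w e).symm) ν μ (γ ∘ₗ (TensorProduct.comm k B₀ A₀).toLinearMap) fun b a w v => h a b v w

end SegreLC
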