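import Groth.Agent.SegreLC.Gor
import Groth.Agent.SegreLC.Gen
import Groth.Agent.SegreLC.Perfect
import Groth.Agent.SegreLC.Std

/-! Factors of Gorenstein Segre products. -/

set_option autoImplicit false
set_option maxHeartbeats 1000000
universe u

open scoped TensorProduct
open DirectSum GrModLib

namespace SegreLC

variable {k : Type u} [Field k]

section Single

variable {R : Type u} [CommRing R] [Algebra k R] {𝒜 : ℤ → Submodule k R} [GradedAlgebra 𝒜]

/-- A piece of the shifted ring is a piece of the ring. -/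
noncomputable def shiftPiece (𝒜 : ℤ → Submodule k R) [GradedAlgebra 𝒜] (c d i : ℤ) (h : d + c = i) :
    kpiece (shiftRing 𝒜 c) d ≃ₗ[k] 𝒜 i where
  toFun x := ⟨(show R from x.1), h ▸ x.2⟩
  invFun x := ⟨x.1, show x.1 ∈ 𝒜 (d + c) from h.symm ▸ x.2⟩
  left_inv _ := rfl
  right_inv _ := rfl
  map_add' _ _ := rfl
  map_smul' b x := Subtype.ext (show algebraMap k R b * (show R from x.1) = b • (show R from x.1) from
    (Algebra.smul_def b _).symm)

theorem shiftPiece_val (c d i : ℤ) (h : d + c = i) (x : kpiece (shiftRing 𝒜 c) d) :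
    (shiftPiece 𝒜 c d i h x).1 = (show R from x.1) := rfl

include 𝒜 in
theorem finite_piece [IsNoetherianRing R] (h0 : 𝒜 0 = Submodule.span k {(1 : R)}) (i : ℤ) : Module.Finite k (𝒜 i) := by
  haveI : Module.Finite R (shiftRing 𝒜 0).carrier := inferInstanceAs (Module.Finite R R)
  haveI := finite_kpiece h0 (shiftRing 𝒜 0) i
  exact Module.Finite.equiv (shiftPiece 𝒜 0 i i (add_zero i))

/-- A resolution over the original grading. -/
noncomputable def resOfAdd {M : Type u} [AddCommGroup M] [Module R M] {τ : Type u} [SetLike τ M]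
    [AddSubgroupClass τ M] {ℳ : ℤ → τ} [DirectSum.Decomposition ℳ] [SetLike.GradedSMul 𝒜 ℳ]
    (E : GrLC.StarInjRes (toAdd 𝒜) (toAdd ℳ)) : GrLC.StarInjRes 𝒜 ℳ where
  X n := GModOfAdd (E.X n)
  d := E.d
  ε := E.ε
  d_grHom := E.d_grHom
  ε_grHom := E.ε_grHom
  ε_injective := E.ε_injective
  exact_zero := E.exact_zero
  exact_succ := E.exact_succ
  starInj n := fun A B f hf hfi g hg => E.starInj n (GModToAdd A) (GModToAdd B) f hf hfi g hg

theorem endDeg_eq_coe {X : Type u} [AddCommGroup X] (𝒳 : ℤ → AddSubgroup X) (c : ℤ) (hne : 𝒳 c ≠ ⊥)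
    (hz : ∀ d, c < d → 𝒳 d = ⊥) : GrLC.endDeg 𝒳 = ((c : WithTop ℤ) : WithBot (WithTop ℤ)) := by
  refine le_antisymm (iSup₂_le fun n hn => ?_) (le_iSup₂_of_le c hne le_rfl)
  exact WithBot.coe_le_coe.2 (WithTop.coe_le_coe.2 (not_lt.1 fun h => hn (hz n h)))

variable [IsNoetherianRing R] (hpos : ∀ n : ℤ, n < 0 → 𝒜 n = ⊥) (h0 : 𝒜 0 = Submodule.span k {(1 : R)})
  (hstd : Ideal.span (⋃ n ∈ Set.Ioi (0 : ℤ), (𝒜 n : Set R)) = Ideal.span ((𝒜 1 : Submodule k R) : Set R))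
  {m : HomogeneousIdeal 𝒜} (hm : m.toIdeal = Ideal.span (⋃ n ∈ Set.Ioi (0 : ℤ), (𝒜 n : Set R)))
  (E : GrLC.StarInjRes (toAdd 𝒜) (ofG 𝒜 R 𝒜).gr) {q : HomogeneousIdeal (toAdd 𝒜)} {n : ℕ} (hq : q = toAddIdeal m)

include h0 hstd hm in
theorem exists_linear_gens : ∃ (g : ℕ) (x : Fin g → R), (∀ j, x j ∈ 𝒜 1) ∧
    m.toIdeal = Ideal.span (Set.range x) := by
  haveI := finite_piece (𝒜 := 𝒜) h0 1
  obtain ⟨g, x, hx⟩ := Module.Finite.exists_fin (R := k) (M := 𝒜 1)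
  refine ⟨g, fun j => (x j).1, fun j => (x j).2, le_antisymm ?_ (Ideal.span_le.2 ?_)⟩
  · rw [hm, hstd, Ideal.span_le]
    intro a ha
    have h : (⟨a, ha⟩ : 𝒜 1) ∈ Submodule.span k (Set.range x) := hx ▸ Submodule.mem_top
    obtain ⟨c, hc⟩ := (Submodule.mem_span_range_iff_exists_fun k).1 h
    have e : a = ∑ j, c j • (x j).1 := by
      refine (congrArg Subtype.val hc).symm.trans ?_
      simp
    rw [e]
    refine sum_mem fun j _ => ?_
    rw [Algebra.smul_def]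
    exact Ideal.mul_mem_left _ _ (Ideal.subset_span ⟨j, rfl⟩)
  · rintro _ ⟨j, rfl⟩
    rw [hm, hstd]
    exact Ideal.subset_span (x j).2

include hpos h0 hstd hm in
/-- A standard ring of dimension at least two has two independent linear forms. -/
theorem exists_notMem_span (hn : ringKrullDim R = (n + 2 : ℕ)) (x : R) :
    ∃ x' ∈ 𝒜 1, x' ∉ Submodule.span k {x} := by
  by_contra hc
  push Not at hc
  haveI : Nontrivial R := nontrivial_of_dim hn
  have hmax := isMaximal_pos hpos h0 hm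
  have hle : m.toIdeal ≤ Ideal.span {x} := by
    rw [hm, hstd, Ideal.span_le]
    intro a ha
    obtain ⟨c, hc⟩ := Submodule.mem_span_singleton.1 (hc a ha)
    rw [← hc, Algebra.smul_def]
    exact Ideal.mul_mem_left _ _ (Ideal.mem_span_singleton_self x)
  have hst := isStarLocal_posIdeal (𝒜 := toAdd 𝒜) (toAdd_pos hpos) (isField_deg0 h0)
  have hh : (posIdeal (toAdd 𝒜)).toIdeal.height = ((n + 2 : ℕ) : ℕ∞) := by
    have h := (ringKrullDim_eq_height (toAdd_pos hpos) hst).symm.trans hn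
    exact WithBot.coe_injective h
  rw [← posIdeal_toAdd hm] at hh
  rw [toAddIdeal_toIdeal] at hh hmax
  haveI : m.toIdeal.IsMaximal := hmax
  rcases eq_or_ne (Ideal.span {x}) ⊤ with htop | htop
  · obtain ⟨u, hu⟩ := isUnit_iff_exists_inv.1 (Ideal.span_singleton_eq_top.1 htop)
    obtain ⟨y, hy, hyne⟩ := (Submodule.ne_bot_iff _).1 (piece_ne_bot (r := n + 1) hpos h0 hstd hn (le_of_lt one_pos))
    obtain ⟨c, rfl⟩ := Submodule.mem_span_singleton.1 (hc y hy)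
    have hx : x ∈ 𝒜 1 := by
      have := (𝒜 1).smul_mem c⁻¹ hy
      rwa [← mul_smul, inv_mul_cancel₀ (fun h => hyne (by rw [h, zero_smul])), one_smul] at this
    have h1 : (1 : R) ∈ m.toIdeal := hu ▸ Ideal.mul_mem_right _ _ (by
      rw [hm, hstd]; exact Ideal.subset_span hx)
    exact hmax.ne_top ((Ideal.eq_top_iff_one _).2 h1)
  · have he := hmax.eq_of_le htop hle
    have h1 := Ideal.height_le_one_of_isPrincipal_of_mem_minimalPrimes (Ideal.span {x}) m.toIdeal (by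
      rw [← he, Ideal.minimalPrimes_eq_subsingleton_self]; exact rfl)
    rw [hh] at h1
    have : n + 2 ≤ 1 := by exact_mod_cast h1
    omega

/-- Multiplication of a piece of the ring on a piece of cohomology. -/
noncomputable def mulHd {i d c : ℤ} (h : i + d = c) :
    𝒜 i →ₗ[k] Hd E q n d →ₗ[k] Hd E q n c :=
  LinearMap.mk₂ k (fun r v => ⟨r.1 • v.1, h ▸ smul_mem_Hd E q n r.2 v.2⟩)
    (fun r r' v => Subtype.ext (add_smul r.1 r'.1 v.1)) (fun b r v => Subtype.ext (smul_assoc b r.1 v.1))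
    (fun r v v' => Subtype.ext (smul_add r.1 v.1 v'.1)) (fun b r v => Subtype.ext (smul_comm r.1 b v.1))

theorem mulHd_val {i d c : ℤ} (h : i + d = c) (r : 𝒜 i) (v : Hd E q n d) :
    (mulHd E h r v).1 = r.1 • v.1 := rfl

/-- Multiplications commute. -/
theorem mulHd_comm {i j d d' c e : ℤ} (h : j + d = c) (g : i + c = e) (h' : i + d = d') (g' : j + d' = e)
    (r : 𝒜 i) (r' : 𝒜 j) (v : Hd E q n d) :
    mulHd E g r (mulHd E h r' v) = mulHd E g' r' (mulHd E h' r v) :=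
  Subtype.ext ((congrArg (r.1 • ·) (mulHd_val E h r' v)).trans ((smul_comm r.1 r'.1 v.1).trans
    (congrArg (r'.1 • ·) (mulHd_val E h' r v)).symm))

/-- Multiplications compose. -/
theorem mulHd_assoc {i i' d d' c : ℤ} (h : i + d' = c) (h' : i' + d = c) (r : R) (v : 𝒜 i) (w : 𝒜 i')
    (hw : w.1 = r * v.1) (x : Hd E q n d) (y : Hd E q n d') (hy : y.1 = r • x.1) :
    mulHd E h v y = mulHd E h' w x :=
  Subtype.ext (show v.1 • y.1 = w.1 • x.1 by rw [hy, hw, ← mul_smul, mul_comm])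

attribute [irreducible] mulHd

include h0 hstd hm hq in
/-- Vanishing spreads upwards. -/
theorem subsingleton_Hd_succ (hn : ringKrullDim R = (n + 1 : ℕ)) (d : ℤ)
    (hz : ∀ r : 𝒜 1, ∀ v, mulHd (q := q) (n := n + 1) E (show 1 + d = d + 1 by ring) r v = 0) :
    Subsingleton (Hd E q (n + 1) (d + 1)) := by
  haveI : Module.Finite R (ofG 𝒜 R 𝒜).carrier := inferInstanceAs (Module.Finite R R)
  obtain ⟨g, x, hx, hxm⟩ := exists_linear_gens h0 hstd hm
  letI := (Hgr_isInternal E q (n + 1)).chooseDecomposition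
  have key : ∀ y : E.H q (n + 1), y ∈ Hd E q (n + 1) (d + 1) → y = 0 := by
    intro y hy
    have hgen : ∀ y : (ofG 𝒜 R 𝒜).carrier, ∃ r : R, r • (show (ofG 𝒜 R 𝒜).carrier from (1 : R)) = y :=
      fun y => ⟨y, mul_one (M := R) y⟩
    obtain ⟨η, rfl⟩ := top_gen (ofG 𝒜 R 𝒜) (g₀ := (1 : R)) (SetLike.one_mem_graded (toAdd 𝒜)) hgen
      (Nat.succ_le_succ (Nat.zero_le n))
      (le_of_eq ((Module.supportDim_self_eq_ringKrullDim (R := R)).trans hn)) q x hx (by rw [hq, toAddIdeal_toIdeal, hxm]) E y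
    have e := pr_self (E.Hgr q (n + 1)) hy
    rw [map_sum] at e
    rw [← e]
    refine Finset.sum_eq_zero fun j _ => ?_
    rw [pr_smul (toAdd 𝒜) _ (hx j), show d + 1 - 1 = d by ring]
    exact (mulHd_val E _ _ _).symm.trans (congrArg Subtype.val (hz ⟨x j, hx j⟩ ⟨_, pr_mem (E.Hgr q (n + 1)) d (η j)⟩))
  exact ⟨fun a b => Subtype.ext ((key a.1 a.2).trans (key b.1 b.2).symm)⟩

variable {c : ℤ}

include hpos h0 hstd hm hq in
/-- Above a degree with a nondegenerate pairing the cohomology vanishes. -/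
theorem subsingleton_Hd_gt (hn : ringKrullDim R = (n + 2 : ℕ))
    (l : Hd E q (n + 2) c →ₗ[k] k) (hl : Function.Bijective l)
    (hnd : ∀ i d (h : i + d = c), 0 ≤ i → Function.Injective (mulHd (q := q) (n := n + 2) E h) ∧
      Function.Injective (mulHd (q := q) (n := n + 2) E h).flip) (d : ℤ) (hd : c < d) :
    Subsingleton (Hd E q (n + 2) d) := by
  haveI := finite_piece (𝒜 := 𝒜) h0 1
  have h1 : (1 : ℤ) + (c - 1) = c := by ring
  have hi := hnd 1 (c - 1) h1 zero_le_one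
  have hex : ∀ r : 𝒜 1, ∃ r' : 𝒜 1, r' ∉ Submodule.span k {r} := fun r =>
    (exists_notMem_span (n := n) hpos h0 hstd hm hn r.1).elim fun x' hx' => ⟨⟨x', hx'.1⟩, fun h => hx'.2 <|
      (Submodule.mem_span_singleton.1 h).elim fun b hb =>
        Submodule.mem_span_singleton.2 ⟨b, congrArg Subtype.val hb⟩⟩
  have hzero : ∀ (r : 𝒜 1) v, mulHd (q := q) (n := n + 2) E (show 1 + c = c + 1 by ring) r v = 0 :=
    eq_zero_of_separated (mulHd (q := q) (n := n + 2) E h1) (mulHd (q := q) (n := n + 2) E (show 1 + c = c + 1 by ring))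
      (fun r r' a => mulHd_comm E h1 _ h1 _ r r' a) l hl hi.1 hi.2 hex
  have hsucc : ∀ j : ℕ, Subsingleton (Hd E q (n + 2) (c + 1 + j)) := fun j => by
    induction j with
    | zero =>
      rw [Nat.cast_zero, add_zero]
      exact subsingleton_Hd_succ (n := n + 1) h0 hstd hm E hq hn c hzero
    | succ j ih =>
      rw [Nat.cast_succ, ← add_assoc]
      exact subsingleton_Hd_succ (n := n + 1) h0 hstd hm E hq hn _ fun r v => by
        rw [@Subsingleton.elim _ ih v 0, map_zero]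
  obtain ⟨j, rfl⟩ : ∃ j : ℕ, d = c + 1 + j := ⟨(d - (c + 1)).toNat, by omega⟩
  exact hsucc j

include hpos h0 hstd hm hq in
/-- A nondegenerate pairing into a one-dimensional degree makes the ring Gorenstein. -/
theorem gorenstein_of_nondeg [LocCoh.IsCohenMacaulayRing R] (hn : ringKrullDim R = (n + 2 : ℕ))
    (l : Hd E q (n + 2) c →ₗ[k] k) (hl : Function.Bijective l)
    (hnd : ∀ i d (h : i + d = c), 0 ≤ i → Function.Injective (mulHd (q := q) (n := n + 2) E h) ∧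
      Function.Injective (mulHd (q := q) (n := n + 2) E h).flip) :
    LocCoh.IsGorensteinRing R ∧ GrLC.endDeg (E.Hgr q (n + 2)) = ((c : WithTop ℤ) : WithBot (WithTop ℤ)) := by
  haveI : Nontrivial R := nontrivial_of_dim hn
  haveI : Module.Finite R (shiftRing 𝒜 c).carrier := inferInstanceAs (Module.Finite R R)
  have hgt := subsingleton_Hd_gt (n := n) hpos h0 hstd hm E hq hn l hl hnd
  refine ⟨?_, endDeg_eq_coe _ c (fun h => ?_) fun d hd => ?_⟩
  · let pc := fun d : ℤ => shiftPiece 𝒜 c (-d) (-d + c) rfl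
    let δ : ∀ d, Hd E q (n + 2) d →ₗ[k] Module.Dual k (kpiece (shiftRing 𝒜 c) (-d)) :=
      fun d => (((mulHd (q := q) (n := n + 2) E (show -d + c + d = c by ring)).compr₂ l) ∘ₗ (pc d).toLinearMap).flip
    have hδv : ∀ d x v, δ d x v =
        l (mulHd (q := q) (n := n + 2) E (show -d + c + d = c by ring) (pc d v) x) := fun _ _ _ => rfl
    refine gorenstein_of_pairing (n := n + 2) hpos h0 E hn (hq.trans (posIdeal_toAdd hm)) c δ ⟨fun d => ?_, ?_⟩
    · haveI := finite_kpiece h0 (shiftRing 𝒜 c) (-d)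
      rcases lt_or_ge c d with hd | hd
      · haveI := hgt d hd
        haveI : Subsingleton (𝒜 (-d + c)) := Submodule.subsingleton_iff_eq_bot.2 (hpos _ (by omega))
        haveI : Subsingleton (kpiece (shiftRing 𝒜 c) (-d)) := (pc d).toEquiv.subsingleton
        exact ⟨fun a b _ => Subsingleton.elim a b, fun f => ⟨0, LinearMap.ext fun v => by
          rw [Subsingleton.elim v 0, map_zero, map_zero]⟩⟩
      have hi := hnd (-d + c) d (by ring) (by omega)
      exact @bijective_flip_compr k _ (Hd E q (n + 2) d) (Hd E q (n + 2) c) (𝒜 (-d + c)) _ _ _ _ _ _ (kpiece (shiftRing 𝒜 c) (-d)) _ _ _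
        (mulHd (q := q) (n := n + 2) E (show -d + c + d = c by ring)) l hl.1 (pc d).toLinearMap (pc d).injective hi.1 hi.2
        (pc d).surjective
    · intro i d r hr x v
      refine (hδv (i + d) _ v).trans (Eq.trans ?_ (hδv d x _).symm)
      exact congrArg l (mulHd_assoc E _ _ r (pc (i + d) v) (pc d (smulPiece (shiftRing 𝒜 c) r hr d v)) rfl x
        (smulHd E q (n + 2) r hr d x) (smulHd_val E q (n + 2) r hr d x))
  · obtain ⟨v, hv⟩ := hl.2 1
    have : v = 0 := Subtype.ext ((AddSubgroup.eq_bot_iff_forall _).1 h v.1 v.2)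
    rw [this, map_zero] at hv
    exact zero_ne_one hv
  · haveI := hgt d hd
    exact (AddSubgroup.eq_bot_iff_forall _).2 fun y hy => congrArg Subtype.val
      (Subsingleton.elim (⟨y, hy⟩ : Hd E q (n + 2) d) 0)

end Single

variable {R S T : Type u} [CommRing R] [Algebra k R] [CommRing S] [Algebra k S] [CommRing T] [Algebra k T]
  {𝒜 : ℤ → Submodule k R} [GradedAlgebra 𝒜] {ℬ : ℤ → Submodule k S} [GradedAlgebra ℬ]
  {𝒯 : ℤ → Submodule k T} [GradedAlgebra 𝒯] {ψ : T →ₐ[k] R ⊗[k] S}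

/-- Pure tensors of a piece of a Segre ring. -/
theorem exists_pureMul (hT : GrSeg.IsSegreRing 𝒜 ℬ 𝒯 ψ) (i : ℤ) :
    ∃ π : 𝒜 i →ₗ[k] ℬ i →ₗ[k] 𝒯 i, (∀ a b, ψ (π a b).1 = a.1 ⊗ₜ b.1) ∧
      (∀ p : 𝒯 i, p ∈ Submodule.span k {p | ∃ a b, π a b = p}) ∧ ∀ a b, π a b = 0 → a = 0 ∨ b = 0 := by
  have hex : ∀ (a : 𝒜 i) (b : ℬ i), ∃ t : 𝒯 i, ψ t.1 = a.1 ⊗ₜ b.1 := fun a b => by
    have : a.1 ⊗ₜ[k] b.1 ∈ (𝒯 i).map ψ.toLinearMap := hT.2 i ▸ Submodule.subset_span ⟨a.1, a.2, b.1, b.2, rfl⟩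
    obtain ⟨t, ht, e⟩ := Submodule.mem_map.1 this
    exact ⟨⟨t, ht⟩, e⟩
  choose f hf using hex
  have he : ∀ {t t' : 𝒯 i}, ψ t.1 = ψ t'.1 → t = t' := fun h => Subtype.ext (hT.1 h)
  refine ⟨LinearMap.mk₂ k f
    (fun a a' b => he (by simp [hf, TensorProduct.add_tmul]))
    (fun c a b => he (by simp [hf, TensorProduct.smul_tmul']))
    (fun a b b' => he (by simp [hf, TensorProduct.tmul_add]))
    (fun c a b => he (by simp [hf])), hf, fun p => ?_, fun a b h => ?_⟩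
  · suffices H : ∃ hp : p.1 ∈ 𝒯 i, (⟨p.1, hp⟩ : 𝒯 i) ∈ Submodule.span k {p | ∃ a b, f a b = p} from
      H.elim fun _ H => H
    refine piece_induction_T hT (P := fun t => ∃ hp : t ∈ 𝒯 i,
      (⟨t, hp⟩ : 𝒯 i) ∈ Submodule.span k {p | ∃ a b, f a b = p}) ⟨zero_mem _, zero_mem _⟩
      (fun _ _ ⟨hx, ix⟩ ⟨hy, iy⟩ => ⟨add_mem hx hy, add_mem ix iy⟩)
      (fun c _ ⟨hx, ix⟩ => ⟨Submodule.smul_mem _ c hx, Submodule.smul_mem _ c ix⟩)
      (fun t ht a ha b hb e => ⟨ht, Submodule.subset_span ⟨⟨a, ha⟩, ⟨b, hb⟩, he ((hf _ _).trans e.symm)⟩⟩) p.2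
  · have h' : a.1 ⊗ₜ[k] b.1 = 0 := (hf a b).symm.trans (by rw [show f a b = 0 from h]; exact map_zero ψ)
    exact (tmul_eq_zero' h').imp Subtype.ext Subtype.ext

/-- Evaluation of a pairing at the unit. -/
theorem bijective_apply_one {H : Type u} [AddCommGroup H] [Module k H] {V : Type u} [AddCommGroup V] [Module k V]
    (δ : H →ₗ[k] Module.Dual k V) (hδ : Function.Bijective δ) (one : V) (hne : one ≠ 0)
    (hone : ∀ v : V, ∃ e : k, e • one = v) : Function.Bijective (LinearMap.applyₗ one ∘ₗ δ) := by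
  refine ⟨fun x y h => hδ.1 (LinearMap.ext fun v => ?_), fun e => ?_⟩
  · obtain ⟨e, rfl⟩ := hone v
    rw [map_smul, map_smul]
    exact congrArg (e • ·) h
  · obtain ⟨f, hf⟩ := exists_dual_ne (k := k) hne
    obtain ⟨x, hx⟩ := hδ.2 ((e / f one) • f)
    refine ⟨x, ?_⟩
    show δ x one = e
    rw [hx, LinearMap.smul_apply, smul_eq_mul, div_mul_cancel₀ _ hf]

section Form

variable (EM : GrLC.StarInjRes (toAdd 𝒜) (ofG 𝒜 R 𝒜).gr) (qR : HomogeneousIdeal (toAdd 𝒜))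
  (EN : GrLC.StarInjRes (toAdd ℬ) (ofG ℬ S ℬ).gr) (qS : HomogeneousIdeal (toAdd ℬ))
  {L : GrLC.GMod.{u} (toAdd 𝒯)} (ET : GrLC.StarInjRes (toAdd 𝒯) L.gr) (qT : HomogeneousIdeal (toAdd 𝒯))
  [IsNoetherianRing R] [IsNoetherianRing S] {nR nS nT : ℕ} {c : ℤ}

/-- The bilinear form on products. -/
theorem exists_form (Ω : ∀ d, Hd EM qR nR d ⊗[k] Hd EN qS nS d →ₗ[k] Hd ET qT nT d)
    (hΩ : ∀ d, Function.Bijective (Ω d))
    (hΩn : ∀ (i d : ℤ) (t : T) (r : R) (r' : S), r ∈ 𝒜 i → r' ∈ ℬ i → ψ t = r ⊗ₜ r' →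
      ∀ (h : Hd EM qR nR d) (h' : Hd EN qS nS d) (g : Hd EM qR nR (i + d)) (g' : Hd EN qS nS (i + d)),
        g.1 = r • h.1 → g'.1 = r' • h'.1 → t • (Ω d (h ⊗ₜ h')).1 = (Ω (i + d) (g ⊗ₜ g')).1)
    (δ : ∀ d, Hd ET qT nT d →ₗ[k] Module.Dual k (kpiece (shiftRing 𝒯 c) (-d)))
    (hδ : IsPairing ET qT nT (shiftRing 𝒯 c) δ) :
    ∃ γ : Hd EM qR nR c ⊗[k] Hd EN qS nS c →ₗ[k] k, (𝒯 0 = Submodule.span k {(1 : T)} → (1 : T) ≠ 0 →
        Function.Bijective γ) ∧
      ∀ i d (h : i + d = c), ∃ F : Hd EM qR nR d ⊗[k] Hd EN qS nS d →ₗ[k] Module.Dual k (𝒯 i),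
        Function.Bijective F ∧ ∀ (x : Hd EM qR nR d) (y : Hd EN qS nS d) (v : 𝒜 i) (w : ℬ i) (t : 𝒯 i),
          ψ t.1 = v.1 ⊗ₜ w.1 → F (x ⊗ₜ y) t = γ (mulHd (q := qR) (n := nR) EM h v x ⊗ₜ mulHd (q := qS) (n := nS) EN h w y) := by
  let one : kpiece (shiftRing 𝒯 c) (-c) := (shiftPiece 𝒯 c (-c) 0 (neg_add_cancel c)).symm
    ⟨1, SetLike.GradedOne.one_mem⟩
  refine ⟨(LinearMap.applyₗ one ∘ₗ δ c) ∘ₗ Ω c, fun h0 h1 => ?_, fun i d h => ?_⟩
  · refine (bijective_apply_one (δ c) (hδ.1 c) one ?_ ?_).comp (hΩ c)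
    · intro h
      exact h1 (congrArg Subtype.val ((LinearEquiv.map_eq_zero_iff _).1 h))
    · intro v
      obtain ⟨e, he⟩ := exists_scalar h0 (shiftPiece 𝒯 c (-c) 0 (neg_add_cancel c) v).2
      refine ⟨e, (shiftPiece 𝒯 c (-c) 0 (neg_add_cancel c)).injective (Subtype.ext ?_)⟩
      rw [map_smul, LinearEquiv.apply_symm_apply, Submodule.coe_smul, ← Algebra.algebraMap_eq_smul_one]
      exact he
  · subst h
    let κ := (shiftPiece 𝒯 (i + d) (-d) i (by ring)).symm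
    refine ⟨κ.dualMap.toLinearMap ∘ₗ δ d ∘ₗ Ω d, κ.dualMap.bijective.comp ((hδ.1 d).comp (hΩ d)), ?_⟩
    intro x y v w t ht
    have hs : smulHd ET qT nT t.1 t.2 d (Ω d (x ⊗ₜ y)) = Ω (i + d) (mulHd (q := qR) (n := nR) EM rfl v x ⊗ₜ mulHd (q := qS) (n := nS) EN rfl w y) :=
      Subtype.ext ((smulHd_val ET qT nT t.1 t.2 d _).trans
        (hΩn i d t.1 v.1 w.1 v.2 w.2 ht x y _ _ (mulHd_val EM rfl v x) (mulHd_val EN rfl w y)))
    show δ d (Ω d (x ⊗ₜ y)) (κ t) = δ (i + d) (Ω (i + d) _) one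
    refine Eq.trans ?_ (congrArg (fun z => δ (i + d) z one) hs)
    refine Eq.trans ?_ (hδ.2 i d t.1 t.2 _ one).symm
    refine congrArg _ (Subtype.ext ?_)
    exact (mul_one (t.1)).symm

end Form

variable (hT : GrSeg.IsSegreRing 𝒜 ℬ 𝒯 ψ) (hposR : ∀ n : ℤ, n < 0 → 𝒜 n = ⊥)
  (h0R : 𝒜 0 = Submodule.span k {(1 : R)})
  (hstdR : Ideal.span (⋃ n ∈ Set.Ioi (0 : ℤ), (𝒜 n : Set R)) = Ideal.span ((𝒜 1 : Submodule k R) : Set R))
  (hposS : ∀ n : ℤ, n < 0 → ℬ n = ⊥) (h0S : ℬ 0 = Submodule.span k {(1 : S)})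
  (hstdS : Ideal.span (⋃ n ∈ Set.Ioi (0 : ℤ), (ℬ n : Set S)) = Ideal.span ((ℬ 1 : Submodule k S) : Set S))
  [Algebra.FiniteType k R] [Algebra.FiniteType k S]

include hT hposR h0R hstdR hposS h0S hstdS in
/-- The factors of a Gorenstein Segre product are Gorenstein with the same `a`-invariant. -/
theorem gorenstein_factors [LocCoh.IsCohenMacaulayRing R] [LocCoh.IsCohenMacaulayRing S] [LocCoh.IsGorensteinRing T]
    {mR : HomogeneousIdeal 𝒜} (hmR : mR.toIdeal = Ideal.span (⋃ n ∈ Set.Ioi (0 : ℤ), (𝒜 n : Set R)))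
    (I : GrLC.StarInjRes 𝒜 𝒜)
    {mS : HomogeneousIdeal ℬ} (hmS : mS.toIdeal = Ideal.span (⋃ n ∈ Set.Ioi (0 : ℤ), (ℬ n : Set S)))
    (J : GrLC.StarInjRes ℬ ℬ) {a b : ℕ}
    (hr : ringKrullDim R = (a + 2 : ℕ)) (hs : ringKrullDim S = (b + 2 : ℕ)) :
    LocCoh.IsGorensteinRing R ∧ LocCoh.IsGorensteinRing S ∧
      GrLC.endDeg (I.Hgr mR (a + 2)) = GrLC.endDeg (J.Hgr mS (b + 2)) := by
  haveI : IsNoetherianRing R := Algebra.FiniteType.isNoetherianRing k R
  haveI : IsNoetherianRing S := Algebra.FiniteType.isNoetherianRing k S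
  haveI := isNoetherianRing_T hT
  haveI : Nontrivial R := nontrivial_of_dim hr
  haveI : Nontrivial S := nontrivial_of_dim hs
  haveI : Nontrivial T := nontrivial_T' hT hr hs
  obtain ⟨IT₀⟩ := nonempty_resG (ofG 𝒯 T 𝒯)
  let IT : GrLC.StarInjRes 𝒯 𝒯 := resOfAdd IT₀
  have hmT : (posIdeal' 𝒯).toIdeal = Ideal.span (⋃ n ∈ Set.Ioi (0 : ℤ), (𝒯 n : Set T)) := rfl
  have hP := exists_pairing_gorenstein (n := a + 1 + b + 1 + 1) (pos_T hT hposR) (exists_scalar_T hT h0R h0S) hmT IT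
    (ringKrullDim_segre hT hposR h0R hposS h0S hr hs)
  refine hP.elim fun c hc => hc.2.elim fun δ hδ => ?_
  have hΩ := exists_top_classes hT (resOfG I) (resOfG J) (segOf 𝒜 ℬ 𝒯 (isSegreMod_self hT)) (resOfG IT) hmR hmS hmT
    a b (fun i hi d => subsingleton_Hd_above hr I mR i hi d) (fun i hi d => subsingleton_Hd_above hs J mS i hi d)
  refine hΩ.elim fun Ω hΩ => ?_
  have hform := exists_form (resOfG I) (toAddIdeal mR) (resOfG J) (toAddIdeal mS) (resOfG IT)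
    (toAddIdeal (posIdeal' 𝒯)) Ω hΩ.1 hΩ.2 δ hδ
  refine hform.elim fun γ hγ' => ?_
  have hγ := hγ'.1 (exists_scalar_T hT h0R h0S) one_ne_zero
  have hF := hγ'.2
  have hdata : ∀ i d (h : i + d = c), 0 ≤ i →
      (Nontrivial (Hd (resOfG I) (toAddIdeal mR) (a + 2) d) ∧
        Nontrivial (Hd (resOfG J) (toAddIdeal mS) (b + 2) d)) ∧
      (Function.Injective (mulHd (q := toAddIdeal mR) (n := a + 2) (resOfG I) h) ∧
        Function.Injective (mulHd (q := toAddIdeal mR) (n := a + 2) (resOfG I) h).flip) ∧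
      (Function.Injective (mulHd (q := toAddIdeal mS) (n := b + 2) (resOfG J) h) ∧
        Function.Injective (mulHd (q := toAddIdeal mS) (n := b + 2) (resOfG J) h).flip) := fun i d h hi =>
    (hF i d h).elim fun F hF' => (exists_pureMul hT i).elim fun π hπ =>
      factor_data (piece_ne_bot (r := a + 1) hposR h0R hstdR hr hi) (piece_ne_bot (r := b + 1) hposS h0S hstdS hs hi)
        F hF'.1 π hπ.2.1 hπ.2.2 _ _ γ fun x y v w => hF'.2 x y v w (π v w) (hπ.1 v w)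
  haveI hRc := (hdata 0 c (zero_add c) le_rfl).1.1
  haveI hSc := (hdata 0 c (zero_add c) le_rfl).1.2
  have hnd := fun i d h hi => (hdata i d h hi).2
  have hlR := exists_coord γ hγ.1
  have hlS := exists_coord (γ ∘ₗ (TensorProduct.comm k _ _).toLinearMap)
    (hγ.1.comp (TensorProduct.comm k _ _).injective)
  refine hlR.elim fun lR hlR => hlS.elim fun lS hlS => ?_
  have h1 := gorenstein_of_nondeg (n := a) hposR h0R hstdR hmR (resOfG I) rfl hr lR hlR fun i d h hi => (hnd i d h hi).1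
  have h2 := gorenstein_of_nondeg (n := b) hposS h0S hstdS hmS (resOfG J) rfl hs lS hlS fun i d h hi => (hnd i d h hi).2
  exact ⟨h1.1, h2.1, h1.2.trans h2.2.symm⟩

end SegreLC
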