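import Groth.Agent.SegreLC.CM
import Mathlib

/-! Segre products of rings as Segre products of modules. -/

set_option autoImplicit false
universe u

open scoped TensorProduct
open DirectSum GrModLib

namespace SegreLC

/-- A ring as a module over itself. -/
theorem isCMMod_self_iff (A : Type u) [CommRing A] [IsNoetherianRing A] :
    IsCMMod A A ↔ LocCoh.IsCohenMacaulayRing A := by
  have key : ∀ (p : Ideal A) [p.IsPrime],
      LocCoh.IsCohenMacaulayModule (Localization.AtPrime p) (LocalizedModule p.primeCompl A) ↔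
        Module.supportDim (Localization.AtPrime p) (Localization.AtPrime p) =
          ((LocCoh.depth (Localization.AtPrime p) (Localization.AtPrime p) : ℕ∞) : WithBot ℕ∞) := fun p _ => by
    let ε : LocalizedModule p.primeCompl A ≃ₗ[Localization.AtPrime p] Localization.AtPrime p :=
      (IsLocalizedModule.iso p.primeCompl (Algebra.linearMap A (Localization.AtPrime p))).extendScalarsOfIsLocalization
        p.primeCompl (Localization.AtPrime p)
    rw [LocCoh.IsCohenMacaulayModule, Module.supportDim_eq_of_equiv ε, CommAlgDim.depth_congr ε]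
  constructor
  · intro h
    refine ⟨fun p _ => ⟨(key p).1 ((h p).resolve_left ?_)⟩⟩
    rw [not_subsingleton_iff_nontrivial]
    let ε := IsLocalizedModule.iso p.primeCompl (Algebra.linearMap A (Localization.AtPrime p))
    exact ε.toEquiv.nontrivial
  · intro h p _
    exact .inr ((key p).2 (h.isCohenMacaulayLocalRing_localization p).supportDim_eq_depth)

variable {k : Type u} [Field k] {R S T : Type u} [CommRing R] [Algebra k R] [CommRing S] [Algebra k S]
  [CommRing T] [Algebra k T] {𝒜 : ℤ → Submodule k R} [GradedAlgebra 𝒜] {ℬ : ℤ → Submodule k S} [GradedAlgebra ℬ]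
  {𝒯 : ℤ → Submodule k T} [GradedAlgebra 𝒯] {ψ : T →ₐ[k] R ⊗[k] S}

/-- The Segre product of two rings is their Segre product as modules. -/
theorem isSegreMod_self (hT : GrSeg.IsSegreRing 𝒜 ℬ 𝒯 ψ) : GrSeg.IsSegreMod ψ 𝒜 ℬ 𝒯 ψ.toLinearMap := by
  refine ⟨hT.1, fun n => by rw [← Submodule.map_coe, hT.2 n], fun t p => ?_⟩
  show ψ (t * p) = _
  rw [map_mul]
  refine (LinearMap.congr_fun₂ (f := GrSeg.act k R S R S) (g := LinearMap.mul k (R ⊗[k] S)) ?_ (ψ t) (ψ p)).symm
  ext r s a b
  simp [GrSeg.act_tmul]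

theorem nontrivial_T' (hT : GrSeg.IsSegreRing 𝒜 ℬ 𝒯 ψ) {r s : ℕ} (hr : ringKrullDim R = r)
    (hs : ringKrullDim S = s) : Nontrivial T := by
  haveI : Nontrivial R := not_subsingleton_iff_nontrivial.1 fun _ => by
    rw [ringKrullDim_eq_bot_of_subsingleton] at hr; exact WithBot.bot_ne_coe hr
  haveI : Nontrivial S := not_subsingleton_iff_nontrivial.1 fun _ => by
    rw [ringKrullDim_eq_bot_of_subsingleton] at hs; exact WithBot.bot_ne_coe hs
  exact nontrivial_T hT

theorem submodule_eq_bot_iff (d : ℤ) : 𝒜 d = ⊥ ↔ Subsingleton (kpiece (ofG 𝒜 R 𝒜) d) :=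
  ⟨fun h => ⟨fun x y => Subtype.ext (((Submodule.eq_bot_iff _).1 h x.1 x.2).trans
      ((Submodule.eq_bot_iff _).1 h y.1 y.2).symm)⟩,
    fun h => (Submodule.eq_bot_iff _).2 fun x hx => congrArg Subtype.val (@Subsingleton.elim _ h ⟨x, hx⟩ 0)⟩

end SegreLC
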