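import Groth.Agent.SegreLC.Canon
import Groth.Agent.GrModLib.VerGor

/-! Gorenstein Segre products. -/

set_option autoImplicit false
set_option maxHeartbeats 1000000
universe u

open scoped TensorProduct
open DirectSum GrModLib

namespace SegreLC

variable {k : Type u} [Field k]

section Single

variable {R : Type u} [CommRing R] [Algebra k R] {𝒜 : ℤ → Submodule k R} [GradedAlgebra 𝒜] [IsNoetherianRing R]
  [Nontrivial R]

/-- The ring, moved by `a`. -/
noncomputable abbrev shiftRing (𝒜 : ℤ → Submodule k R) [GradedAlgebra 𝒜] (a : ℤ) : GrLC.GMod.{u} (toAdd 𝒜) :=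
  shiftG (toAdd 𝒜) (ofG 𝒜 R 𝒜).gr a

/-- The pairing of a Gorenstein ring. -/
theorem exists_pairing_gorenstein [LocCoh.IsGorensteinRing R] (hpos : ∀ n : ℤ, n < 0 → 𝒜 n = ⊥)
    (h0 : 𝒜 0 = Submodule.span k {(1 : R)}) {m : HomogeneousIdeal 𝒜}
    (hm : m.toIdeal = Ideal.span (⋃ n ∈ Set.Ioi (0 : ℤ), (𝒜 n : Set R))) (I : GrLC.StarInjRes 𝒜 𝒜) {n : ℕ}
    (hn : ringKrullDim R = n) :
    ∃ a : ℤ, GrLC.endDeg (I.Hgr m n) = ((a : WithTop ℤ) : WithBot (WithTop ℤ)) ∧
      ∃ δ, IsPairing (resOfG I) (toAddIdeal m) n (shiftRing 𝒜 a) δ := by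
  have key : ∀ m' : HomogeneousIdeal (toAdd 𝒜), m' = posIdeal (toAdd 𝒜) →
      ∃ a : ℤ, GrLC.endDeg ((resOfG I).Hgr m' n) = ((a : WithTop ℤ) : WithBot (WithTop ℤ)) ∧
        ∃ δ, IsPairing (resOfG I) m' n (shiftRing 𝒜 a) δ := by
    rintro _ rfl
    obtain ⟨E, e, he⟩ := exists_residue_hull (posIdeal (toAdd 𝒜))
    obtain ⟨a, θ, ha, hθ⟩ := exists_top_equiv_endDeg (toAdd_pos hpos) (isField_deg0 h0) hn (resOfG I) he
    refine ⟨a, ha, ?_⟩
    letI hdec : DirectSum.Decomposition ((resOfG I).Hgr (posIdeal (toAdd 𝒜)) n) :=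
      (Hgr_isInternal (resOfG I) (posIdeal (toAdd 𝒜)) n).chooseDecomposition
    haveI : Module.Finite R (shiftRing 𝒜 a).carrier := inferInstanceAs (Module.Finite R R)
    let φ : ((shiftRing 𝒜 a).carrier →ₗ[R] E.carrier) ≃ₗ[R] (resOfG I).H (posIdeal (toAdd 𝒜)) n :=
      (LinearMap.ringLmapEquivSelf R R E.carrier).trans θ.symm
    have hφ : ∀ (d : ℤ) (f : (shiftRing 𝒜 a).carrier →ₗ[R] E.carrier),
        GrLC.IsGrHomDeg (shiftRing 𝒜 a).gr E.gr f d → φ f ∈ Hd (resOfG I) (posIdeal (toAdd 𝒜)) n d := by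
      intro d f hf
      show θ.symm (f (1 : R)) ∈ (resOfG I).Hgr (posIdeal (toAdd 𝒜)) n d
      have h1 : (f (1 : R) : E.carrier) ∈ E.gr (d + -a) := by
        have := hf (-a) (1 : R) (show (1 : R) ∈ toAdd 𝒜 (-a + a) by
          rw [neg_add_cancel]; exact SetLike.one_mem_graded (toAdd 𝒜))
        rwa [add_comm] at this
      have h2 : θ (pr ((resOfG I).Hgr (posIdeal (toAdd 𝒜)) n) d (θ.symm (f (1 : R)))) = f (1 : R) := by
        refine (map_pr (f := θ.toLinearMap) hθ d _).trans ?_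
        exact (congrArg (pr _ d) (θ.apply_symm_apply _)).trans (pr_self _ h1)
      rw [show θ.symm (f (1 : R)) = pr ((resOfG I).Hgr (posIdeal (toAdd 𝒜)) n) d (θ.symm (f (1 : R))) from
        θ.injective ((θ.apply_symm_apply _).trans h2.symm)]
      exact pr_mem ((resOfG I).Hgr (posIdeal (toAdd 𝒜)) n) d _
    have h := exists_pairing (P := fun d => Hd (resOfG I) (posIdeal (toAdd 𝒜)) n d) hpos h0 he
      (Hgr_isInternal (resOfG I) (posIdeal (toAdd 𝒜)) n) φ hφ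
    exact h.elim fun δ hδ => ⟨δ, hδ.1, fun i d r hr x c => hδ.2 i d r hr x _ rfl c _ rfl⟩
  exact key (toAddIdeal m) (posIdeal_toAdd hm)

/-- A pairing with the shifted ring makes the ring Gorenstein. -/
theorem gorenstein_of_pairing [LocCoh.IsCohenMacaulayRing R] (hpos : ∀ n : ℤ, n < 0 → 𝒜 n = ⊥)
    (h0 : 𝒜 0 = Submodule.span k {(1 : R)}) (I : GrLC.StarInjRes (toAdd 𝒜) (ofG 𝒜 R 𝒜).gr) {n : ℕ}
    (hn : ringKrullDim R = n) {m' : HomogeneousIdeal (toAdd 𝒜)} (hm' : m' = posIdeal (toAdd 𝒜)) (a : ℤ)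
    (δ : ∀ d, Hd I m' n d →ₗ[k] Module.Dual k (kpiece (shiftRing 𝒜 a) (-d)))
    (hδ : IsPairing I m' n (shiftRing 𝒜 a) δ) : LocCoh.IsGorensteinRing R := by
  subst hm'
  obtain ⟨E, e, he⟩ := exists_residue_hull (posIdeal (toAdd 𝒜))
  haveI : Module.Finite R (shiftRing 𝒜 a).carrier := inferInstanceAs (Module.Finite R R)
  have h := exists_canonical_of_pairing (P := fun d => Hd I (posIdeal (toAdd 𝒜)) n d) (X := shiftRing 𝒜 a) hpos h0 he
    (Hgr_isInternal I (posIdeal (toAdd 𝒜)) n)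
    (fun {_ _ _} hr {_} hx => smul_mem_Hd I (posIdeal (toAdd 𝒜)) n hr hx) δ hδ.1
    (fun i d t ht x y hy c c' hc => by
      rw [show y = smulHd I (posIdeal (toAdd 𝒜)) n t ht d x from Subtype.ext hy,
        show c' = smulPiece (shiftRing 𝒜 a) t ht d c from Subtype.ext hc]
      exact hδ.2 i d t ht x c)
  refine h.elim fun φ hφ => ?_
  let L : (shiftG (toAdd 𝒜) E.gr (-a)).carrier ≃ₗ[R] I.H (posIdeal (toAdd 𝒜)) n :=
    (LinearMap.ringLmapEquivSelf R R E.carrier).symm.trans φ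
  have hL : GrLC.IsGrHom (shiftG (toAdd 𝒜) E.gr (-a)).gr (I.Hgr (posIdeal (toAdd 𝒜)) n) L.toLinearMap := by
    intro d y hy
    refine hφ d ((LinearMap.ringLmapEquivSelf R R E.carrier).symm y) fun g c hc => ?_
    show c • y ∈ E.gr (g + d)
    have := E.gsmul.smul_mem (show c ∈ toAdd 𝒜 (g + a) from hc) (show y ∈ E.gr (d + -a) from hy)
    rwa [vadd_eq_add, show g + a + (d + -a) = g + d by ring] at this
  letI := (Hgr_isInternal I (posIdeal (toAdd 𝒜)) n).chooseDecomposition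
  have hLs : GrLC.IsGrHom (I.Hgr (posIdeal (toAdd 𝒜)) n) (shiftG (toAdd 𝒜) E.gr (-a)).gr L.symm.toLinearMap := by
    intro d x hx
    have h2 : L (pr (shiftG (toAdd 𝒜) E.gr (-a)).gr d (L.symm x)) = x := by
      refine (map_pr (f := L.toLinearMap) hL d _).trans ?_
      exact (congrArg (pr _ d) (L.apply_symm_apply x)).trans (pr_self _ hx)
    show L.symm x ∈ _
    rw [show L.symm x = pr (shiftG (toAdd 𝒜) E.gr (-a)).gr d (L.symm x) from
      L.injective ((L.apply_symm_apply x).trans h2.symm)]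
    exact pr_mem _ d _
  have hm := isStarLocal_posIdeal (𝒜 := toAdd 𝒜) (toAdd_pos hpos) (isField_deg0 h0)
  haveI := isMaximal_of_starLocal (toAdd_pos hpos) hm
  have hh : (posIdeal (toAdd 𝒜)).toIdeal.height = (n : ℕ∞) := by
    have h := (ringKrullDim_eq_height (toAdd_pos hpos) hm).symm.trans hn
    exact_mod_cast h
  exact gorensteinRing_of_starLocal hm (fun J hJ => le_of_starLocal hm J hJ) hh
    (gorensteinLocal_of_starInj hm.1 hh I (shiftG (toAdd 𝒜) E.gr (-a)) L.symm (starInj_shiftG he.starInj (-a)) hLs)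

end Single

variable {R S T : Type u} [CommRing R] [Algebra k R] [CommRing S] [Algebra k S] [CommRing T] [Algebra k T]
  {𝒜 : ℤ → Submodule k R} [GradedAlgebra 𝒜] {ℬ : ℤ → Submodule k S} [GradedAlgebra ℬ]
  {𝒯 : ℤ → Submodule k T} [GradedAlgebra 𝒯] {ψ : T →ₐ[k] R ⊗[k] S}

/-- A Segre product of shifted modules. -/
noncomputable def Seg.shift {X : GrLC.GMod.{u} (toAdd 𝒜)} {Y : GrLC.GMod.{u} (toAdd ℬ)} (z : Seg 𝒯 ψ X Y) (a : ℤ) :
    Seg 𝒯 ψ (shiftG (toAdd 𝒜) X.gr a) (shiftG (toAdd ℬ) Y.gr a) where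
  Z := shiftG (toAdd 𝒯) z.Z.gr a
  val := z.val
  isSegre := ⟨z.isSegre.injective, fun n => z.isSegre.image_piece (n + a), z.isSegre.map_smul⟩

variable (hT : GrSeg.IsSegreRing 𝒜 ℬ 𝒯 ψ) (hposR : ∀ n : ℤ, n < 0 → 𝒜 n = ⊥)
  (h0R : 𝒜 0 = Submodule.span k {(1 : R)})
  (hposS : ∀ n : ℤ, n < 0 → ℬ n = ⊥) (h0S : ℬ 0 = Submodule.span k {(1 : S)})
  [Algebra.FiniteType k R] [Algebra.FiniteType k S]

theorem cm_of_gorenstein (A : Type u) [CommRing A] [LocCoh.IsGorensteinRing A] : LocCoh.IsCohenMacaulayRing A :=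
  ⟨fun p _ => by
    haveI := LocCoh.IsGorensteinRing.isGorensteinLocalRing_localization (A := A) p
    exact SMTLib.isCohenMacaulayLocalRing_of_isCM _ GorLib.isCM_of_gorenstein⟩

include hT hposR h0R hposS h0S in
theorem ringKrullDim_segre [LocCoh.IsCohenMacaulayRing R] [LocCoh.IsCohenMacaulayRing S] {a b : ℕ}
    (hr : ringKrullDim R = (a + 2 : ℕ)) (hs : ringKrullDim S = (b + 2 : ℕ)) :
    ringKrullDim T = ((a + 1 + b + 1 + 1 : ℕ) : WithBot ℕ∞) := by
  haveI : IsNoetherianRing R := Algebra.FiniteType.isNoetherianRing k R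
  haveI : IsNoetherianRing S := Algebra.FiniteType.isNoetherianRing k S
  haveI := isNoetherianRing_T hT
  haveI : Nontrivial T := nontrivial_T' hT hr hs
  haveI : SetLike.GradedSMul 𝒯 𝒯 := inferInstance
  refine (Module.supportDim_self_eq_ringKrullDim (R := T)).symm.trans ?_
  exact (supportDim_segre_cm (ℳ := 𝒜) (𝒩 := ℬ) (𝒬 := 𝒯) hposR h0R hposS h0S hT (isSegreMod_self hT)
    (r := a + 1) (s := b + 1)
    ((Module.supportDim_self_eq_ringKrullDim (R := R)).trans hr)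
    ((Module.supportDim_self_eq_ringKrullDim (R := S)).trans hs)
    ((isCMMod_self_iff R).2 inferInstance) ((isCMMod_self_iff S).2 inferInstance)).trans
    (congrArg (Nat.cast (R := WithBot ℕ∞)) (by omega))

include hT hposR h0R hposS h0S in
/-- Gorenstein rings with equal `a`-invariants have Gorenstein Segre products. -/
theorem gorenstein_segre [LocCoh.IsGorensteinRing R] [LocCoh.IsGorensteinRing S] [LocCoh.IsCohenMacaulayRing T]
    {mR : HomogeneousIdeal 𝒜} (hmR : mR.toIdeal = Ideal.span (⋃ n ∈ Set.Ioi (0 : ℤ), (𝒜 n : Set R)))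
    (I : GrLC.StarInjRes 𝒜 𝒜)
    {mS : HomogeneousIdeal ℬ} (hmS : mS.toIdeal = Ideal.span (⋃ n ∈ Set.Ioi (0 : ℤ), (ℬ n : Set S)))
    (J : GrLC.StarInjRes ℬ ℬ) {a b : ℕ}
    (hr : ringKrullDim R = (a + 2 : ℕ)) (hs : ringKrullDim S = (b + 2 : ℕ))
    (haeq : GrLC.endDeg (I.Hgr mR (a + 2)) = GrLC.endDeg (J.Hgr mS (b + 2))) : LocCoh.IsGorensteinRing T := by
  haveI : IsNoetherianRing R := Algebra.FiniteType.isNoetherianRing k R
  haveI : IsNoetherianRing S := Algebra.FiniteType.isNoetherianRing k S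
  haveI := isNoetherianRing_T hT
  haveI : Nontrivial R := nontrivial_of_dim hr
  haveI : Nontrivial S := nontrivial_of_dim hs
  haveI : Nontrivial T := nontrivial_T' hT hr hs
  haveI := cm_of_gorenstein R
  haveI := cm_of_gorenstein S
  obtain ⟨α, hα, hR⟩ := exists_pairing_gorenstein hposR h0R hmR I hr
  obtain ⟨β, hβ, hS⟩ := exists_pairing_gorenstein hposS h0S hmS J hs
  rw [hα, hβ] at haeq
  have hab : α = β := WithTop.coe_injective (WithBot.coe_injective haeq)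
  subst hab
  refine hR.elim fun δR hδR => hS.elim fun δS hδS => ?_
  haveI : Module.Finite R (shiftRing 𝒜 α).carrier := inferInstanceAs (Module.Finite R R)
  haveI : Module.Finite S (shiftRing ℬ α).carrier := inferInstanceAs (Module.Finite S S)
  have hmT : (posIdeal' 𝒯).toIdeal = Ideal.span (⋃ n ∈ Set.Ioi (0 : ℤ), (𝒯 n : Set T)) := rfl
  obtain ⟨IT⟩ := nonempty_resG (ofG 𝒯 T 𝒯)
  have hδ := exists_segre_pairing hT (resOfG I) (resOfG J) (segOf 𝒜 ℬ 𝒯 (isSegreMod_self hT)) IT hmR hmS hmT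
    a b (fun i hi d => subsingleton_Hd_above hr I mR i hi d) (fun i hi d => subsingleton_Hd_above hs J mS i hi d)
    ((segOf 𝒜 ℬ 𝒯 (isSegreMod_self hT)).shift α) (fun d => finite_kpiece h0R _ d) (fun d => finite_kpiece h0S _ d)
    δR hδR δS hδS
  exact hδ.elim fun δ hδ => gorenstein_of_pairing (pos_T hT hposR) (exists_scalar_T hT h0R h0S) IT
    (ringKrullDim_segre hT hposR h0R hposS h0S hr hs) (posIdeal_toAdd hmT) α δ hδ

end SegreLC
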