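import Groth.Agent.SegreLC.GorOne

/-! The Segre product with a polynomial ring in one variable. -/

set_option autoImplicit false
universe u

open scoped TensorProduct
open DirectSum GrModLib

namespace SegreLC

/-- Gorenstein rings are stable under isomorphism. -/
theorem gorensteinRing_of_equiv {A B : Type u} [CommRing A] [CommRing B] [h : LocCoh.IsGorensteinRing A]
    (e : A ≃+* B) : LocCoh.IsGorensteinRing B := by
  letI : Algebra A B := e.toRingHom.toAlgebra
  haveI : IsLocalization (⊥ : Submonoid A) B := by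
    haveI : IsLocalization (⊥ : Submonoid A) A := IsLocalization.self fun x hx => by
      rw [Submonoid.mem_bot.1 hx]; exact isUnit_one
    let e' : A ≃ₐ[A] B := AlgEquiv.ofRingEquiv (f := e) fun _ => rfl
    exact IsLocalization.isLocalization_of_algEquiv ⊥ e'
  exact GorLib.gorensteinRing_localization (T := B) (⊥ : Submonoid A) h

variable {k : Type u} [Field k] {R S T : Type u} [CommRing R] [Algebra k R] [CommRing S] [Algebra k S]
  [CommRing T] [Algebra k T] {𝒜 : ℤ → Submodule k R} [GradedAlgebra 𝒜] {ℬ : ℤ → Submodule k S} [GradedAlgebra ℬ]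
  {𝒯 : ℤ → Submodule k T} [GradedAlgebra 𝒯] {ψ : T →ₐ[k] R ⊗[k] S}
  [Algebra.FiniteType k S] (hposR : ∀ n : ℤ, n < 0 → 𝒜 n = ⊥)
  (hposS : ∀ n : ℤ, n < 0 → ℬ n = ⊥) (h0S : ℬ 0 = Submodule.span k {(1 : S)})
  (hstdS : Ideal.span (⋃ n ∈ Set.Ioi (0 : ℤ), (ℬ n : Set S)) = Ideal.span ((ℬ 1 : Submodule k S) : Set S))

include hposS h0S hstdS in
/-- A standard polynomial ring in one variable, with its evaluation at one. -/
theorem exists_eval_one (hs : ringKrullDim S = 1) (e : S ≃ₐ[k] Polynomial k) :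
    ∃ (z : S) (ε : S →ₐ[k] k), z ∈ ℬ 1 ∧ ε z = 1 ∧ ∀ n : ℕ, ∀ b ∈ ℬ (n : ℤ), ∃ c : k, c • z ^ n = b := by
  classical
  obtain ⟨z, hz, hlin⟩ := onto_of_polynomial hposS h0S e
  have hle : ℬ 1 ≤ Submodule.span k {z} := fun a ha => by
    obtain ⟨c, rfl⟩ := hlin a ha
    exact Submodule.smul_mem _ _ (Submodule.mem_span_singleton_self z)
  have hpow : ∀ n : ℕ, ∀ b ∈ ℬ (n : ℤ), ∃ c : k, c • z ^ n = b := fun n b hb => by
    have := pow_le_pow_left' hle n (piece_le_pow hposS h0S hstdS n hb)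
    rw [Submodule.span_pow, Set.singleton_pow] at this
    exact Submodule.mem_span_singleton.1 this
  let g : Polynomial k →ₐ[k] S := Polynomial.aeval z
  have hsurj : Function.Surjective g := fun a => by
    induction a using DirectSum.Decomposition.inductionOn ℬ with
    | zero => exact ⟨0, map_zero g⟩
    | add a b ha hb =>
      obtain ⟨p, hp⟩ := ha; obtain ⟨q, hq⟩ := hb
      exact ⟨p + q, by rw [map_add, hp, hq]⟩
    | @homogeneous i a =>
      rcases lt_or_ge i 0 with hi | hi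
      · refine ⟨0, ?_⟩
        rw [map_zero]
        exact ((Submodule.mem_bot k).1 ((hposS i hi).le a.2)).symm
      · obtain ⟨n, rfl⟩ := Int.eq_ofNat_of_zero_le hi
        obtain ⟨c, hc⟩ := hpow n a a.2
        exact ⟨c • Polynomial.X ^ n, by rw [map_smul, map_pow, Polynomial.aeval_X, hc]⟩
  have hinj : Function.Injective g := (injective_iff_map_eq_zero g).2 fun p hp => by
    by_contra hne
    have hp' : p ∈ nonZeroDivisors (Polynomial k) := mem_nonZeroDivisors_of_ne_zero hne
    have h1 := ringKrullDim_quotient_succ_le_of_nonZeroDivisor hp'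
    have hdim : ringKrullDim (Polynomial k) = 1 := by
      rw [Polynomial.ringKrullDim_of_isNoetherianRing, ringKrullDim_eq_zero_of_field, zero_add]
    rw [hdim] at h1
    have h2 : ringKrullDim S ≤ ringKrullDim (Polynomial k ⧸ Ideal.span {p}) :=
      ringKrullDim_le_of_surjective (Ideal.Quotient.lift _ g.toRingHom fun a ha => by
        obtain ⟨b, rfl⟩ := Ideal.mem_span_singleton'.1 ha
        rw [map_mul, show g.toRingHom p = 0 from hp, mul_zero]) fun a => by
          obtain ⟨q, hq⟩ := hsurj a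
          exact ⟨Ideal.Quotient.mk _ q, by rw [Ideal.Quotient.lift_mk]; exact hq⟩
    have h3 := (hs ▸ h2).trans (le_zero_of_add_one_le h1)
    exact absurd h3 (by norm_num)
  let E : Polynomial k ≃ₐ[k] S := AlgEquiv.ofBijective g ⟨hinj, hsurj⟩
  refine ⟨z, (Polynomial.aeval (1 : k)).comp E.symm.toAlgHom, hz, ?_, hpow⟩
  have : E Polynomial.X = z := by
    show Polynomial.aeval z Polynomial.X = z
    rw [Polynomial.aeval_X]
  show Polynomial.aeval (1 : k) (E.symm z) = 1
  rw [← this, AlgEquiv.symm_apply_apply, Polynomial.aeval_X]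

include hposR hposS h0S hstdS in
/-- The Segre product with a polynomial ring in one variable is the other factor. -/
theorem nonempty_equiv_of_polynomial (hT : GrSeg.IsSegreRing 𝒜 ℬ 𝒯 ψ) (hs : ringKrullDim S = 1)
    (e : S ≃ₐ[k] Polynomial k) : Nonempty (T ≃+* R) := by
  classical
  obtain ⟨z, ε, hz, hεz, hpow⟩ := exists_eval_one hposS h0S hstdS hs e
  let Φ : R ⊗[k] S →ₐ[k] R :=
    (Algebra.TensorProduct.rid k k R).toAlgHom.comp (Algebra.TensorProduct.map (AlgHom.id k R) ε)
  let φ : T →ₐ[k] R := Φ.comp ψ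
  have hΦ : ∀ a b, Φ (a ⊗ₜ b) = ε b • a := fun a b => by simp [Φ]
  have hzn : ∀ n : ℕ, z ^ n ∈ ℬ (n : ℤ) := fun n => by
    have := SetLike.pow_mem_graded (A := ℬ) n hz
    rwa [nsmul_one] at this
  have key : ∀ n : ℕ, ∀ t ∈ 𝒯 (n : ℤ), φ t ∈ 𝒜 (n : ℤ) ∧ ψ t = φ t ⊗ₜ (z ^ n) := fun n t ht => by
    refine piece_induction_T hT (P := fun t => φ t ∈ 𝒜 (n : ℤ) ∧ ψ t = φ t ⊗ₜ (z ^ n)) ?_ ?_ ?_ ?_ ht
    · exact ⟨by rw [map_zero]; exact zero_mem _, by rw [map_zero, map_zero, TensorProduct.zero_tmul]⟩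
    · rintro x y ⟨hx, hx'⟩ ⟨hy, hy'⟩
      exact ⟨by rw [map_add]; exact add_mem hx hy, by rw [map_add, map_add, hx', hy', TensorProduct.add_tmul]⟩
    · rintro c x ⟨hx, hx'⟩
      exact ⟨by rw [map_smul]; exact Submodule.smul_mem _ c hx,
        by rw [map_smul, map_smul, hx', TensorProduct.smul_tmul']⟩
    · intro t _ a ha b hb e'
      obtain ⟨c, rfl⟩ := hpow n b hb
      have hφ : φ t = c • a := by
        show Φ (ψ t) = _
        rw [e', hΦ, map_smul, map_pow, hεz, one_pow, smul_eq_mul, mul_one]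
      refine ⟨by rw [hφ]; exact Submodule.smul_mem _ c ha, ?_⟩
      rw [e', hφ, TensorProduct.smul_tmul]
  have hnat : ∀ (i : ℤ) (t : T), t ∈ 𝒯 i → t = 0 ∨ ∃ n : ℕ, i = n := fun i t ht => by
    rcases lt_or_ge i 0 with hi | hi
    · exact .inl ((Submodule.eq_bot_iff _).1 (pos_T hT hposR i hi) t ht)
    · exact .inr (Int.eq_ofNat_of_zero_le hi)
  have hcomp : ∀ i t, φ (decompose 𝒯 t i : T) = (decompose 𝒜 (φ t) i : R) := fun i t => by
    induction t using DirectSum.Decomposition.inductionOn 𝒯 with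
    | zero => simp
    | add a b ha hb => simp [map_add, ha, hb]
    | @homogeneous j t =>
      have hj : φ t ∈ 𝒜 j := by
        rcases hnat j t t.2 with h | ⟨n, rfl⟩
        · rw [h, map_zero]; exact zero_mem _
        · exact (key n t t.2).1
      by_cases h : j = i
      · subst h
        rw [decompose_of_mem_same 𝒯 t.2, decompose_of_mem_same 𝒜 hj]
      · rw [decompose_of_mem_ne 𝒯 t.2 h, decompose_of_mem_ne 𝒜 hj h, map_zero]
  have hinj : Function.Injective φ := (injective_iff_map_eq_zero φ).2 fun t ht => by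
    rw [← DirectSum.sum_support_decompose 𝒯 t]
    refine Finset.sum_eq_zero fun i _ => ?_
    have h0 : φ (decompose 𝒯 t i : T) = 0 := by rw [hcomp, ht, decompose_zero]; simp
    rcases hnat i _ (decompose 𝒯 t i).2 with h | ⟨n, rfl⟩
    · exact h
    · refine hT.1 ?_
      rw [(key n _ (decompose 𝒯 t n).2).2, h0, TensorProduct.zero_tmul, map_zero]
  have hsurj : Function.Surjective φ := fun a => by
    induction a using DirectSum.Decomposition.inductionOn 𝒜 with
    | zero => exact ⟨0, map_zero φ⟩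
    | add a b ha hb =>
      obtain ⟨p, hp⟩ := ha; obtain ⟨q, hq⟩ := hb
      exact ⟨p + q, by rw [map_add, hp, hq]⟩
    | @homogeneous i a =>
      rcases lt_or_ge i 0 with hi | hi
      · exact ⟨0, by rw [map_zero]; exact ((Submodule.eq_bot_iff _).1 (hposR i hi) a a.2).symm⟩
      · obtain ⟨n, rfl⟩ := Int.eq_ofNat_of_zero_le hi
        have : (a : R) ⊗ₜ[k] (z ^ n) ∈ (𝒯 (n : ℤ)).map ψ.toLinearMap := by
          rw [hT.2 (n : ℤ)]
          exact Submodule.subset_span ⟨a.1, a.2, z ^ n, hzn n, rfl⟩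
        obtain ⟨t, -, e'⟩ := Submodule.mem_map.1 this
        refine ⟨t, ?_⟩
        show Φ (ψ t) = _
        rw [show ψ t = (a : R) ⊗ₜ[k] (z ^ n) from e', hΦ, map_pow, hεz, one_pow, one_smul]
  exact ⟨RingEquiv.ofBijective φ.toRingHom ⟨hinj, hsurj⟩⟩

end SegreLC
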