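import Groth.Agent.SegreLC.Wrap
import Groth.Agent.GrModLib.Graded
import Groth.Agent.GrModLib.Van
import Mathlib

/-! Vanishing of the local cohomology of a Segre product. -/

set_option autoImplicit false
set_option maxHeartbeats 800000
universe u

open scoped TensorProduct
open DirectSum GrModLib

namespace SegreLC

variable {k : Type u} [Field k] {R : Type u} [CommRing R] [Algebra k R] {𝒜 : ℤ → Submodule k R} [GradedAlgebra 𝒜]

theorem subsingleton_H_iff_Hd [IsNoetherianRing R] {X : GrLC.GMod.{u} (toAdd 𝒜)}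
    (E : GrLC.StarInjRes (toAdd 𝒜) X.gr) (a : HomogeneousIdeal (toAdd 𝒜)) (i : ℕ) :
    Subsingleton (LocCoh.H a.toIdeal i X.carrier) ↔ ∀ d, Subsingleton (Hd E a i d) := by
  obtain ⟨e⟩ := nonempty_H_equiv E a i
  rw [← e.toEquiv.subsingleton_congr]
  refine ⟨fun h d => ⟨fun x y => Subtype.ext (Subsingleton.elim _ _)⟩, fun h => ?_⟩
  letI := (Hgr_isInternal E a i).chooseDecomposition
  refine subsingleton_of_forall_eq 0 fun x => ?_
  induction x using DirectSum.Decomposition.inductionOn (E.Hgr a i) with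
  | zero => rfl
  | add u v hu hv => rw [hu, hv, add_zero]
  | @homogeneous d z => exact congrArg Subtype.val (@Subsingleton.elim _ (h d) ⟨z.1, z.2⟩ 0)

theorem Hcomp_eq_bot_iff_Hd {M : Type u} [AddCommGroup M] [Module R M] {τ : Type u} [SetLike τ M]
    [AddSubgroupClass τ M] {ℳ : ℤ → τ} [DirectSum.Decomposition ℳ] [SetLike.GradedSMul 𝒜 ℳ]
    (E : GrLC.StarInjRes 𝒜 ℳ) (a : HomogeneousIdeal 𝒜) (q : ℕ) (d : ℤ) :
    E.Hcomp a q d = ⊥ ↔ Subsingleton (Hd (resOfG E) (toAddIdeal a) q d) := by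
  refine ⟨subsingleton_Hd E a q d, fun h => (Submodule.eq_bot_iff _).2 fun x hx => ?_⟩
  exact congrArg Subtype.val (@Subsingleton.elim _ h ⟨x, hx⟩ 0)

theorem piece_eq_bot_iff {M : Type u} [AddCommGroup M] [Module R M] (ℳ : ℤ → AddSubgroup M)
    [DirectSum.Decomposition ℳ] [SetLike.GradedSMul 𝒜 ℳ] (d : ℤ) :
    ℳ d = ⊥ ↔ Subsingleton (kpiece (ofG 𝒜 M ℳ) d) :=
  ⟨fun h => ⟨fun x y => Subtype.ext (((AddSubgroup.eq_bot_iff_forall _).1 h x.1 x.2).trans
      ((AddSubgroup.eq_bot_iff_forall _).1 h y.1 y.2).symm)⟩,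
    fun h => (AddSubgroup.eq_bot_iff_forall _).2 fun x hx =>
      congrArg Subtype.val (@Subsingleton.elim _ h ⟨x, hx⟩ 0)⟩

variable {S T : Type u} [CommRing S] [Algebra k S] [CommRing T] [Algebra k T]
  {ℬ : ℤ → Submodule k S} [GradedAlgebra ℬ] {𝒯 : ℤ → Submodule k T} [GradedAlgebra 𝒯] {ψ : T →ₐ[k] R ⊗[k] S}
  {mR : HomogeneousIdeal 𝒜} {mS : HomogeneousIdeal ℬ} {mT : HomogeneousIdeal 𝒯}
  (hmR : mR.toIdeal = Ideal.span (⋃ n ∈ Set.Ioi (0 : ℤ), (𝒜 n : Set R)))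
  (hmS : mS.toIdeal = Ideal.span (⋃ n ∈ Set.Ioi (0 : ℤ), (ℬ n : Set S)))
  (hmT : mT.toIdeal = Ideal.span (⋃ n ∈ Set.Ioi (0 : ℤ), (𝒯 n : Set T)))
  (hposR : ∀ n : ℤ, n < 0 → 𝒜 n = ⊥) (h0R : 𝒜 0 = Submodule.span k {(1 : R)})
  (hposS : ∀ n : ℤ, n < 0 → ℬ n = ⊥) (h0S : ℬ 0 = Submodule.span k {(1 : S)})

include hmR hmS hmT hposR h0R hposS h0S in
/-- Vanishing of the cohomology of the Segre product of two modules with cohomology in one degree each. -/
theorem segre_vanish_iff (hT : GrSeg.IsSegreRing 𝒜 ℬ 𝒯 ψ) [IsNoetherianRing R] [IsNoetherianRing S]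
    [IsNoetherianRing T] {M : GrLC.GMod.{u} (toAdd 𝒜)} {N : GrLC.GMod.{u} (toAdd ℬ)}
    [Module.Finite R M.carrier] [Module.Finite S N.carrier] (s₀ : Seg 𝒯 ψ M N) [Module.Finite T s₀.Z.carrier]
    (hposT : ∀ n : ℤ, n < 0 → 𝒯 n = ⊥) (h0T : 𝒯 0 = Submodule.span k {(1 : T)})
    (EM : GrLC.StarInjRes (toAdd 𝒜) M.gr) (EN : GrLC.StarInjRes (toAdd ℬ) N.gr) {r s : ℕ}
    (hM : ∀ i, i ≠ r + 2 → Subsingleton (LocCoh.H mR.toIdeal i M.carrier))
    (hN : ∀ i, i ≠ s + 2 → Subsingleton (LocCoh.H mS.toIdeal i N.carrier)) (q : ℕ) :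
    Subsingleton (LocCoh.H mT.toIdeal q s₀.Z.carrier) ↔ ∀ d : ℤ,
      (q = s + 2 → Subsingleton (kpiece M d) ∨ Subsingleton (Hd EN (toAddIdeal mS) (s + 2) d)) ∧
      (q = r + 2 → Subsingleton (Hd EM (toAddIdeal mR) (r + 2) d) ∨ Subsingleton (kpiece N d)) ∧
      (q + 1 = r + 2 + (s + 2) → Subsingleton (Hd EM (toAddIdeal mR) (r + 2) d) ∨
        Subsingleton (Hd EN (toAddIdeal mS) (s + 2) d)) := by
  obtain ⟨F⟩ := nonempty_resG s₀.Z
  refine (subsingleton_H_iff_Hd F (toAddIdeal mT) q).trans (forall_congr' fun d => ?_)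
  haveI := finite_kpiece h0R M d
  haveI := finite_kpiece h0S N d
  haveI : ∀ i, Module.Finite k (Hd EM (toAddIdeal mR) i d) := fun i => finite_Hd hposR h0R hmR EM i d
  haveI : ∀ i, Module.Finite k (Hd EN (toAddIdeal mS) i d) := fun i => finite_Hd hposS h0S hmS EN i d
  have hM' : ∀ i, i ≠ r + 2 → Subsingleton (Hd EM (toAddIdeal mR) i d) := fun i hi =>
    (subsingleton_H_iff_Hd EM (toAddIdeal mR) i).1 (hM i hi) d
  have hN' : ∀ i, i ≠ s + 2 → Subsingleton (Hd EN (toAddIdeal mS) i d) := fun i hi =>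
    (subsingleton_H_iff_Hd EN (toAddIdeal mS) i).1 (hN i hi) d
  have key := finrank_segre hT EM EN s₀ F hmR hmS hmT hposR h0R hposS h0S d
    (fun i hi => hM' i (by omega)) (fun i hi => hN' i (by omega)) q
  haveI : Module.Finite k (Hd F (toAddIdeal mT) q d) :=
    finite_Hd hposT h0T hmT F q d
  rw [← Module.finrank_zero_iff (R := k), key]
  have hM0 : ∀ i, i ≠ r + 2 → Module.finrank k (Hd EM (toAddIdeal mR) i d) = 0 := fun i hi =>
    Module.finrank_zero_iff.2 (hM' i hi)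
  have hN0 : ∀ i, i ≠ s + 2 → Module.finrank k (Hd EN (toAddIdeal mS) i d) = 0 := fun i hi =>
    Module.finrank_zero_iff.2 (hN' i hi)
  simp only [Nat.add_eq_zero_iff, Nat.mul_eq_zero, Finset.sum_eq_zero_iff, Finset.mem_range,
    ← Module.finrank_zero_iff (R := k)]
  constructor
  · rintro ⟨⟨h1, h2⟩, h3⟩
    refine ⟨fun hq => ?_, fun hq => ?_, fun hq => ?_⟩
    · subst hq; exact h1
    · subst hq; exact h2
    · have := h3 (r + 2) (by omega)
      rwa [show q + 1 - (r + 2) = s + 2 by omega] at this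
  · rintro ⟨h1, h2, h3⟩
    refine ⟨⟨?_, ?_⟩, fun i hi => ?_⟩
    · by_cases hq : q = s + 2
      · rw [hq]; exact h1 hq
      · exact .inr (hN0 q hq)
    · by_cases hq : q = r + 2
      · rw [hq]; exact h2 hq
      · exact .inl (hM0 q hq)
    · by_cases hi' : i = r + 2
      · subst hi'
        by_cases hj : q + 1 - (r + 2) = s + 2
        · rw [hj]; exact h3 (by omega)
        · exact .inr (hN0 _ hj)
      · exact .inl (hM0 i hi')

end SegreLC
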