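import Groth.Agent.SegreLC.DimSeg
import Groth.Agent.SegreLC.VanSeg
import Mathlib

/-! Cohen–Macaulay Segre products. -/

set_option autoImplicit false
set_option maxHeartbeats 800000
universe u

open scoped TensorProduct
open DirectSum GrModLib MvPolynomial

namespace SegreLC

/-- Every localisation is zero or Cohen–Macaulay. -/
def IsCMMod (A : Type u) [CommRing A] (X : Type u) [AddCommGroup X] [Module A X] : Prop :=
  ∀ (q : Ideal A) [q.IsPrime], Subsingleton (LocalizedModule q.primeCompl X) ∨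
    LocCoh.IsCohenMacaulayModule (Localization.AtPrime q) (LocalizedModule q.primeCompl X)

variable {k : Type u} [Field k] {R : Type u} [CommRing R] [Algebra k R]

/-- The irrelevant ideal of an algebra grading. -/
def posIdeal' (𝒜 : ℤ → Submodule k R) [GradedAlgebra 𝒜] : HomogeneousIdeal 𝒜 :=
  ⟨Ideal.span (⋃ n ∈ Set.Ioi (0 : ℤ), (𝒜 n : Set R)),
    Ideal.homogeneous_span 𝒜 _ fun x hx => by
      obtain ⟨n, _, hx⟩ := Set.mem_iUnion₂.1 hx
      exact ⟨n, hx⟩⟩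

variable {𝒜 : ℤ → Submodule k R} [GradedAlgebra 𝒜]
  {M : Type u} [AddCommGroup M] [Module R M] {τ : Type u} [SetLike τ M] [AddSubgroupClass τ M]
  {ℳ : ℤ → τ} [DirectSum.Decomposition ℳ] [SetLike.GradedSMul 𝒜 ℳ]

section Max

variable (hpos : ∀ n : ℤ, n < 0 → 𝒜 n = ⊥) (h0 : 𝒜 0 = Submodule.span k {(1 : R)})
  {m : HomogeneousIdeal 𝒜} (hm : m.toIdeal = Ideal.span (⋃ n ∈ Set.Ioi (0 : ℤ), (𝒜 n : Set R)))

include hpos h0 hm in
theorem sub_decompose_mem (a : R) : a - (decompose 𝒜 a 0 : R) ∈ m.toIdeal := by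
  classical
  have h1 : a - (decompose 𝒜 a 0 : R) = ∑ j ∈ (decompose 𝒜 a).support.erase 0, (decompose 𝒜 a j : R) := by
    rw [sub_eq_iff_eq_add]
    by_cases h : (0 : ℤ) ∈ (decompose 𝒜 a).support
    · rw [Finset.sum_erase_add _ _ h, DirectSum.sum_support_decompose]
    · rw [Finset.erase_eq_of_notMem h, DirectSum.sum_support_decompose, DFinsupp.notMem_support_iff.1 h,
        ZeroMemClass.coe_zero, add_zero]
  rw [h1]
  refine Ideal.sum_mem _ fun j hj => ?_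
  rcases lt_trichotomy j 0 with hj0 | hj0 | hj0
  · have h := (hpos j hj0).le (decompose 𝒜 a j).2
    rw [Submodule.mem_bot] at h
    rw [h]; exact zero_mem _
  · exact absurd hj0 (Finset.mem_erase.1 hj).1
  · rw [hm]; exact Ideal.subset_span (Set.mem_biUnion (Set.mem_Ioi.2 hj0) (decompose 𝒜 a j).2)

include hpos h0 hm in
theorem scalar_notMem [Nontrivial R] {c : k} (hc : c ≠ 0) : algebraMap k R c ∉ m.toIdeal := fun h => by
  have hpos' : ∀ n : ℤ, n < 0 → toAdd 𝒜 n = ⊥ := fun n hn => (AddSubgroup.eq_bot_iff_forall _).2 fun x hx => by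
    have : x ∈ 𝒜 n := hx
    rwa [hpos n hn, Submodule.mem_bot] at this
  have h1 : pr (toAdd 𝒜) 0 (algebraMap k R c) = 0 := pr_zero_posIdeal hpos' _ (hm.le h)
  rw [pr_self (toAdd 𝒜) (show algebraMap k R c ∈ toAdd 𝒜 0 from algebraMap_mem_deg0 (𝒜 := 𝒜) c)] at h1
  exact ((isUnit_iff_ne_zero.2 hc).map (algebraMap k R)).ne_zero h1

include hpos h0 hm in
theorem isMaximal_pos [Nontrivial R] : (toAddIdeal m).toIdeal.IsMaximal := by
  rw [toAddIdeal_toIdeal, Ideal.isMaximal_iff]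
  refine ⟨fun h => scalar_notMem hpos h0 hm (one_ne_zero (α := k)) (by rwa [map_one]), fun J a hle ha haJ => ?_⟩
  obtain ⟨c, hc⟩ := exists_scalar h0 (decompose 𝒜 a 0).2
  have h1 : algebraMap k R c ∈ J := by
    rw [hc, show (decompose 𝒜 a 0 : R) = a - (a - decompose 𝒜 a 0) by ring]
    exact J.sub_mem haJ (hle (sub_decompose_mem hpos h0 hm a))
  have hc0 : c ≠ 0 := fun h => ha (by
    rw [h, map_zero] at hc
    simpa [← hc] using sub_decompose_mem hpos h0 hm a)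
  rw [← Ideal.eq_top_iff_one]
  exact Ideal.eq_top_of_isUnit_mem _ h1 ((isUnit_iff_ne_zero.2 hc0).map (algebraMap k R))

include hpos h0 hm in
theorem le_pos (c : HomogeneousIdeal (toAdd 𝒜)) (hc : c ≠ ⊤) : c ≤ toAddIdeal m := fun a ha => by
  have h1 := c.isHomogeneous 0 ha
  have h2 := sub_decompose_mem hpos h0 hm a
  obtain ⟨e, he⟩ := exists_scalar h0 (show (decompose (toAdd 𝒜) a 0 : R) ∈ 𝒜 0 from (decompose (toAdd 𝒜) a 0).2)
  by_cases he0 : e = 0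
  · rw [he0, map_zero] at he
    have hz : (decompose 𝒜 a 0 : R) = 0 := (pr_toAdd 𝒜 0 a).symm.trans he.symm
    rw [hz, sub_zero] at h2
    exact h2
  · exact absurd (HomogeneousIdeal.ext (by
      rw [HomogeneousIdeal.toIdeal_top]
      exact Ideal.eq_top_of_isUnit_mem _ (he ▸ h1) ((isUnit_iff_ne_zero.2 he0).map (algebraMap k R)))) hc

end Max

variable {S T : Type u} [CommRing S] [Algebra k S] [CommRing T] [Algebra k T]
  {ℬ : ℤ → Submodule k S} [GradedAlgebra ℬ] {𝒯 : ℤ → Submodule k T} [GradedAlgebra 𝒯] {ψ : T →ₐ[k] R ⊗[k] S}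
  {N : Type u} [AddCommGroup N] [Module S N] {τ' : Type u} [SetLike τ' N] [AddSubgroupClass τ' N]
  {𝒩 : ℤ → τ'} [DirectSum.Decomposition 𝒩] [SetLike.GradedSMul ℬ 𝒩]
  [Module k M] [IsScalarTower k R M] [Module k N] [IsScalarTower k S N]
  {P : Type u} [AddCommGroup P] [Module T P] [Module k P] [IsScalarTower k T P] {τP : Type u} [SetLike τP P]
  [AddSubgroupClass τP P] {𝒬 : ℤ → τP} [DirectSum.Decomposition 𝒬] {φ : P →ₗ[k] M ⊗[k] N}

theorem exists_piece_ne (hP : GrSeg.IsSegreMod ψ ℳ 𝒩 𝒬 φ) [Nontrivial P] :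
    ∃ (d : ℤ) (a : M) (b : N), a ∈ ℳ d ∧ b ∈ 𝒩 d ∧ a ≠ 0 ∧ b ≠ 0 := by
  classical
  obtain ⟨p, hp⟩ := exists_ne (0 : P)
  obtain ⟨d, hd⟩ : ∃ d, (decompose 𝒬 p d : P) ≠ 0 := by
    by_contra hcon
    push Not at hcon
    exact hp (by rw [← DirectSum.sum_support_decompose 𝒬 p, Finset.sum_eq_zero fun d _ => hcon d])
  have h1 : φ (decompose 𝒬 p d : P) ∈ GrSeg.segrePiece k ℳ 𝒩 d :=
    (Set.ext_iff.1 (hP.image_piece d) _).1 ⟨_, (decompose 𝒬 p d).2, rfl⟩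
  by_contra hcon
  push Not at hcon
  refine hd (hP.injective ?_)
  rw [map_zero]
  have hb : GrSeg.segrePiece k ℳ 𝒩 d = ⊥ := Submodule.span_eq_bot.2 (by
    rintro _ ⟨a, ha, b, hb, rfl⟩
    by_cases ha0 : a = 0
    · rw [ha0, TensorProduct.zero_tmul]
    · rw [hcon d a b ha hb ha0, TensorProduct.tmul_zero])
  rwa [hb, Submodule.mem_bot] at h1

variable (hposR : ∀ n : ℤ, n < 0 → 𝒜 n = ⊥) (h0R : 𝒜 0 = Submodule.span k {(1 : R)})
  (hposS : ∀ n : ℤ, n < 0 → ℬ n = ⊥) (h0S : ℬ 0 = Submodule.span k {(1 : S)})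
  [Algebra.FiniteType k R] [Algebra.FiniteType k S] [Module.Finite R M] [Module.Finite S N]

include hposR h0R ℳ in
variable (ℳ) in
/-- Unmixedness of a Cohen–Macaulay module over a connected algebra. -/
theorem exists_prime_of_cm {r : ℕ} (hd : Module.supportDim R M = r) (hcm : IsCMMod R M) {g : ℤ} {v : M}
    (hv : v ∈ ℳ g) (hv0 : v ≠ 0) :
    ∃ Q : Ideal R, Q.IsPrime ∧ Module.annihilator R M ≤ Q ∧ (r : WithBot ℕ∞) ≤ ringKrullDim (R ⧸ Q) ∧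
      ∀ a : R, a • v = 0 → a ∈ Q := by
  haveI : Nontrivial M := ⟨v, 0, hv0⟩
  haveI : Nontrivial R := Module.nontrivial R M
  haveI : IsNoetherianRing R := Algebra.FiniteType.isNoetherianRing k R
  let m : HomogeneousIdeal 𝒜 := posIdeal' 𝒜
  have hm : m.toIdeal = Ideal.span (⋃ n ∈ Set.Ioi (0 : ℤ), (𝒜 n : Set R)) := rfl
  haveI := isMaximal_pos hposR h0R hm
  refine exists_ass_dim (ℱ := toAdd 𝒜) (m := toAddIdeal m) (le_pos hposR h0R hm) hd ?_ (toAdd ℳ)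
    (g := g) (v := v) hv hv0
  refine (hcm _).resolve_left ?_
  rw [not_subsingleton_iff_nontrivial]
  exact Module.mem_support_iff.1 (m_mem_support (𝒜 := toAdd 𝒜) (toAdd ℳ) (le_pos hposR h0R hm))

include hposR h0R hposS h0S ℳ 𝒩 in
/-- The dimension from two torsion-free elements. -/
theorem supportDim_segre_eq (hT : GrSeg.IsSegreRing 𝒜 ℬ 𝒯 ψ) (hP : GrSeg.IsSegreMod ψ ℳ 𝒩 𝒬 φ) {r s : ℕ}
    (hdM : Module.supportDim R M = (r + 1 : ℕ)) (hdN : Module.supportDim S N = (s + 1 : ℕ))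
    {d : ℤ} {a : M} {b : N} (ha : a ∈ ℳ d) (hb : b ∈ 𝒩 d)
    (hQ : ∃ Q : Ideal R, Q.IsPrime ∧ Module.annihilator R M ≤ Q ∧
      ((r + 1 : ℕ) : WithBot ℕ∞) ≤ ringKrullDim (R ⧸ Q) ∧ ∀ x : R, x • a = 0 → x ∈ Q)
    (hQ' : ∃ Q : Ideal S, Q.IsPrime ∧ Module.annihilator S N ≤ Q ∧
      ((s + 1 : ℕ) : WithBot ℕ∞) ≤ ringKrullDim (S ⧸ Q) ∧ ∀ x : S, x • b = 0 → x ∈ Q) :
    Module.supportDim T P = ((r + 1 + s : ℕ) : WithBot ℕ∞) := by
  refine le_antisymm (supportDim_segre_le hT hP hposR h0R hposS h0S hdM hdN) ?_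
  haveI := finiteType_T hT hposR h0R h0S
  obtain ⟨Q, hQp, hI, hQd, hQa⟩ := hQ
  obtain ⟨Q', hQp', hI', hQd', hQb⟩ := hQ'
  obtain ⟨D₁, hD₁, hR⟩ := exists_normalisation_ann (𝒜 := 𝒜) ℳ hposR h0R hdM
  obtain ⟨D₂, hD₂, hS⟩ := exists_normalisation_ann (𝒜 := ℬ) 𝒩 hposS h0S hdN
  obtain ⟨x, hx, hfx, -⟩ := hR D₂ hD₂
  obtain ⟨y, hy, hfy, -⟩ := hS D₁ hD₁
  obtain ⟨p, -, hp⟩ := (Set.ext_iff.1 (hP.image_piece d) (a ⊗ₜ[k] b)).2 (tmul_mem_segrePiece ha hb)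
  refine le_supportDim_segre x y ψ φ hP.map_smul (fun i j => ?_)
    (smul_eq_zero_aeval x hfx Q hI hQd hQa) (smul_eq_zero_aeval y hfy Q' hI' hQd' hQb) hp
  obtain ⟨t, -, ht⟩ := exists_psi_eq hT (n := ((D₁ * D₂ : ℕ) : ℤ)) (w := x i ⊗ₜ[k] y j)
    (tmul_mem_segrePiece (hx i) ((Nat.mul_comm D₂ D₁) ▸ hy j))
  exact ⟨t, ht⟩

include hposR h0R hposS h0S ℳ 𝒩 in
/-- The dimension of a Segre product of Cohen–Macaulay modules. -/
theorem supportDim_segre_cm (hT : GrSeg.IsSegreRing 𝒜 ℬ 𝒯 ψ) (hP : GrSeg.IsSegreMod ψ ℳ 𝒩 𝒬 φ) [Nontrivial P]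
    {r s : ℕ} (hdM : Module.supportDim R M = (r + 1 : ℕ)) (hdN : Module.supportDim S N = (s + 1 : ℕ))
    (hMcm : IsCMMod R M) (hNcm : IsCMMod S N) :
    Module.supportDim T P = ((r + 1 + s : ℕ) : WithBot ℕ∞) := by
  obtain ⟨d, a, b, ha, hb, ha0, hb0⟩ := exists_piece_ne hP
  exact supportDim_segre_eq hposR h0R hposS h0S hT hP hdM hdN ha hb
    (exists_prime_of_cm ℳ hposR h0R hdM hMcm ha ha0) (exists_prime_of_cm 𝒩 hposS h0S hdN hNcm hb hb0)

include hposR h0R ℳ in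
variable (ℳ) in
/-- Cohen–Macaulay modules have cohomology in one degree. -/
theorem subsingleton_H_ne {r : ℕ} (hd : Module.supportDim R M = r) (hcm : IsCMMod R M)
    {m : HomogeneousIdeal 𝒜} (hm : m.toIdeal = Ideal.span (⋃ n ∈ Set.Ioi (0 : ℤ), (𝒜 n : Set R)))
    {i : ℕ} (hi : i ≠ r) : Subsingleton (LocCoh.H m.toIdeal i M) := by
  haveI : IsNoetherianRing R := Algebra.FiniteType.isNoetherianRing k R
  rcases lt_or_gt_of_ne hi with hlt | hgt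
  · haveI : Nontrivial M := (Module.supportDim_ne_bot_iff_nontrivial R M).1 (by rw [hd]; exact WithBot.coe_ne_bot)
    haveI : Nontrivial R := Module.nontrivial R M
    haveI := isMaximal_pos hposR h0R hm
    exact subsingleton_H_of_cm (𝒜 := toAdd 𝒜) (m := toAddIdeal m) (le_pos hposR h0R hm) (toAdd ℳ) hd hcm i hlt
  · exact LocCohLib.subsingleton_H_of_supportDim_lt i M (by rw [hd]; exact_mod_cast hgt)

include hposR h0R hposS h0S in
/-- Two-by-two criterion, from the two vanishing conditions. -/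
theorem cm_segre_iff (hT : GrSeg.IsSegreRing 𝒜 ℬ 𝒯 ψ) (hP : GrSeg.IsSegreMod ψ ℳ 𝒩 𝒬 φ) [Nontrivial P]
    {r s : ℕ} (hdM : Module.supportDim R M = (r + 2 : ℕ)) (hdN : Module.supportDim S N = (s + 2 : ℕ))
    (hMcm : IsCMMod R M) (hNcm : IsCMMod S N)
    {mR : HomogeneousIdeal 𝒜} (hmR : mR.toIdeal = Ideal.span (⋃ n ∈ Set.Ioi (0 : ℤ), (𝒜 n : Set R)))
    {mS : HomogeneousIdeal ℬ} (hmS : mS.toIdeal = Ideal.span (⋃ n ∈ Set.Ioi (0 : ℤ), (ℬ n : Set S)))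
    (EM : GrLC.StarInjRes (toAdd 𝒜) (ofG 𝒜 M ℳ).gr) (EN : GrLC.StarInjRes (toAdd ℬ) (ofG ℬ N 𝒩).gr) :
    IsCMMod T P ↔
      (∀ d, Subsingleton (kpiece (ofG 𝒜 M ℳ) d) ∨ Subsingleton (Hd EN (toAddIdeal mS) (s + 2) d)) ∧
        (∀ d, Subsingleton (Hd EM (toAddIdeal mR) (r + 2) d) ∨ Subsingleton (kpiece (ofG ℬ N 𝒩) d)) := by
  haveI : IsNoetherianRing R := Algebra.FiniteType.isNoetherianRing k R
  haveI : IsNoetherianRing S := Algebra.FiniteType.isNoetherianRing k S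
  haveI := isNoetherianRing_T hT
  haveI := gradedSMul_of_isSegreMod hT ℳ 𝒩 𝒬 hP
  haveI := finite_P hT hP
  haveI := finiteType_T hT hposR h0R h0S
  haveI : Nontrivial T := Module.nontrivial T P
  haveI := finite_ofG (𝒜 := 𝒜) (ℳ := ℳ)
  haveI := finite_ofG (𝒜 := ℬ) (ℳ := 𝒩)
  have hposT := pos_T hT hposR
  have h0T := exists_scalar_T hT h0R h0S
  let mT : HomogeneousIdeal 𝒯 := posIdeal' 𝒯
  have hmT : mT.toIdeal = Ideal.span (⋃ n ∈ Set.Ioi (0 : ℤ), (𝒯 n : Set T)) := rfl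
  haveI := isMaximal_pos hposT h0T hmT
  have hd : Module.supportDim T P = ((r + s + 3 : ℕ) : WithBot ℕ∞) := by
    rw [supportDim_segre_cm hposR h0R hposS h0S hT hP (r := r + 1) (s := s + 1) hdM hdN hMcm hNcm]
    exact congrArg (Nat.cast (R := WithBot ℕ∞)) (by omega)
  let s₀ : Seg 𝒯 ψ (ofG 𝒜 M ℳ) (ofG ℬ N 𝒩) := segOf ℳ 𝒩 𝒬 hP
  haveI : Module.Finite T s₀.Z.carrier := ‹Module.Finite T P›
  have hv := fun q => segre_vanish_iff hmR hmS hmT hposR h0R hposS h0S hT s₀ hposT h0T EM EN (r := r) (s := s)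
    (fun i hi => subsingleton_H_ne (𝒜 := 𝒜) ℳ hposR h0R hdM hMcm hmR hi)
    (fun i hi => subsingleton_H_ne (𝒜 := ℬ) 𝒩 hposS h0S hdN hNcm hmS hi) q
  constructor
  · intro h
    exact ⟨fun d => ((hv (s + 2)).1 (subsingleton_H_ne (𝒜 := 𝒯) 𝒬 hposT h0T hd h hmT (by omega)) d).1 rfl,
      fun d => ((hv (r + 2)).1 (subsingleton_H_ne (𝒜 := 𝒯) 𝒬 hposT h0T hd h hmT (by omega)) d).2.1 rfl⟩
  · rintro ⟨h1, h2⟩ p _
    refine cm_of_subsingleton_H (𝒜 := toAdd 𝒯) (toAdd 𝒬) (m := toAddIdeal mT) (le_pos hposT h0T hmT) hd ?_ p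
    intro i hi
    exact (hv i).2 fun d => ⟨fun _ => h1 d, fun _ => h2 d, fun h => by omega⟩

end SegreLC
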