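import Groth.Agent.SegreLC.VanSeg
import Groth.Agent.SegreLC.CM
import Mathlib

/-! Segre products with a factor of dimension one. -/

set_option autoImplicit false
set_option maxHeartbeats 800000
universe u

open scoped TensorProduct
open DirectSum GrModLib

namespace SegreLC

variable {k : Type u} [Field k]

section Lin

variable {X X' Y Y' : ℕ → Type u} [∀ n, AddCommGroup (X n)] [∀ n, Module k (X n)] [∀ n, AddCommGroup (X' n)]
  [∀ n, Module k (X' n)] [∀ n, AddCommGroup (Y n)] [∀ n, Module k (Y n)] [∀ n, AddCommGroup (Y' n)]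
  [∀ n, Module k (Y' n)] {A B : Type u} [AddCommGroup A] [Module k A] [AddCommGroup B] [Module k B]
  {dX : ∀ n, X n →ₗ[k] X (n + 1)} {dX' : ∀ n, X' n →ₗ[k] X' (n + 1)} {qX : ∀ n, X n →ₗ[k] X' n}
  {dY : ∀ n, Y n →ₗ[k] Y (n + 1)} {dY' : ∀ n, Y' n →ₗ[k] Y' (n + 1)} {qY : ∀ n, Y n →ₗ[k] Y' n}
  (SX : Setup dX dX' qX A) (SY : Setup dY dY' qY B) {H : Type u} [AddCommGroup H] [Module k H]

theorem Setup.injective_of_deg_zero [Subsingleton H] (Ψ : Zk dX qX 0 →ₗ[k] H) (hs : Function.Surjective Ψ)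
    (hk : LinearMap.ker Ψ = (Bk dX qX 0).comap (Zk dX qX 0).subtype) :
    Function.Injective (qX 0 ∘ₗ SX.ε) := by
  obtain ⟨e⟩ := SX.deg_zero Ψ hs hk
  refine LinearMap.ker_eq_bot.1 (eq_bot_iff.2 fun a ha => ?_)
  exact congrArg Subtype.val (e.injective (Subsingleton.elim (e ⟨a, ha⟩) (e 0)))

theorem Setup.subsingleton_one_iff (Ψ : Zk dX qX 1 →ₗ[k] H) (hs : Function.Surjective Ψ)
    (hk : LinearMap.ker Ψ = (Bk dX qX 1).comap (Zk dX qX 1).subtype) :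
    Subsingleton H ↔ LinearMap.range (qX 0 ∘ₗ SX.ε) = LinearMap.range (SX.sp.e 0) := by
  obtain ⟨Θ, hΘ, hk'⟩ := SX.deg_one Ψ hs hk
  refine ⟨fun h => le_antisymm SX.aug_mem fun u hu =>
    hk'.le (show (⟨u, hu⟩ : LinearMap.range (SX.sp.e 0)) ∈ LinearMap.ker Θ from Subsingleton.elim _ _), fun h => ?_⟩
  refine subsingleton_of_forall_eq 0 fun x => ?_
  obtain ⟨v, rfl⟩ := hΘ x
  refine LinearMap.mem_ker.1 (hk'.ge ?_)
  rw [Submodule.mem_comap, h]
  exact v.2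

include SX SY in
/-- Degree one, one of the factors being exact in degree one. -/
theorem Setup.subsingleton_tensor_one_iff (hY : Function.Injective (qY 0 ∘ₗ SY.ε))
    (hY1 : LinearMap.range (qY 0 ∘ₗ SY.ε) = LinearMap.range (SY.sp.e 0))
    (Ψ : Zk (totD dX dY) (totMap qX qY) 1 →ₗ[k] H) (hs : Function.Surjective Ψ)
    (hk : LinearMap.ker Ψ = (Bk (totD dX dY) (totMap qX qY) 1).comap (Zk (totD dX dY) (totMap qX qY) 1).subtype) :
    Subsingleton H ↔ (LinearMap.range (qX 0 ∘ₗ SX.ε) = LinearMap.range (SX.sp.e 0) ∨ Subsingleton B) := by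
  classical
  refine ((SX.tensor SY).subsingleton_one_iff Ψ hs hk).trans ⟨fun h => ?_, fun h => le_antisymm
    (SX.tensor SY).aug_mem ?_⟩
  · rcases subsingleton_or_nontrivial B with hB | hB
    · exact .inr hB
    obtain ⟨b, hb⟩ := exists_ne (0 : B)
    have hy : qY 0 (SY.ε b) ≠ 0 := fun e => hb (hY (e.trans (map_zero _).symm))
    obtain ⟨f, hf⟩ := Module.Projective.exists_dual_ne_zero k hy
    refine .inl (le_antisymm SX.aug_mem fun x hx => ?_)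
    obtain ⟨t, rfl⟩ := hx
    obtain ⟨t', ht'⟩ : qY 0 (SY.ε b) ∈ LinearMap.range (SY.sp.e 0) := SY.aug_mem ⟨b, rfl⟩
    obtain ⟨v, hv⟩ := (dtotEval_bijective (A := k) (Z := fun p q => X' p ⊗[k] Y' q) 0).2
      fun p => match p with | ⟨0, _⟩ => t ⊗ₜ[k] t'
    have hv0 : v.1 0 0 = t ⊗ₜ[k] t' := congrFun hv ⟨0, Nat.zero_lt_one⟩
    obtain ⟨w, hw⟩ := h.ge ⟨v, rfl⟩
    have h1 : TensorProduct.map (qX 0 ∘ₗ SX.ε) (qY 0 ∘ₗ SY.ε) w = SX.sp.e 0 t ⊗ₜ[k] qY 0 (SY.ε b) := by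
      rw [← SX.tensor_aug_val SY]
      refine (congrArg (fun z : tot (k := k) X' Y' 0 => z.1 0 0) hw).trans ?_
      show ((totSplit SX.sp SY.sp).e 0 v).1 0 0 = _
      rw [totSplit_e_val, Ee_apply, hv0, TensorProduct.map_tmul, ht']
    have h2 : ∀ z : A ⊗[k] B, TensorProduct.rid k (X' 0)
        (TensorProduct.map LinearMap.id f (TensorProduct.map (qX 0 ∘ₗ SX.ε) (qY 0 ∘ₗ SY.ε) z)) ∈
          LinearMap.range (qX 0 ∘ₗ SX.ε) := fun z => by
      induction z using TensorProduct.induction_on with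
      | zero => simp
      | add a c ha hc => rw [map_add, map_add, map_add]; exact add_mem ha hc
      | tmul a c =>
        rw [TensorProduct.map_tmul, TensorProduct.map_tmul, TensorProduct.rid_tmul]
        exact Submodule.smul_mem _ _ ⟨a, rfl⟩
    have h3 := h2 w
    rw [h1, TensorProduct.map_tmul, TensorProduct.rid_tmul, LinearMap.id_apply] at h3
    have h4 := Submodule.smul_mem _ ((f (qY 0 (SY.ε b)))⁻¹) h3
    rwa [← mul_smul, inv_mul_cancel₀ hf, one_smul] at h4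
  · rintro u ⟨v, rfl⟩
    rcases h with h | h
    · obtain ⟨t, ht⟩ := SX.tensor_range_le h.ge hY1.ge (v.1 0 0)
      refine ⟨t, tot_zero_ext ((SX.tensor_aug_val SY t).trans ?_)⟩
      exact ht
    · have hb : SY.sp.e 0 = 0 := LinearMap.range_eq_bot.1 (le_bot_iff.1 fun y hy => by
        obtain ⟨b, hb⟩ := hY1.ge hy
        rw [Submodule.mem_bot, ← hb, Subsingleton.elim b 0, map_zero])
      refine ⟨0, tot_zero_ext ?_⟩
      rw [map_zero]
      show (0 : X' 0 ⊗[k] Y' 0) = ((totSplit SX.sp SY.sp).e 0 v).1 0 0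
      rw [totSplit_e_val, Ee_apply, hb, TensorProduct.map_zero_right, LinearMap.zero_apply]

include SX SY in
/-- Higher degrees vanish with the factors. -/
theorem Setup.subsingleton_tensor_succ (n : ℕ)
    (h : ∀ p ≤ n + 1, Subsingleton (LinearMap.range (SX.sp.e p)) ∨
      Subsingleton (LinearMap.range (SY.sp.e (n + 1 - p))))
    (Ψ : Zk (totD dX dY) (totMap qX qY) (n + 2) →ₗ[k] H) (hs : Function.Surjective Ψ)
    (hk : LinearMap.ker Ψ =
      (Bk (totD dX dY) (totMap qX qY) (n + 2)).comap (Zk (totD dX dY) (totMap qX qY) (n + 2)).subtype) :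
    Subsingleton H := by
  obtain ⟨e⟩ := (SX.tensor SY).deg_succ n Ψ hs hk
  obtain ⟨e'⟩ := nonempty_range_totSplit SX.sp SY.sp (n + 1)
  haveI : ∀ p : Fin (n + 1 + 1),
      Subsingleton (LinearMap.range (TensorProduct.map (SX.sp.e p) (SY.sp.e (n + 1 - p)))) := fun p => by
    rw [Submodule.subsingleton_iff_eq_bot, LinearMap.range_eq_bot]
    rcases h p (by omega) with h' | h' <;> rw [Submodule.subsingleton_iff_eq_bot, LinearMap.range_eq_bot] at h'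
    · rw [h', TensorProduct.map_zero_left]
    · rw [h', TensorProduct.map_zero_right]
  haveI : Subsingleton (LinearMap.range ((SX.tensor SY).sp.e (n + 1))) := e'.injective.subsingleton
  exact e.symm.injective.subsingleton

end Lin

variable {R S T : Type u} [CommRing R] [Algebra k R] [CommRing S] [Algebra k S] [CommRing T] [Algebra k T]
  {𝒜 : ℤ → Submodule k R} [GradedAlgebra 𝒜] {ℬ : ℤ → Submodule k S} [GradedAlgebra ℬ]
  {𝒯 : ℤ → Submodule k T} [GradedAlgebra 𝒯] {ψ : T →ₐ[k] R ⊗[k] S}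
  {mR : HomogeneousIdeal 𝒜} {mS : HomogeneousIdeal ℬ} {mT : HomogeneousIdeal 𝒯}
  (hmR : mR.toIdeal = Ideal.span (⋃ n ∈ Set.Ioi (0 : ℤ), (𝒜 n : Set R)))
  (hmS : mS.toIdeal = Ideal.span (⋃ n ∈ Set.Ioi (0 : ℤ), (ℬ n : Set S)))
  (hmT : mT.toIdeal = Ideal.span (⋃ n ∈ Set.Ioi (0 : ℤ), (𝒯 n : Set T)))
  [IsNoetherianRing R] [IsNoetherianRing S] [IsNoetherianRing T]
  {M : GrLC.GMod.{u} (toAdd 𝒜)} {N : GrLC.GMod.{u} (toAdd ℬ)} (s₀ : Seg 𝒯 ψ M N)
  (EM : GrLC.StarInjRes (toAdd 𝒜) M.gr)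
  (hT : GrSeg.IsSegreRing 𝒜 ℬ 𝒯 ψ)
  (hM0 : Subsingleton (LocCoh.H mR.toIdeal 0 M.carrier))

include hmR hmS hmT hT hM0 in
/-- No torsion in a Segre product of torsion-free modules. -/
theorem subsingleton_H_zero_segre (hN0 : Subsingleton (LocCoh.H mS.toIdeal 0 N.carrier)) :
    Subsingleton (LocCoh.H mT.toIdeal 0 s₀.Z.carrier) := by
  obtain ⟨EM⟩ := nonempty_resG M
  obtain ⟨EN⟩ := nonempty_resG N
  obtain ⟨F⟩ := nonempty_resG s₀.Z
  refine (subsingleton_H_iff_Hd F (toAddIdeal mT) 0).2 fun d => ?_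
  obtain ⟨Ψ, hs, hk⟩ := exists_psi_tot hT EM EN s₀ hmR hmS hmT F 0 d
  obtain ⟨ΨM, hsM, hkM⟩ := exists_psi EM (toAddIdeal mR) 0 d
  obtain ⟨ΨN, hsN, hkN⟩ := exists_psi EN (toAddIdeal mS) 0 d
  haveI := (subsingleton_H_iff_Hd EM (toAddIdeal mR) 0).1 hM0 d
  haveI := (subsingleton_H_iff_Hd EN (toAddIdeal mS) 0).1 hN0 d
  exact (dSetup EM (toAddIdeal mR) d).subsingleton_tensor_zero (dSetup EN (toAddIdeal mS) d)
    ((dSetup EM (toAddIdeal mR) d).injective_of_deg_zero ΨM hsM hkM)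
    ((dSetup EN (toAddIdeal mS) d).injective_of_deg_zero ΨN hsN hkN) Ψ hs hk

include hmR hmS hmT hT hM0 in
/-- Degree one of a Segre product with a factor of depth two. -/
theorem subsingleton_H_one_segre_iff (hN0 : Subsingleton (LocCoh.H mS.toIdeal 0 N.carrier))
    (hN1 : Subsingleton (LocCoh.H mS.toIdeal 1 N.carrier)) :
    Subsingleton (LocCoh.H mT.toIdeal 1 s₀.Z.carrier) ↔
      ∀ d, Subsingleton (Hd EM (toAddIdeal mR) 1 d) ∨ Subsingleton (kpiece N d) := by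
  obtain ⟨EN⟩ := nonempty_resG N
  obtain ⟨F⟩ := nonempty_resG s₀.Z
  refine (subsingleton_H_iff_Hd F (toAddIdeal mT) 1).trans (forall_congr' fun d => ?_)
  obtain ⟨Ψ, hs, hk⟩ := exists_psi_tot hT EM EN s₀ hmR hmS hmT F 1 d
  obtain ⟨Ψ₀, hs₀, hk₀⟩ := exists_psi EN (toAddIdeal mS) 0 d
  obtain ⟨Ψ₁, hs₁, hk₁⟩ := exists_psi EN (toAddIdeal mS) 1 d
  obtain ⟨ΨM, hsM, hkM⟩ := exists_psi EM (toAddIdeal mR) 1 d
  haveI := (subsingleton_H_iff_Hd EN (toAddIdeal mS) 0).1 hN0 d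
  have h1 := (subsingleton_H_iff_Hd EN (toAddIdeal mS) 1).1 hN1 d
  exact ((dSetup EM (toAddIdeal mR) d).subsingleton_tensor_one_iff (dSetup EN (toAddIdeal mS) d)
    ((dSetup EN (toAddIdeal mS) d).injective_of_deg_zero Ψ₀ hs₀ hk₀)
    (((dSetup EN (toAddIdeal mS) d).subsingleton_one_iff Ψ₁ hs₁ hk₁).1 h1) Ψ hs hk).trans
    (or_congr ((dSetup EM (toAddIdeal mR) d).subsingleton_one_iff ΨM hsM hkM).symm Iff.rfl)

include hmR hmS hmT hT in
/-- Higher degrees of a Segre product with a factor of dimension one. -/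
theorem subsingleton_H_high_segre (hM2 : ∀ i, 2 ≤ i → Subsingleton (LocCoh.H mR.toIdeal i M.carrier)) {q : ℕ}
    (hN : Subsingleton (LocCoh.H mS.toIdeal (q + 2) N.carrier)) :
    Subsingleton (LocCoh.H mT.toIdeal (q + 2) s₀.Z.carrier) := by
  obtain ⟨EM⟩ := nonempty_resG M
  obtain ⟨EN⟩ := nonempty_resG N
  obtain ⟨F⟩ := nonempty_resG s₀.Z
  refine (subsingleton_H_iff_Hd F (toAddIdeal mT) (q + 2)).2 fun d => ?_
  obtain ⟨Ψ, hs, hk⟩ := exists_psi_tot hT EM EN s₀ hmR hmS hmT F (q + 2) d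
  refine (dSetup EM (toAddIdeal mR) d).subsingleton_tensor_succ (dSetup EN (toAddIdeal mS) d) q (fun p hp => ?_)
    Ψ hs hk
  cases p with
  | zero =>
    haveI := (subsingleton_H_iff_Hd EN (toAddIdeal mS) (q + 2)).1 hN d
    exact .inr (nonempty_harmonic EN (toAddIdeal mS) d q).some.injective.subsingleton
  | succ p =>
    haveI := (subsingleton_H_iff_Hd EM (toAddIdeal mR) (p + 2)).1 (hM2 _ (by omega)) d
    exact .inl (nonempty_harmonic EM (toAddIdeal mR) d p).some.injective.subsingleton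

section Unbundled

variable {M₁ : Type u} [AddCommGroup M₁] [Module R M₁] [Module k M₁] [IsScalarTower k R M₁]
  {τ : Type u} [SetLike τ M₁] [AddSubgroupClass τ M₁] {ℳ : ℤ → τ} [DirectSum.Decomposition ℳ]
  [SetLike.GradedSMul 𝒜 ℳ]
  {N₁ : Type u} [AddCommGroup N₁] [Module S N₁] [Module k N₁] [IsScalarTower k S N₁]
  {τ' : Type u} [SetLike τ' N₁] [AddSubgroupClass τ' N₁] {𝒩 : ℤ → τ'} [DirectSum.Decomposition 𝒩]
  [SetLike.GradedSMul ℬ 𝒩]
  {P : Type u} [AddCommGroup P] [Module T P] [Module k P] [IsScalarTower k T P] {τP : Type u} [SetLike τP P]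
  [AddSubgroupClass τP P] {𝒬 : ℤ → τP} [DirectSum.Decomposition 𝒬] {φ : P →ₗ[k] M₁ ⊗[k] N₁}
  (hposR : ∀ n : ℤ, n < 0 → 𝒜 n = ⊥) (h0R : 𝒜 0 = Submodule.span k {(1 : R)})
  (hposS : ∀ n : ℤ, n < 0 → ℬ n = ⊥) (h0S : ℬ 0 = Submodule.span k {(1 : S)})
  [Algebra.FiniteType k R] [Algebra.FiniteType k S] [Module.Finite R M₁] [Module.Finite S N₁]

include hposR h0R hposS h0S hT hmR in
/-- The criterion with a factor of dimension one. -/
theorem cm_segre_one (hP : GrSeg.IsSegreMod ψ ℳ 𝒩 𝒬 φ) [Nontrivial P] {s : ℕ}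
    (hdM : Module.supportDim R M₁ = (1 : ℕ)) (hdN : Module.supportDim S N₁ = (s + 1 : ℕ))
    (hMcm : IsCMMod R M₁) (hNcm : IsCMMod S N₁) (E : GrLC.StarInjRes (toAdd 𝒜) (ofG 𝒜 M₁ ℳ).gr) :
    IsCMMod T P ↔ (1 ≤ s → ∀ d, Subsingleton (Hd E (toAddIdeal mR) 1 d) ∨ Subsingleton (kpiece (ofG ℬ N₁ 𝒩) d)) := by
  haveI := gradedSMul_of_isSegreMod hT ℳ 𝒩 𝒬 hP
  haveI := finite_P hT hP
  haveI := finiteType_T hT hposR h0R h0S
  haveI : Nontrivial T := Module.nontrivial T P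
  have hposT := pos_T hT hposR
  have h0T := exists_scalar_T hT h0R h0S
  have hmS' : (posIdeal' ℬ).toIdeal = Ideal.span (⋃ n ∈ Set.Ioi (0 : ℤ), (ℬ n : Set S)) := rfl
  have hmT' : (posIdeal' 𝒯).toIdeal = Ideal.span (⋃ n ∈ Set.Ioi (0 : ℤ), (𝒯 n : Set T)) := rfl
  haveI := isMaximal_pos hposT h0T hmT'
  have hd : Module.supportDim T P = ((s + 1 : ℕ) : WithBot ℕ∞) := by
    rw [supportDim_segre_cm hposR h0R hposS h0S hT hP (r := 0) (s := s) hdM hdN hMcm hNcm]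
    exact congrArg (Nat.cast (R := WithBot ℕ∞)) (by omega)
  let s₁ : Seg 𝒯 ψ (ofG 𝒜 M₁ ℳ) (ofG ℬ N₁ 𝒩) := segOf ℳ 𝒩 𝒬 hP
  have hM : ∀ i, i ≠ 1 → Subsingleton (LocCoh.H mR.toIdeal i (ofG 𝒜 M₁ ℳ).carrier) := fun i hi =>
    subsingleton_H_ne (𝒜 := 𝒜) ℳ hposR h0R hdM hMcm hmR hi
  have hN : ∀ i, i ≠ s + 1 → Subsingleton (LocCoh.H (posIdeal' ℬ).toIdeal i (ofG ℬ N₁ 𝒩).carrier) := fun i hi =>
    subsingleton_H_ne (𝒜 := ℬ) 𝒩 hposS h0S hdN hNcm hmS' hi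
  constructor
  · intro h hs
    exact (subsingleton_H_one_segre_iff hmR hmS' hmT' s₁ E hT (hM 0 (by omega)) (hN 0 (by omega))
      (hN 1 (by omega))).1 (subsingleton_H_ne (𝒜 := 𝒯) 𝒬 hposT h0T hd h hmT' (by omega))
  · intro h p _
    refine cm_of_subsingleton_H (𝒜 := toAdd 𝒯) (toAdd 𝒬) (m := toAddIdeal (posIdeal' 𝒯))
      (le_pos hposT h0T hmT') hd ?_ p
    intro i hi
    match i with
    | 0 => exact subsingleton_H_zero_segre hmR hmS' hmT' s₁ hT (hM 0 (by omega)) (hN 0 (by omega))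
    | 1 =>
      exact (subsingleton_H_one_segre_iff hmR hmS' hmT' s₁ E hT (hM 0 (by omega)) (hN 0 (by omega))
        (hN 1 (by omega))).2 (h (by omega))
    | q + 2 =>
      exact subsingleton_H_high_segre hmR hmS' hmT' s₁ hT (fun j hj => hM j (by omega)) (hN _ (by omega))

end Unbundled

end SegreLC
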