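import Groth.Agent.SegreLC.One
import Groth.Agent.SegreLC.Std
import Groth.Agent.SegreLib.Standard
import Groth.Agent.GrModLib.CMLib
import Groth.Agent.GrModLib.RegStd
import Groth.Agent.GrModLib.Canon
import Mathlib

/-! The a-invariant of a graded ring of dimension one. -/

set_option autoImplicit false
set_option maxHeartbeats 800000
universe u

open DirectSum GrModLib

namespace SegreLC

theorem le_zero_of_add_one_le {e : WithBot ℕ∞} (h : e + 1 ≤ 1) : e ≤ ((0 : ℕ) : WithBot ℕ∞) := by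
  cases e with
  | bot => exact bot_le
  | coe e =>
    cases e with
    | top => exact absurd h (by simp only [not_le, WithBot.coe_top, top_add]; exact WithBot.coe_lt_coe.2 (ENat.natCast_lt_top 1))
    | coe n => norm_cast at h ⊢; omega

variable {k : Type u} [Field k] {R : Type u} [CommRing R] [Algebra k R] {𝒜 : ℤ → Submodule k R} [GradedAlgebra 𝒜]
  [Algebra.FiniteType k R] (hpos : ∀ n : ℤ, n < 0 → 𝒜 n = ⊥) (h0 : 𝒜 0 = Submodule.span k {(1 : R)})

include hpos h0 in
/-- A homogeneous regular element of positive degree. -/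
theorem exists_regular_one (hd : ringKrullDim R = 1) (hcm : LocCoh.IsCohenMacaulayRing R) :
    ∃ (D : ℕ) (x : R), 0 < D ∧ x ∈ 𝒜 (D : ℤ) ∧ IsSMulRegular R x := by
  classical
  have hd' : Module.supportDim R R = ((1 : ℕ) : WithBot ℕ∞) := (Module.supportDim_self_eq_ringKrullDim (R := R)).trans hd
  haveI : IsNoetherianRing R := Algebra.FiniteType.isNoetherianRing k R
  obtain ⟨D, hD, h⟩ := exists_normalisation_ann (𝒜 := 𝒜) 𝒜 hpos h0 hd'
  obtain ⟨x, hx, hfin, -⟩ := h 1 Nat.one_pos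
  refine ⟨D, x 0, hD, by simpa using hx 0, isSMulRegular_iff_right_eq_zero_of_smul.2 fun a ha => ?_⟩
  by_contra hne
  obtain ⟨n, hn⟩ : ∃ n, (decompose 𝒜 a n : R) ≠ 0 := by
    by_contra hcon
    push Not at hcon
    exact hne (by rw [← DirectSum.sum_support_decompose 𝒜 a, Finset.sum_eq_zero fun n _ => hcon n])
  obtain ⟨Q, hQ, hI, hQd, hQa⟩ := exists_prime_of_cm 𝒜 hpos h0 hd' ((isCMMod_self_iff R).2 hcm)
    (decompose 𝒜 a n).2 hn
  haveI := hQ
  refine (MvPolynomial.X_ne_zero (R := k) (0 : Fin 1))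
    (smul_eq_zero_aeval x hfin Q hI hQd hQa (MvPolynomial.X 0) ?_)
  rw [MvPolynomial.aeval_X]
  have h1 := congrArg (fun z => (decompose 𝒜 z ((D : ℤ) + n) : R)) (show x 0 * a = 0 from ha)
  rw [DirectSum.decompose_zero, DirectSum.zero_apply, ZeroMemClass.coe_zero,
    DirectSum.coe_decompose_mul_add_of_left_mem 𝒜 (show x 0 ∈ 𝒜 (D : ℤ) by simpa using hx 0)] at h1
  exact h1

variable {m : HomogeneousIdeal 𝒜} (hm : m.toIdeal = Ideal.span (⋃ n ∈ Set.Ioi (0 : ℤ), (𝒜 n : Set R)))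

include hpos h0 hm in
/-- The top cohomology of a ring of dimension one, through a regular element. -/
theorem subsingleton_H_one_iff {D : ℕ} {x : R} (hD : 0 < D) (hx : x ∈ 𝒜 (D : ℤ)) (hxr : IsSMulRegular R x)
    (hd : ringKrullDim R = 1) (E : GrLC.StarInjRes (toAdd 𝒜) (ofG 𝒜 R 𝒜).gr) :
    (∀ n : ℤ, 0 ≤ n → Subsingleton (Hd E (toAddIdeal m) 1 n)) ↔
      ∀ n : ℤ, 0 ≤ n → ∀ a ∈ 𝒜 (n + D), ∃ b ∈ 𝒜 n, x * b = a := by
  classical
  haveI : IsNoetherianRing R := Algebra.FiniteType.isNoetherianRing k R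
  have hpos' : ∀ n : ℤ, n < 0 → toAdd 𝒜 n = ⊥ := fun n hn => (AddSubgroup.eq_bot_iff_forall _).2 fun y hy => by
    have : y ∈ 𝒜 n := hy
    rwa [hpos n hn, Submodule.mem_bot] at this
  let M := ofG 𝒜 R 𝒜
  have hxa : x ∈ (toAddIdeal m).toIdeal := by
    rw [toAddIdeal_toIdeal, hm]
    exact Ideal.subset_span (Set.mem_biUnion (Set.mem_Ioi.2 (Int.natCast_pos.2 hD)) hx)
  let u : M.carrier →ₗ[R] M.carrier := x • LinearMap.id
  have hu : GrLC.IsGrHomDeg M.gr M.gr u (D : ℤ) := fun g z hz => by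
    rw [add_comm]; exact smul_mem (toAdd 𝒜) M.gr (show x ∈ toAdd 𝒜 (D : ℤ) from hx) hz
  let N := quotG (toAdd 𝒜) (ℳ := M.gr) (LinearMap.range u) (range_isHomogeneous_deg hu)
  haveI : Module.Finite R M.carrier := (inferInstance : Module.Finite R R)
  haveI : Module.Finite R N.carrier := finite_quotG M (LinearMap.range u) (range_isHomogeneous_deg hu)
  have hxne : x ∈ nonZeroDivisors R :=
    mem_nonZeroDivisors_iff_right.2 fun z hz => hxr (show x • z = x • (0 : R) by
      rw [smul_zero, smul_eq_mul, mul_comm]; exact hz)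
  have hdim : Module.supportDim R N.carrier ≤ ((0 : ℕ) : WithBot ℕ∞) := by
    have h1 := ringKrullDim_quotient_succ_le_of_nonZeroDivisor hxne
    rw [hd] at h1
    have h2 : Module.supportDim R N.carrier = ringKrullDim (R ⧸ Ideal.span {x}) := by
      rw [← Module.supportDim_quotient_eq_ringKrullDim]
      refine Module.supportDim_eq_of_equiv (Submodule.quotEquivOfEq (LinearMap.range u) (Ideal.span {x}) ?_)
      ext z
      rw [Ideal.mem_span_singleton']
      exact ⟨fun ⟨b, hb⟩ => ⟨b, (mul_comm (G := R) b x).trans hb⟩, fun ⟨b, hb⟩ => ⟨b, (mul_comm (G := R) x b).trans hb⟩⟩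
    rw [h2]
    exact le_zero_of_add_one_le h1
  have hgam : GrLC.gam (toAddIdeal m).toIdeal N.carrier = ⊤ := by
    have := gam_eq_top_of_supportDim hpos' N hdim
    rw [toAddIdeal_toIdeal, hm]
    exact this
  obtain ⟨hiff⟩ : Nonempty (PLift ((∀ n, -1 + (D : ℤ) < n → Van (toAddIdeal m) N.gr 0 n) ↔
      ∀ n, -1 < n → Van (toAddIdeal m) M.gr 1 n)) := ⟨⟨(end_step (a := toAddIdeal m) hpos' M N hx hxa hxr
    (LinearMap.range u).mkQ (fun g z hz => ⟨z, hz, rfl⟩) (LinearMap.range u).mkQ_surjective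
    (LinearMap.range u).ker_mkQ (e := 0) fun j hj n => by
      obtain rfl : j = 0 := by omega
      exact van_zero_of_regular M hxa hxr n).2 (-1)⟩⟩
  have hVan : ∀ n, Subsingleton (Hd E (toAddIdeal m) 1 n) ↔ Van (toAddIdeal m) M.gr 1 n := fun n => by
    rw [van_iff E]
    exact ⟨fun h y hy => congrArg Subtype.val (@Subsingleton.elim _ h ⟨y, hy⟩ 0),
      fun h => ⟨fun a b => Subtype.ext ((h a.1 a.2).trans (h b.1 b.2).symm)⟩⟩
  have hN : ∀ n, Van (toAddIdeal m) N.gr 0 n ↔ ∀ a ∈ 𝒜 n, ∃ b ∈ 𝒜 (n - D), x * b = a := by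
    intro n
    constructor
    · intro h a ha
      have h1 := eq_zero_of_van_zero h (y := (LinearMap.range u).mkQ a) ⟨a, ha, rfl⟩ (hgam.ge Submodule.mem_top)
      obtain ⟨b, hb, hb'⟩ := preimage_homogeneous (ℳ := M.gr) hu
        (show a ∈ M.gr (n - D + D) by rw [sub_add_cancel]; exact ha)
        ((Submodule.Quotient.mk_eq_zero _).1 h1)
      exact ⟨b, hb, hb'⟩
    · intro h F y hy
      obtain ⟨z, hz, rfl⟩ := hy
      obtain ⟨v, hv, hvz⟩ := preimage_homogeneous (ε_deg F) (show (z : (F.X 0).carrier) ∈ (F.X 0).gr (n + 0) by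
        rw [add_zero]; exact hz) (F.exact_zero.le z.2.2)
      obtain ⟨a, ha, rfl⟩ := hv
      obtain ⟨b, -, hb⟩ := h a ha
      have : ((LinearMap.range u).mkQ a : N.carrier) = 0 := (Submodule.Quotient.mk_eq_zero _).2 ⟨b, hb⟩
      rw [show z = 0 from Subtype.ext (hvz.symm.trans ((congrArg F.ε this).trans (map_zero _))), map_zero]
  have h3 := hiff.down
  constructor
  · intro h n hn a ha
    obtain ⟨b, hb, hb'⟩ := (hN (n + D)).1 (h3.2 (fun i hi => (hVan i).1 (h i (by omega))) _ (by omega)) a ha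
    exact ⟨b, by rwa [add_sub_cancel_right] at hb, hb'⟩
  · intro h n hn
    refine (hVan n).2 (h3.1 (fun i hi => (hN i).2 fun a ha => ?_) n (by omega))
    exact h (i - D) (by omega) a (by rwa [sub_add_cancel])

section Standard

variable (hstd : Ideal.span (⋃ n ∈ Set.Ioi (0 : ℤ), (𝒜 n : Set R)) = Ideal.span ((𝒜 1 : Submodule k R) : Set R))

include hpos h0 hstd in
theorem piece_le_pow : ∀ n : ℕ, 𝒜 (n : ℤ) ≤ (𝒜 1) ^ n := by
  intro n
  induction n with
  | zero =>
    rw [pow_zero, Nat.cast_zero, h0, Submodule.span_le, Set.singleton_subset_iff]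
    exact Submodule.one_le.1 le_rfl
  | succ n ih =>
    intro a ha
    refine (Submodule.span_le.2 ?_) (SegreLib.mem_span_linear 𝒜 hstd (by omega) ha)
    rintro _ ⟨u, hu, v, hv, rfl⟩
    rw [pow_succ']
    exact Submodule.mul_mem_mul hu (ih (by simpa using hv))

include hpos h0 hstd in
/-- If multiplication by a regular element is onto in nonnegative degrees, the ring is polynomial. -/
theorem nonempty_polynomial {D : ℕ} {x : R} (hD : 0 < D) (hx : x ∈ 𝒜 (D : ℤ)) (hxr : IsSMulRegular R x)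
    (honto : ∀ n : ℤ, 0 ≤ n → ∀ a ∈ 𝒜 (n + D), ∃ b ∈ 𝒜 n, x * b = a) [Nontrivial R] :
    Nonempty (R ≃ₐ[k] Polynomial k) := by
  classical
  have hx0 : x ≠ 0 := fun h => one_ne_zero (α := R) (hxr (show x • (1 : R) = x • 0 by rw [h, zero_smul, zero_smul]))
  have hscal : ∀ a ∈ 𝒜 (D : ℤ), ∃ c : k, c • x = a := fun a ha => by
    obtain ⟨b, hb, rfl⟩ := honto 0 le_rfl a (by rwa [zero_add])
    obtain ⟨c, rfl⟩ := exists_scalar h0 hb
    exact ⟨c, by rw [Algebra.smul_def, mul_comm]⟩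
  -- a regular linear form
  obtain ⟨D, rfl⟩ : ∃ D', D = D' + 1 := ⟨D - 1, by omega⟩
  obtain ⟨z, hz, w, hw, hzw⟩ : ∃ z ∈ 𝒜 1, ∃ w ∈ 𝒜 (D : ℤ), z * w ≠ 0 := by
    by_contra hcon
    push Not at hcon
    refine hx0 ((Submodule.mem_bot k).1 (Submodule.span_le.2 ?_
      (SegreLib.mem_span_linear 𝒜 hstd (by omega) hx)))
    rintro _ ⟨u, hu, v, hv, rfl⟩
    exact hcon u hu v (by simpa using hv)
  obtain ⟨c, hc⟩ := hscal (z * w) (by
    have := SetLike.mul_mem_graded (A := 𝒜) hz hw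
    rwa [add_comm, ← Nat.cast_one (R := ℤ), ← Nat.cast_add] at this)
  have hc0 : c ≠ 0 := fun h => hzw (by rw [← hc, h, zero_smul])
  have hzr : IsSMulRegular R z := isSMulRegular_iff_right_eq_zero_of_smul.2 fun a ha => by
    rw [smul_eq_mul] at ha
    refine hxr.right_eq_zero_of_smul ?_
    rw [smul_eq_mul]
    have h1 : (c • x) * a = 0 := by rw [hc, mul_right_comm, ha, zero_mul]
    rwa [smul_mul_assoc, smul_eq_zero, or_iff_right hc0] at h1
  -- surjectivity of multiplication by the linear form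
  have hlin : ∀ a ∈ 𝒜 1, ∃ e : k, a = e • z := fun a ha => by
    obtain ⟨e, he⟩ := hscal (a * w) (by
      have := SetLike.mul_mem_graded (A := 𝒜) ha hw
      rwa [add_comm, ← Nat.cast_one (R := ℤ), ← Nat.cast_add] at this)
    have hwr : IsSMulRegular R w := isSMulRegular_iff_right_eq_zero_of_smul.2 fun b hb => by
      rw [smul_eq_mul] at hb
      refine hxr.right_eq_zero_of_smul ?_
      rw [smul_eq_mul]
      have h1 : (c • x) * b = 0 := by rw [hc, mul_assoc, hb, mul_zero]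
      rwa [smul_mul_assoc, smul_eq_zero, or_iff_right hc0] at h1
    refine ⟨e * c⁻¹, sub_eq_zero.1 (hwr.right_eq_zero_of_smul ?_)⟩
    rw [smul_eq_mul, mul_sub, mul_smul_comm, mul_comm w a, mul_comm w z, ← he, ← hc, ← mul_smul, mul_assoc,
      inv_mul_cancel₀ hc0, mul_one, sub_self]
  have hpow : ∀ n : ℕ, ∀ a ∈ 𝒜 (n : ℤ), a ∈ Submodule.span k {z ^ n} := fun n => by
    have h1 : 𝒜 1 ≤ Submodule.span k {z} := fun a ha => by
      obtain ⟨e, rfl⟩ := hlin a ha
      exact Submodule.smul_mem _ _ (Submodule.mem_span_singleton_self z)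
    intro a ha
    have := pow_le_pow_left' h1 n (piece_le_pow hpos h0 hstd n ha)
    rwa [Submodule.span_pow, Set.singleton_pow] at this
  let g : Polynomial k →ₐ[k] R := Polynomial.aeval z
  have hzn : ∀ n : ℕ, z ^ n ∈ 𝒜 (n : ℤ) := fun n => by
    have := SetLike.pow_mem_graded (A := 𝒜) n hz
    rwa [nsmul_one] at this
  refine ⟨(AlgEquiv.ofBijective g ⟨(injective_iff_map_eq_zero g).2 fun p hp => ?_, fun a => ?_⟩).symm⟩
  · ext n
    have h1 := congrArg (fun y => (decompose 𝒜 y (n : ℤ) : R)) (show Polynomial.aeval z p = 0 from hp)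
    rw [Polynomial.aeval_eq_sum_range, decompose_sum] at h1
    erw [DFinsupp.finsetSum_apply] at h1
    rw [AddSubmonoidClass.coe_finsetSum, decompose_zero, DirectSum.zero_apply, ZeroMemClass.coe_zero] at h1
    by_cases hn : n ∈ Finset.range (p.natDegree + 1)
    swap
    · exact Polynomial.coeff_eq_zero_of_natDegree_lt (by simpa using hn)
    rw [Finset.sum_eq_single n (fun j _ hj => decompose_of_mem_ne 𝒜 ((𝒜 (j : ℤ)).smul_mem _ (hzn j))
      (fun e => hj (by exact_mod_cast e))) (fun h => absurd hn h),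
      decompose_of_mem_same 𝒜 ((𝒜 (n : ℤ)).smul_mem _ (hzn n))] at h1
    rw [Polynomial.coeff_zero]
    by_contra hne
    refine one_ne_zero (α := R) ((hzr.pow n).right_eq_zero_of_smul ?_)
    rw [smul_eq_mul, mul_one]
    exact (smul_eq_zero.1 h1).resolve_left hne
  · induction a using DirectSum.Decomposition.inductionOn 𝒜 with
    | zero => exact ⟨0, map_zero g⟩
    | add a b ha hb =>
      obtain ⟨p, hp⟩ := ha; obtain ⟨q, hq⟩ := hb
      exact ⟨p + q, by rw [map_add, hp, hq]⟩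
    | @homogeneous i a =>
      rcases lt_or_ge i 0 with hi | hi
      · refine ⟨0, ?_⟩
        rw [map_zero]
        exact ((Submodule.mem_bot k).1 ((hpos i hi).le a.2)).symm
      · obtain ⟨n, rfl⟩ := Int.eq_ofNat_of_zero_le hi
        obtain ⟨e, he⟩ := Submodule.mem_span_singleton.1 (hpow n a a.2)
        exact ⟨e • Polynomial.X ^ n, by rw [map_smul, map_pow, Polynomial.aeval_X, he]⟩

include hpos h0 in
/-- A standard polynomial ring in one variable. -/
theorem onto_of_polynomial (e : R ≃ₐ[k] Polynomial k) :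
    ∃ z : R, z ∈ 𝒜 1 ∧ ∀ a ∈ 𝒜 1, ∃ c : k, c • z = a := by
  classical
  haveI : IsDomain R := e.toMulEquiv.isDomain
  haveI : IsPrincipalIdealRing R := IsPrincipalIdealRing.of_surjective e.symm.toRingEquiv.toRingHom e.symm.surjective
  let J : Ideal R := Ideal.span (⋃ n ∈ Set.Ioi (0 : ℤ), (𝒜 n : Set R))
  obtain ⟨f, hf⟩ := (IsPrincipalIdealRing.principal J).principal
  have hfJ : f ∈ J := by rw [hf]; exact Submodule.mem_span_singleton_self f
  refine ⟨decompose 𝒜 f 1, (decompose 𝒜 f 1).2, fun a ha => ?_⟩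
  have haJ : a ∈ J := Ideal.subset_span (Set.mem_biUnion (Set.mem_Ioi.2 one_pos) ha)
  obtain ⟨g, hg⟩ := Submodule.mem_span_singleton.1 (hf ▸ haJ)
  rw [smul_eq_mul] at hg
  have hf0 : (decompose 𝒜 f 0 : R) = 0 := by
    have hsub := sub_decompose_mem (m := posIdeal' 𝒜) hpos h0 rfl f
    obtain ⟨c, hc⟩ := exists_scalar h0 (decompose 𝒜 f 0).2
    by_contra hne
    refine scalar_notMem (m := posIdeal' 𝒜) hpos h0 rfl (c := c) (fun h => hne (by rw [← hc, h, map_zero])) ?_
    rw [hc, show (decompose 𝒜 f 0 : R) = f - (f - decompose 𝒜 f 0) by ring]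
    exact sub_mem hfJ hsub
  obtain ⟨c, hc⟩ := exists_scalar h0 (decompose 𝒜 g 0).2
  refine ⟨c, ?_⟩
  have h1 := congrArg (fun y => (decompose 𝒜 y 1 : R)) hg
  simp only [decompose_of_mem_same 𝒜 ha] at h1
  rw [decompose_mul, DirectSum.coe_mul_apply] at h1
  rw [← h1, Finset.sum_eq_single ((0 : ℤ), (1 : ℤ))]
  · rw [Algebra.smul_def, hc]
  · rintro ⟨i, j⟩ hij hne
    simp only [Finset.mem_filter, Finset.mem_product] at hij
    rcases lt_trichotomy i 0 with hi | hi | hi
    · rw [(Submodule.mem_bot k).1 ((hpos i hi).le (decompose 𝒜 g i).2), zero_mul]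
    · exact absurd (Prod.ext hi (by omega)) hne
    · rcases lt_trichotomy j 0 with hj | hj | hj
      · rw [(Submodule.mem_bot k).1 ((hpos j hj).le (decompose 𝒜 f j).2), mul_zero]
      · subst hj; rw [hf0, mul_zero]
      · omega
  · intro hn
    simp only [Finset.mem_filter, Finset.mem_product, zero_add, and_true, not_and_or, DFinsupp.notMem_support_iff] at hn
    rcases hn with h | h <;> simp [h]

include hpos h0 hstd in
theorem onto_of_linear {z : R} (hz : z ∈ 𝒜 1) (hlin : ∀ a ∈ 𝒜 1, ∃ c : k, c • z = a) (n : ℤ) (hn : 0 ≤ n) {a : R}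
    (ha : a ∈ 𝒜 (n + (1 : ℕ))) : ∃ b ∈ 𝒜 n, z * b = a := by
  obtain ⟨n, rfl⟩ := Int.eq_ofNat_of_zero_le hn
  have h1 := SegreLib.mem_span_linear 𝒜 hstd (by omega) ha
  suffices a ∈ (𝒜 (n : ℤ)).map (LinearMap.mulLeft k z) by
    obtain ⟨b, hb, hb'⟩ := this
    exact ⟨b, hb, hb'⟩
  refine Submodule.span_le.2 ?_ h1
  rintro _ ⟨u, hu, v, hv, rfl⟩
  obtain ⟨c, rfl⟩ := hlin u hu
  refine ⟨c • v, Submodule.smul_mem _ c (by simpa using hv), ?_⟩
  rw [LinearMap.mulLeft_apply, mul_smul_comm, smul_mul_assoc]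

end Standard

end SegreLC
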