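import Groth.Agent.SegreLC.Gor
import Groth.Agent.SegreLib.Standard
import Groth.Agent.GrModLib.CanonMain

/-! The type of a Segre product of Gorenstein rings. -/

set_option autoImplicit false
set_option maxHeartbeats 1000000
universe u

open scoped TensorProduct
open DirectSum GrModLib

namespace SegreLC

variable {k : Type u} [Field k]

section Single

variable {R : Type u} [CommRing R] [Algebra k R] {𝒜 : ℤ → Submodule k R} [GradedAlgebra 𝒜]

/-- In a standard ring higher pieces are products. -/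
theorem mem_span_mul
    (hstd : Ideal.span (⋃ n ∈ Set.Ioi (0 : ℤ), (𝒜 n : Set R)) = Ideal.span ((𝒜 1 : Submodule k R) : Set R))
    {p : ℤ} (hp : 0 ≤ p) : ∀ (i : ℕ) {u : R}, u ∈ 𝒜 (p + i) →
      u ∈ Submodule.span k {w : R | ∃ x ∈ 𝒜 (i : ℤ), ∃ y ∈ 𝒜 p, w = x * y} := by
  intro i
  induction i with
  | zero =>
    intro u hu
    refine Submodule.subset_span ⟨1, ?_, u, ?_, (one_mul u).symm⟩
    · rw [Nat.cast_zero]; exact SetLike.GradedOne.one_mem
    · simpa using hu
  | succ i ih =>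
    intro u hu
    have h1 := SegreLib.mem_span_linear 𝒜 hstd (m := p + (i + 1 : ℕ)) (by omega) hu
    refine Submodule.span_le.2 ?_ h1
    rintro _ ⟨x, hx, v, hv, rfl⟩
    have h2 := ih (u := v) (by rwa [show p + (i : ℤ) = p + (i + 1 : ℕ) - 1 by push_cast; ring])
    refine Submodule.span_le.2 ?_ (Submodule.apply_mem_span_image_of_mem_span (LinearMap.mulLeft k x) h2)
    rintro _ ⟨_, ⟨y, hy, z, hz, rfl⟩, rfl⟩
    refine Submodule.subset_span ⟨x * y, ?_, z, hz, (mul_assoc x y z).symm⟩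
    rw [show ((i + 1 : ℕ) : ℤ) = 1 + (i : ℤ) by push_cast; ring]
    exact SetLike.mul_mem_graded hx hy

variable [IsNoetherianRing R]

/-- A module generated in its lowest degree. -/
theorem finrank_tensor_bottom (hpos : ∀ n : ℤ, n < 0 → 𝒜 n = ⊥) (h0 : 𝒜 0 = Submodule.span k {(1 : R)})
    {m : Ideal R} [m.IsMaximal] (hm : m = Ideal.span (⋃ n ∈ Set.Ioi (0 : ℤ), (𝒜 n : Set R)))
    (X : GrLC.GMod.{u} (toAdd 𝒜)) (c : ℤ) (hlow : ∀ j, j < c → ∀ x ∈ X.gr j, x = 0)
    (hgen : ∀ j, c < j → ∀ x ∈ X.gr j, x ∈ m • (⊤ : Submodule R X.carrier)) :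
    Module.finrank (R ⧸ m) ((R ⧸ m) ⊗[R] X.carrier) = Module.finrank k (kpiece X c) := by
  have hdeg : ∀ z ∈ m • (⊤ : Submodule R X.carrier), pr X.gr c z = 0 := fun z hz => by
    refine Submodule.smul_induction_on hz (fun r hr x _ => ?_) (fun x y hx hy => by rw [map_add, hx, hy, add_zero])
    · rw [hm] at hr
      induction hr using Submodule.span_induction generalizing x with
      | zero => rw [zero_smul, map_zero]
      | add r r' _ _ h h' => rw [add_smul, map_add, h x trivial, h' x trivial, add_zero]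
      | smul r r' _ h => rw [smul_eq_mul, mul_comm, mul_smul]; exact h _ trivial
      | mem r hr =>
        obtain ⟨i, hi, hri⟩ := Set.mem_iUnion₂.1 hr
        rw [pr_smul (toAdd 𝒜) X.gr (show r ∈ toAdd 𝒜 i from hri),
          hlow (c - i) (by have := Set.mem_Ioi.1 hi; omega) _ (pr_mem X.gr _ x), smul_zero]
  let q : kpiece X c →+ (R ⧸ m) ⊗[R] X.carrier :=
    { toFun := fun x => (1 : R ⧸ m) ⊗ₜ[R] x.1
      map_zero' := TensorProduct.tmul_zero _ _
      map_add' := fun x y => TensorProduct.tmul_add _ _ _ }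
  let e := TensorProduct.quotTensorEquivQuotSMul X.carrier m
  have he : ∀ x : X.carrier, e ((1 : R ⧸ m) ⊗ₜ[R] x) = Submodule.Quotient.mk x := fun x => by
    rw [← map_one (Ideal.Quotient.mk m), TensorProduct.quotTensorEquivQuotSMul_mk_tmul, one_smul]
  have hqb : Function.Bijective q := by
    refine ⟨(injective_iff_map_eq_zero q).2 fun x hx => Subtype.ext ?_, fun y => ?_⟩
    · have h1 : e ((1 : R ⧸ m) ⊗ₜ[R] x.1) = 0 := (congrArg e hx).trans (map_zero e)
      rw [he, Submodule.Quotient.mk_eq_zero] at h1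
      exact (pr_self X.gr x.2).symm.trans (hdeg _ h1)
    · obtain ⟨z, hz⟩ := Submodule.mkQ_surjective _ (e y)
      refine ⟨⟨pr X.gr c z, pr_mem X.gr c z⟩, e.injective ?_⟩
      show e ((1 : R ⧸ m) ⊗ₜ[R] pr X.gr c z) = e y
      rw [he, ← hz, Submodule.mkQ_apply, Submodule.Quotient.eq]
      clear hz
      induction z using GrModLib.induction X.gr with
      | h0 => rw [map_zero, sub_zero]; exact zero_mem _
      | hadd u v hu hv => rw [map_add, add_sub_add_comm]; exact add_mem hu hv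
      | hmem j v hv =>
        rcases lt_trichotomy j c with h | h | h
        · rw [hlow j h v hv, map_zero, sub_zero]; exact zero_mem _
        · subst h; rw [pr_self X.gr hv, sub_self]; exact zero_mem _
        · rw [pr_ne X.gr hv h.ne', zero_sub]; exact Submodule.neg_mem _ (hgen j h v hv)
  let i : k → R ⧸ m := fun a => Ideal.Quotient.mk m (algebraMap k R a)
  have hi : Function.Bijective i := by
    refine ⟨((Ideal.Quotient.mk m).comp (algebraMap k R)).injective, fun y => ?_⟩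
    obtain ⟨r, rfl⟩ := Ideal.Quotient.mk_surjective y
    obtain ⟨a, ha⟩ := exists_scalar h0 (show pr (toAdd 𝒜) 0 r ∈ 𝒜 0 from pr_mem (toAdd 𝒜) 0 r)
    refine ⟨a, ?_⟩
    show Ideal.Quotient.mk m (algebraMap k R a) = Ideal.Quotient.mk m r
    rw [ha]
    refine ((Ideal.Quotient.eq).2 ?_).symm
    rw [hm]
    exact mk_eq_mk_pr (𝒜 := toAdd 𝒜) (toAdd_pos hpos) r
  have h1 := rank_eq_of_equiv_equiv i (AddEquiv.ofBijective q hqb) hi fun a x => by
    show (1 : R ⧸ m) ⊗ₜ[R] (a • x.1) = i a • ((1 : R ⧸ m) ⊗ₜ[R] x.1)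
    rw [← algebraMap_smul R a x.1, TensorProduct.tmul_smul, ← algebraMap_smul (R ⧸ m) (algebraMap k R a)]
    rfl
  rw [Module.finrank, Module.finrank, h1]

end Single

variable {R S T : Type u} [CommRing R] [Algebra k R] [CommRing S] [Algebra k S] [CommRing T] [Algebra k T]
  {𝒜 : ℤ → Submodule k R} [GradedAlgebra 𝒜] {ℬ : ℤ → Submodule k S} [GradedAlgebra ℬ]
  {𝒯 : ℤ → Submodule k T} [GradedAlgebra 𝒯] {ψ : T →ₐ[k] R ⊗[k] S}
  (hT : GrSeg.IsSegreRing 𝒜 ℬ 𝒯 ψ) {a b : ℤ}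
  (z : Seg 𝒯 ψ (shiftRing 𝒜 a) (shiftRing ℬ b))

/-- Membership along an equality. -/
theorem mem_of_eq' {A : Type*} {σ : Type*} [SetLike σ A] {V : σ} {x y : A} (e : x = y) (h : y ∈ V) : x ∈ V := e ▸ h

include z in
/-- The Segre product of shifted rings has no low degrees. -/
theorem segre_shift_low (hposS : ∀ n : ℤ, n < 0 → ℬ n = ⊥) {j : ℤ} (hj : j < -b) {p : z.Z.carrier}
    (hp : p ∈ z.Z.gr j) : p = 0 := by
  obtain ⟨w, rfl⟩ := (z.mem_range_lift j).1 hp
  haveI : Subsingleton (kpiece (shiftRing ℬ b) j) := subsingleton_of_forall_eq 0 fun y => Subtype.ext (by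
    have h : (y.1 : S) ∈ ℬ (j + b) := y.2
    exact ((Submodule.eq_bot_iff _).1 (hposS _ (by omega))) _ h)
  haveI : Subsingleton (kpiece (shiftRing 𝒜 a) j ⊗[k] kpiece (shiftRing ℬ b) j) :=
    subsingleton_of_forall_eq 0 fun w => by
      induction w using TensorProduct.induction_on with
      | zero => rfl
      | add x y hx hy => rw [hx, hy, add_zero]
      | tmul x y => rw [Subsingleton.elim y 0, TensorProduct.tmul_zero]
  rw [Subsingleton.elim w 0, map_zero]

include hT in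
/-- The Segre product of shifted standard rings is generated in the lowest degree. -/
theorem segre_shift_gen (hab : b ≤ a)
    (hstdR : Ideal.span (⋃ n ∈ Set.Ioi (0 : ℤ), (𝒜 n : Set R)) = Ideal.span ((𝒜 1 : Submodule k R) : Set R))
    {m : Ideal T} (hm : m = Ideal.span (⋃ n ∈ Set.Ioi (0 : ℤ), (𝒯 n : Set T)))
    {j : ℤ} (hj : -b < j) {p : z.Z.carrier} (hp : p ∈ z.Z.gr j) :
    p ∈ m • (⊤ : Submodule T z.Z.carrier) := by
  obtain ⟨w, rfl⟩ := (z.mem_range_lift j).1 hp
  induction w using TensorProduct.induction_on with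
  | zero => rw [map_zero]; exact zero_mem _
  | add x y hx hy =>
    rw [map_add]
    exact add_mem (hx ((z.mem_range_lift j).2 ⟨_, rfl⟩)) (hy ((z.mem_range_lift j).2 ⟨_, rfl⟩))
  | tmul x y =>
    obtain ⟨i, hi⟩ : ∃ i : ℕ, j = -b + i := ⟨(j + b).toNat, by omega⟩
    have hx : (x.1 : R) ∈ 𝒜 (a - b + (i : ℤ)) := by
      have h : (x.1 : R) ∈ 𝒜 (j + a) := x.2
      rwa [show a - b + (i : ℤ) = j + a by omega]
    have hy : (y.1 : S) ∈ ℬ (i : ℤ) := by
      have h : (y.1 : S) ∈ ℬ (j + b) := y.2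
      rwa [show (i : ℤ) = j + b by omega]
    suffices h : ∀ u ∈ Submodule.span k {w : R | ∃ x ∈ 𝒜 (i : ℤ), ∃ y ∈ 𝒜 (a - b), w = x * y},
        ∀ hu : u ∈ (shiftRing 𝒜 a).gr j, z.lift j ((⟨u, hu⟩ : kpiece (shiftRing 𝒜 a) j) ⊗ₜ y) ∈
          m • (⊤ : Submodule T z.Z.carrier) from
      h x.1 (mem_span_mul hstdR (by omega) i hx) x.2
    intro u hu
    have hsub : ∀ u ∈ Submodule.span k {w : R | ∃ x ∈ 𝒜 (i : ℤ), ∃ y ∈ 𝒜 (a - b), w = x * y},
        u ∈ 𝒜 (j + a) := fun u hu => by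
      refine Submodule.span_le.2 ?_ hu
      rintro _ ⟨x, hx, y, hy, rfl⟩
      rw [show j + a = (i : ℤ) + (a - b) by omega]
      exact SetLike.mul_mem_graded hx hy
    induction hu using Submodule.span_induction with
    | zero =>
      intro h0
      exact mem_of_eq' ((congrArg (fun v : kpiece (shiftRing 𝒜 a) j => z.lift j (v ⊗ₜ[k] y))
        (Subtype.ext rfl : (⟨0, h0⟩ : kpiece (shiftRing 𝒜 a) j) = 0)).trans
        ((congrArg (z.lift j) (TensorProduct.zero_tmul _ y)).trans (map_zero _))) (zero_mem _)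
    | add u v hu hv ihu ihv =>
      intro h
      exact mem_of_eq' ((congrArg (fun w : kpiece (shiftRing 𝒜 a) j => z.lift j (w ⊗ₜ[k] y))
        (Subtype.ext rfl : (⟨u + v, h⟩ : kpiece (shiftRing 𝒜 a) j) = ⟨u, hsub u hu⟩ + ⟨v, hsub v hv⟩)).trans
        ((congrArg (z.lift j) (TensorProduct.add_tmul _ _ y)).trans (map_add _ _ _)))
        (add_mem (ihu (hsub u hu)) (ihv (hsub v hv)))
    | smul c u hu ihu =>
      intro h
      exact mem_of_eq' (((congrArg (fun w : kpiece (shiftRing 𝒜 a) j => z.lift j (w ⊗ₜ[k] y))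
        (Subtype.ext (algebraMap_smul R c u).symm :
          (⟨c • u, h⟩ : kpiece (shiftRing 𝒜 a) j) = c • ⟨u, hsub u hu⟩)).trans
        ((congrArg (z.lift j) (TensorProduct.smul_tmul' c _ y).symm).trans (map_smul _ _ _))).trans
        (algebraMap_smul T c _).symm) (Submodule.smul_mem _ _ (ihu (hsub u hu)))
    | mem u hu =>
      intro h
      obtain ⟨x', hx', y', hy', rfl⟩ := hu
      let y₀ : S := y.1
      have ht' : x' ⊗ₜ[k] y₀ ∈ GrSeg.segrePiece k 𝒜 ℬ (i : ℤ) := tmul_mem_segrePiece hx' hy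
      rw [← hT.2 (i : ℤ)] at ht'
      obtain ⟨t, ht, hte⟩ := Submodule.mem_map.1 ht'
      have hy1 : y' ∈ (shiftRing 𝒜 a).gr (-b) := by
        show y' ∈ 𝒜 (-b + a)
        rwa [show -b + a = a - b by ring]
      have h11 : (1 : S) ∈ (shiftRing ℬ b).gr (-b) := by
        show (1 : S) ∈ ℬ (-b + b)
        rw [neg_add_cancel]; exact SetLike.GradedOne.one_mem
      have hkey : z.lift j ((⟨x' * y', h⟩ : kpiece (shiftRing 𝒜 a) j) ⊗ₜ y) =
          t • z.lift (-b) ((⟨y', hy1⟩ : kpiece (shiftRing 𝒜 a) (-b)) ⊗ₜ ⟨(1 : S), h11⟩) := by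
        refine z.val_injective ?_
        rw [z.val_lift, z.val_smul, z.val_lift, TensorProduct.map_tmul, TensorProduct.map_tmul,
          show ψ t = x' ⊗ₜ[k] y₀ from hte, GrSeg.act_tmul]
        exact congrArg₂ (fun a b => a ⊗ₜ[k] b) rfl (mul_one y₀).symm
      rw [hkey]
      refine Submodule.smul_mem_smul ?_ trivial
      rw [hm]
      exact Ideal.subset_span (Set.mem_iUnion₂.2 ⟨(i : ℤ), Set.mem_Ioi.2 (by omega), ht⟩)

variable (hposR : ∀ n : ℤ, n < 0 → 𝒜 n = ⊥) (h0R : 𝒜 0 = Submodule.span k {(1 : R)})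
  (hposS : ∀ n : ℤ, n < 0 → ℬ n = ⊥) (h0S : ℬ 0 = Submodule.span k {(1 : S)})
  [Algebra.FiniteType k R] [Algebra.FiniteType k S]

omit z in
include hT hposR h0R hposS h0S in
/-- The type of a Segre product of Gorenstein rings. -/
theorem type_segre [LocCoh.IsGorensteinRing R] [LocCoh.IsGorensteinRing S] [LocCoh.IsCohenMacaulayRing T]
    {mR : HomogeneousIdeal 𝒜} (hmR : mR.toIdeal = Ideal.span (⋃ n ∈ Set.Ioi (0 : ℤ), (𝒜 n : Set R)))
    (hstdR : Ideal.span (⋃ n ∈ Set.Ioi (0 : ℤ), (𝒜 n : Set R)) = Ideal.span ((𝒜 1 : Submodule k R) : Set R))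
    (I : GrLC.StarInjRes 𝒜 𝒜)
    {mS : HomogeneousIdeal ℬ} (hmS : mS.toIdeal = Ideal.span (⋃ n ∈ Set.Ioi (0 : ℤ), (ℬ n : Set S)))
    (J : GrLC.StarInjRes ℬ ℬ) {r s : ℕ}
    (hr : ringKrullDim R = (r + 2 : ℕ)) (hs : ringKrullDim S = (s + 2 : ℕ))
    (ha : GrLC.endDeg (I.Hgr mR (r + 2)) = ((a : WithTop ℤ) : WithBot (WithTop ℤ)))
    (hb : GrLC.endDeg (J.Hgr mS (s + 2)) = ((b : WithTop ℤ) : WithBot (WithTop ℤ))) (hab : b ≤ a)
    (m : Ideal T) [hmax : m.IsMaximal] (hm : m = Ideal.span (⋃ n ∈ Set.Ioi (0 : ℤ), (𝒯 n : Set T))) :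
    GrLC.bassNum m T (r + 1 + s + 1 + 1) = (Module.finrank k (𝒜 (a - b)) : ℕ∞) := by
  haveI : IsNoetherianRing R := Algebra.FiniteType.isNoetherianRing k R
  haveI : IsNoetherianRing S := Algebra.FiniteType.isNoetherianRing k S
  haveI := isNoetherianRing_T hT
  haveI : Nontrivial R := nontrivial_of_dim hr
  haveI : Nontrivial S := nontrivial_of_dim hs
  haveI : Nontrivial T := nontrivial_T' hT hr hs
  haveI := cm_of_gorenstein R
  haveI := cm_of_gorenstein S
  have hR := exists_pairing_gorenstein hposR h0R hmR I hr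
  have hS := exists_pairing_gorenstein hposS h0S hmS J hs
  refine hR.elim fun α hα => hS.elim fun β hβ => ?_
  have hαa : α = a := WithTop.coe_injective (WithBot.coe_injective (hα.1.symm.trans ha))
  have hβb : β = b := WithTop.coe_injective (WithBot.coe_injective (hβ.1.symm.trans hb))
  subst hαa hβb
  refine hα.2.elim fun δR hδR => hβ.2.elim fun δS hδS => ?_
  haveI : Module.Finite R (shiftRing 𝒜 α).carrier := inferInstanceAs (Module.Finite R R)
  haveI : Module.Finite S (shiftRing ℬ β).carrier := inferInstanceAs (Module.Finite S S)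
  let z := segG hT (shiftRing 𝒜 α) (shiftRing ℬ β)
  haveI hfin : Module.Finite T z.Z.carrier := finite_P hT z.isSegre
  obtain ⟨IT⟩ := nonempty_resG (ofG 𝒯 T 𝒯)
  obtain rfl : m = (posIdeal (toAdd 𝒯)).toIdeal := hm.trans (posIdeal_toIdeal (toAdd 𝒯)).symm
  obtain ⟨E, e, he⟩ := exists_residue_hull (posIdeal (toAdd 𝒯))
  have hδ := exists_segre_pairing hT (resOfG I) (resOfG J) (segOf 𝒜 ℬ 𝒯 (isSegreMod_self hT)) IT hmR hmS
    (mT := posIdeal' 𝒯) rfl r s (fun i hi d => subsingleton_Hd_above hr I mR i hi d)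
    (fun i hi d => subsingleton_Hd_above hs J mS i hi d) z
    (fun d => finite_kpiece h0R _ d) (fun d => finite_kpiece h0S _ d) δR hδR δS hδS
  refine hδ.elim fun δ hδ => ?_
  have hC : GrLC.IsStarCanonical (toAdd 𝒯) z.Z.gr E.gr (posIdeal (toAdd 𝒯)) (r + 1 + s + 1 + 1)
      (IT : GrLC.StarInjRes (toAdd 𝒯) (toAdd 𝒯)) := by
    have key : ∀ m' : HomogeneousIdeal (toAdd 𝒯), m' = posIdeal (toAdd 𝒯) →
        ∀ δ, IsPairing IT m' (r + 1 + s + 1 + 1) z.Z δ →
        GrLC.IsStarCanonical (toAdd 𝒯) z.Z.gr E.gr (posIdeal (toAdd 𝒯)) (r + 1 + s + 1 + 1)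
          (IT : GrLC.StarInjRes (toAdd 𝒯) (toAdd 𝒯)) := by
      rintro _ rfl δ hδ
      refine ⟨hfin, ?_⟩
      have h := exists_canonical_of_pairing (P := fun d => Hd IT (posIdeal (toAdd 𝒯)) (r + 1 + s + 1 + 1) d)
        (X := z.Z) (pos_T hT hposR) (exists_scalar_T hT h0R h0S) he
        (Hgr_isInternal IT (posIdeal (toAdd 𝒯)) (r + 1 + s + 1 + 1))
        (fun {_ _ _} hr {_} hx => smul_mem_Hd IT (posIdeal (toAdd 𝒯)) _ hr hx) δ hδ.1
        (fun i d t ht x y hy c c' hc => by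
          rw [show y = smulHd IT (posIdeal (toAdd 𝒯)) _ t ht d x from Subtype.ext hy,
            show c' = smulPiece z.Z t ht d c from Subtype.ext hc]
          exact hδ.2 i d t ht x c)
      exact h.elim fun φ hφ => ⟨φ, fun d f hf => hφ d f hf⟩
    exact key (toAddIdeal (posIdeal' 𝒯)) (posIdeal_toAdd rfl) δ hδ
  obtain ⟨-, -, h3⟩ := canon_data (𝒜 := toAdd 𝒯) (toAdd_pos (pos_T hT hposR))
    (isField_deg0 (exists_scalar_T hT h0R h0S)) he (ringKrullDim_segre hT hposR h0R hposS h0S hr hs) IT z.Z hC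
  refine h3.trans (congrArg (Nat.cast (R := ℕ∞)) ?_)
  rw [finrank_tensor_bottom (pos_T hT hposR) (exists_scalar_T hT h0R h0S)
    (posIdeal_toIdeal (toAdd 𝒯)) z.Z (-β) (fun j hj x hx => segre_shift_low z hposS hj hx)
    (fun j hj x hx => segre_shift_gen hT z hab hstdR (posIdeal_toIdeal (toAdd 𝒯)) hj hx),
    ← (z.pieceEquiv (-β)).finrank_eq, Module.finrank_tensorProduct]
  have hS1 : Module.finrank k (kpiece (shiftRing ℬ β) (-β)) = 1 := by
    have h11 : (1 : S) ∈ (shiftRing ℬ β).gr (-β) := by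
      show (1 : S) ∈ ℬ (-β + β)
      rw [neg_add_cancel]; exact SetLike.GradedOne.one_mem
    refine finrank_eq_one_iff'.2 ⟨⟨(1 : S), h11⟩, fun h => one_ne_zero (α := S) (show (1 : S) = 0 from congrArg Subtype.val h), fun w => ?_⟩
    obtain ⟨c, hc⟩ := exists_scalar h0S (show (w.1 : S) ∈ ℬ 0 by
      have h : (w.1 : S) ∈ ℬ (-β + β) := w.2
      rwa [neg_add_cancel] at h)
    refine ⟨c, Subtype.ext ?_⟩
    show algebraMap k S c * 1 = w.1
    rw [mul_one, hc]
  rw [hS1, mul_one]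
  refine LinearEquiv.finrank_eq
    { toFun := fun x => ⟨x.1, by
        have h : (x.1 : R) ∈ 𝒜 (-β + α) := x.2
        rwa [show -β + α = α - β by ring] at h⟩
      invFun := fun x => ⟨x.1, by
        show (x.1 : R) ∈ 𝒜 (-β + α)
        rw [show -β + α = α - β by ring]; exact x.2⟩
      left_inv := fun _ => rfl
      right_inv := fun _ => rfl
      map_add' := fun _ _ => rfl
      map_smul' := fun c x => Subtype.ext (algebraMap_smul R c (show R from x.1)) }

end SegreLC
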