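import Groth.Agent.SegreLC.Dim

/-! The Künneth formula for unbundled graded modules. -/

set_option autoImplicit false
universe u

open scoped TensorProduct
open DirectSum GrModLib

namespace SegreLC

variable {k : Type u} [Field k] {R : Type u} [CommRing R] [Algebra k R] {𝒜 : ℤ → Submodule k R} [GradedAlgebra 𝒜]
  {M : Type u} [AddCommGroup M] [Module R M] {τ : Type u} [SetLike τ M] [AddSubgroupClass τ M]
  {ℳ : ℤ → τ} [DirectSum.Decomposition ℳ] [SetLike.GradedSMul 𝒜 ℳ]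

theorem finrank_Hcomp [Nontrivial R] (h0 : 𝒜 0 = Submodule.span k {(1 : R)}) (E : GrLC.StarInjRes 𝒜 ℳ)
    (a : HomogeneousIdeal 𝒜) (q : ℕ) (d : ℤ) :
    Module.finrank (GrLC.deg0 𝒜) (E.Hcomp a q d) = Module.finrank k (Hd (resOfG E) (toAddIdeal a) q d) :=
  finrank_deg0 (H := (resOfG E).H (toAddIdeal a) q) 𝒜 (algebraMap_mem_deg0 (𝒜 := 𝒜))
    (fun _ hr => exists_scalar h0 hr) (E.Hcomp a q d) (Hd (resOfG E) (toAddIdeal a) q d) fun _ => Iff.rfl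

theorem subsingleton_Hd (E : GrLC.StarInjRes 𝒜 ℳ) (a : HomogeneousIdeal 𝒜) (q : ℕ) (d : ℤ)
    (h : E.Hcomp a q d = ⊥) : Subsingleton (Hd (resOfG E) (toAddIdeal a) q d) :=
  ⟨fun x y => Subtype.ext (((Submodule.eq_bot_iff _).1 h x.1 x.2).trans
    ((Submodule.eq_bot_iff _).1 h y.1 y.2).symm)⟩

theorem finrank_comp [Nontrivial R] (h0 : 𝒜 0 = Submodule.span k {(1 : R)}) (d : ℤ) :
    Module.finrank (GrLC.deg0 𝒜) (GrLC.comp 𝒜 ℳ d) = Module.finrank k (kpiece (ofG 𝒜 M ℳ) d) :=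
  (show Module.finrank (GrLC.deg0 𝒜) (GrLC.comp 𝒜 ℳ d) =
      Module.finrank (GrLC.deg0 𝒜) (GrLC.comp 𝒜 (ofG 𝒜 M ℳ).gr d) from rfl).trans
    (finrank_deg0 𝒜 (algebraMap_mem_deg0 (𝒜 := 𝒜)) (fun _ hr => exists_scalar h0 hr)
      (GrLC.comp 𝒜 (ofG 𝒜 M ℳ).gr d) (kpiece (ofG 𝒜 M ℳ) d) fun _ => Iff.rfl)

theorem finrank_kpiece [Module k M] [IsScalarTower k R M] (d : ℤ) (p : Submodule k M)
    (hp : ∀ x, x ∈ p ↔ x ∈ ℳ d) : Module.finrank k p = Module.finrank k (kpiece (ofG 𝒜 M ℳ) d) :=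
  LinearEquiv.finrank_eq
    { toFun := fun x => ⟨idk 𝒜 M ℳ x.1, (hp _).1 x.2⟩
      invFun := fun x => ⟨(idk 𝒜 M ℳ).symm x.1, (hp _).2 x.2⟩
      left_inv := fun _ => rfl
      right_inv := fun _ => rfl
      map_add' := fun _ _ => rfl
      map_smul' := fun c x => Subtype.ext ((idk 𝒜 M ℳ).map_smul c x.1) }

theorem finite_ofG [Module.Finite R M] : Module.Finite R (ofG 𝒜 M ℳ).carrier := ‹Module.Finite R M›

theorem finite_kpiece [IsNoetherianRing R] (h0 : 𝒜 0 = Submodule.span k {(1 : R)})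
    (X : GrLC.GMod.{u} (toAdd 𝒜)) [Module.Finite R X.carrier] (d : ℤ) : Module.Finite k (kpiece X d) := by
  haveI : IsNoetherian R X.carrier := isNoetherian_of_isNoetherianRing_of_finite R X.carrier
  haveI := isNoetherian_piece X.gr (P := GrLC.comp (toAdd 𝒜) X.gr d) (n := d) fun x hx => hx
  exact finite_of_finite_deg0 (toAdd 𝒜) (fun _ hr => exists_scalar h0 hr) (GrLC.comp (toAdd 𝒜) X.gr d)
    (kpiece X d) fun _ => Iff.rfl

variable {S T : Type u} [CommRing S] [Algebra k S] [CommRing T] [Algebra k T]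
  {ℬ : ℤ → Submodule k S} [GradedAlgebra ℬ] {𝒯 : ℤ → Submodule k T} [GradedAlgebra 𝒯] {ψ : T →ₐ[k] R ⊗[k] S}

theorem nontrivial_segre [Nontrivial R] [Nontrivial S] : Nontrivial (R ⊗[k] S) :=
  Module.FaithfullyFlat.rTensor_nontrivial k S R

theorem nontrivial_T (hT : GrSeg.IsSegreRing 𝒜 ℬ 𝒯 ψ) [Nontrivial R] [Nontrivial S] : Nontrivial T := by
  haveI := nontrivial_segre (k := k) (R := R) (S := S)
  exact ψ.toRingHom.domain_nontrivial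

omit [GradedAlgebra 𝒯] in
theorem segrePiece_zero_le (h0R : 𝒜 0 = Submodule.span k {(1 : R)}) (h0S : ℬ 0 = Submodule.span k {(1 : S)}) :
    GrSeg.segrePiece k 𝒜 ℬ 0 ≤ Submodule.span k {(1 : R ⊗[k] S)} := by
  refine Submodule.span_le.2 ?_
  rintro _ ⟨a, ha, b, hb, rfl⟩
  obtain ⟨c, rfl⟩ := exists_scalar h0R ha
  obtain ⟨c', rfl⟩ := exists_scalar h0S hb
  refine Submodule.mem_span_singleton.2 ⟨c * c', ?_⟩
  rw [Algebra.algebraMap_eq_smul_one, Algebra.algebraMap_eq_smul_one, Algebra.TensorProduct.one_def,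
    TensorProduct.smul_tmul_smul]

theorem exists_scalar_T (hT : GrSeg.IsSegreRing 𝒜 ℬ 𝒯 ψ) (h0R : 𝒜 0 = Submodule.span k {(1 : R)})
    (h0S : ℬ 0 = Submodule.span k {(1 : S)}) : 𝒯 0 = Submodule.span k {(1 : T)} := by
  refine le_antisymm (fun t ht => ?_) (Submodule.span_le.2 (Set.singleton_subset_iff.2 SetLike.GradedOne.one_mem))
  obtain ⟨c, hc⟩ := Submodule.mem_span_singleton.1 (segrePiece_zero_le h0R h0S (psi_mem hT ht))
  exact Submodule.mem_span_singleton.2 ⟨c, hT.1 (by rw [map_smul, map_one, hc])⟩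

variable {N : Type u} [AddCommGroup N] [Module S N] {τ' : Type u} [SetLike τ' N] [AddSubgroupClass τ' N]
  {𝒩 : ℤ → τ'} [DirectSum.Decomposition 𝒩] [SetLike.GradedSMul ℬ 𝒩] [Module k M] [IsScalarTower k R M]
  [Module k N] [IsScalarTower k S N]
  {P : Type u} [AddCommGroup P] [Module T P] [Module k P] [IsScalarTower k T P] {τP : Type u} [SetLike τP P]
  [AddSubgroupClass τP P] {𝒬 : ℤ → τP} [DirectSum.Decomposition 𝒬] [SetLike.GradedSMul 𝒯 𝒬]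
  {mR : HomogeneousIdeal 𝒜} {mS : HomogeneousIdeal ℬ} {mT : HomogeneousIdeal 𝒯}
  (hmR : mR.toIdeal = Ideal.span (⋃ n ∈ Set.Ioi (0 : ℤ), (𝒜 n : Set R)))
  (hmS : mS.toIdeal = Ideal.span (⋃ n ∈ Set.Ioi (0 : ℤ), (ℬ n : Set S)))
  (hmT : mT.toIdeal = Ideal.span (⋃ n ∈ Set.Ioi (0 : ℤ), (𝒯 n : Set T)))

include hmR hmS hmT in
/-- The Künneth formula in dimensions. -/
theorem finrank_kunneth (hT : GrSeg.IsSegreRing 𝒜 ℬ 𝒯 ψ) [Nontrivial R] [Nontrivial S]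
    [Algebra.FiniteType k R] [Algebra.FiniteType k S]
    (hposR : ∀ n : ℤ, n < 0 → 𝒜 n = ⊥) (h0R : 𝒜 0 = Submodule.span k {(1 : R)})
    (hposS : ∀ n : ℤ, n < 0 → ℬ n = ⊥) (h0S : ℬ 0 = Submodule.span k {(1 : S)})
    [Module.Finite R M] [Module.Finite S N] {φ : P →ₗ[k] M ⊗[k] N} (hP : GrSeg.IsSegreMod ψ ℳ 𝒩 𝒬 φ)
    (EM : GrLC.StarInjRes 𝒜 ℳ) (EN : GrLC.StarInjRes ℬ 𝒩) (EP : GrLC.StarInjRes 𝒯 𝒬)
    (hM : ∀ (q : ℕ) (d : ℤ), q ≤ 1 → EM.Hcomp mR q d = ⊥)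
    (hN : ∀ (q : ℕ) (d : ℤ), q ≤ 1 → EN.Hcomp mS q d = ⊥) (q : ℕ) (d : ℤ) :
    Module.finrank (GrLC.deg0 𝒯) (EP.Hcomp mT q d) =
      Module.finrank (GrLC.deg0 𝒜) (GrLC.comp 𝒜 ℳ d) * Module.finrank (GrLC.deg0 ℬ) (EN.Hcomp mS q d) +
        Module.finrank (GrLC.deg0 𝒜) (EM.Hcomp mR q d) * Module.finrank (GrLC.deg0 ℬ) (GrLC.comp ℬ 𝒩 d) +
        (Finset.range (q + 2)).sum (fun i => Module.finrank (GrLC.deg0 𝒜) (EM.Hcomp mR i d) *
          Module.finrank (GrLC.deg0 ℬ) (EN.Hcomp mS (q + 1 - i) d)) := by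
  haveI : IsNoetherianRing R := Algebra.FiniteType.isNoetherianRing k R
  haveI : IsNoetherianRing S := Algebra.FiniteType.isNoetherianRing k S
  haveI := isNoetherianRing_T hT
  haveI := nontrivial_T hT
  haveI := finite_ofG (𝒜 := 𝒜) (ℳ := ℳ)
  haveI := finite_ofG (𝒜 := ℬ) (ℳ := 𝒩)
  haveI := finite_kpiece h0R (ofG 𝒜 M ℳ) d
  haveI := finite_kpiece h0S (ofG ℬ N 𝒩) d
  rw [finrank_Hcomp (exists_scalar_T hT h0R h0S) EP mT q d, finrank_comp (ℳ := ℳ) h0R d,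
    finrank_comp (ℳ := 𝒩) h0S d, finrank_Hcomp h0R EM mR q d, finrank_Hcomp h0S EN mS q d]
  rw [Finset.sum_congr rfl fun i _ => by rw [finrank_Hcomp h0R EM mR i d, finrank_Hcomp h0S EN mS (q + 1 - i) d]]
  exact finrank_segre hT (resOfG EM) (resOfG EN) (segOf ℳ 𝒩 𝒬 hP) (resOfG EP) hmR hmS hmT hposR h0R hposS h0S d
    (fun i hi => subsingleton_Hd EM mR i d (hM i d hi)) (fun i hi => subsingleton_Hd EN mS i d (hN i d hi)) q

end SegreLC
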