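import Groth.Agent.SegreLC.Dim
import Groth.Agent.GrModLib.Dual
import Groth.Agent.GrModLib.CanonDeg

/-! Canonical modules through the duality of pieces over the ground field. -/

set_option autoImplicit false
universe u

open DirectSum GrModLib

namespace SegreLC

variable {k : Type u} [Field k] {R : Type u} [CommRing R] [Algebra k R] {𝒜 : ℤ → Submodule k R} [GradedAlgebra 𝒜]

theorem toAdd_pos (hpos : ∀ n : ℤ, n < 0 → 𝒜 n = ⊥) (n : ℤ) (hn : n < 0) : toAdd 𝒜 n = ⊥ :=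
  (AddSubgroup.eq_bot_iff_forall _).2 fun x hx => by
    have : x ∈ 𝒜 n := hx
    rwa [hpos n hn, Submodule.mem_bot] at this

theorem isField_deg0 [Nontrivial R] (h0 : 𝒜 0 = Submodule.span k {(1 : R)}) :
    IsField (GrLC.deg0 (toAdd 𝒜)) :=
  MulEquiv.isField (Field.toIsField k)
    (RingEquiv.ofBijective ((algebraMap k R).codRestrict (GrLC.deg0 (toAdd 𝒜)) (algebraMap_mem_deg0 (𝒜 := 𝒜)))
      ⟨fun a b h => (algebraMap k R).injective (congrArg Subtype.val h),
        fun r => by obtain ⟨c, hc⟩ := exists_scalar h0 r.2; exact ⟨c, Subtype.ext hc⟩⟩).symm.toMulEquiv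

/-- Pieces of cohomology are stable under homogeneous scalars. -/
theorem smul_mem_Hd {M : GrLC.GMod.{u} (toAdd 𝒜)} (E : GrLC.StarInjRes (toAdd 𝒜) M.gr)
    (a : HomogeneousIdeal (toAdd 𝒜)) (q : ℕ) {i d : ℤ} {r : R} (hr : r ∈ 𝒜 i) {x : E.H a q}
    (hx : x ∈ Hd E a q d) : r • x ∈ Hd E a q (i + d) := by
  obtain ⟨z, hz, rfl⟩ := hx
  exact ⟨r • z, (E.X q).gsmul.smul_mem hr hz, map_smul _ _ _⟩

theorem posIdeal_toAdd {m : HomogeneousIdeal 𝒜}
    (hm : m.toIdeal = Ideal.span (⋃ n ∈ Set.Ioi (0 : ℤ), (𝒜 n : Set R))) :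
    toAddIdeal m = posIdeal (toAdd 𝒜) :=
  HomogeneousIdeal.toIdeal_injective (by rw [toAddIdeal_toIdeal, hm, posIdeal_toIdeal]; rfl)

/-- A hull of the residue field over the underlying grading. -/
theorem exists_hull_pos {m : HomogeneousIdeal 𝒜}
    (hm : m.toIdeal = Ideal.span (⋃ n ∈ Set.Ioi (0 : ℤ), (𝒜 n : Set R)))
    {E₀ : Type u} [AddCommGroup E₀] [Module R E₀] {𝓔 : ℤ → AddSubgroup E₀} [DirectSum.Decomposition 𝓔]
    [SetLike.GradedSMul 𝒜 𝓔] {e : (R ⧸ m.toIdeal) →ₗ[R] E₀}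
    (he : GrLC.IsStarInjHull 𝒜 (GrLC.quotGr 𝒜 m) 𝓔 e) :
    ∃ e' : (R ⧸ (posIdeal (toAdd 𝒜)).toIdeal) →ₗ[R] (ofG 𝒜 E₀ 𝓔).carrier,
      GrLC.IsStarInjHull (toAdd 𝒜) (GrLC.quotGr (toAdd 𝒜) (posIdeal (toAdd 𝒜))) (ofG 𝒜 E₀ 𝓔).gr e' := by
  haveI := gradedSMul_toAdd (𝒜 := 𝒜) 𝓔
  have key : ∀ (m' : HomogeneousIdeal (toAdd 𝒜)) (e₁ : (R ⧸ m'.toIdeal) →ₗ[R] (ofG 𝒜 E₀ 𝓔).carrier),
      m' = posIdeal (toAdd 𝒜) → GrLC.IsStarInjHull (toAdd 𝒜) (GrLC.quotGr (toAdd 𝒜) m') (ofG 𝒜 E₀ 𝓔).gr e₁ →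
      ∃ e' : (R ⧸ (posIdeal (toAdd 𝒜)).toIdeal) →ₗ[R] (ofG 𝒜 E₀ 𝓔).carrier,
        GrLC.IsStarInjHull (toAdd 𝒜) (GrLC.quotGr (toAdd 𝒜) (posIdeal (toAdd 𝒜))) (ofG 𝒜 E₀ 𝓔).gr e' := by
    rintro _ e₁ rfl h
    exact ⟨e₁, h⟩
  have h1 := isStarInjHull_toAdd 𝓔 m he
  exact key (toAddIdeal m) e (posIdeal_toAdd hm)
    { injective := h1.injective, grHom := h1.grHom, essential := fun P hP => h1.essential P fun i m hm => by
        have h2 : (pr (toAdd 𝓔) i m : E₀) ∈ P := hP i hm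
        rw [pr_toAdd 𝓔 i m] at h2
        exact h2,
      starInj := fun A B f hf hfi g hg => h1.starInj A B f hf hfi g hg }

variable [IsNoetherianRing R] [Nontrivial R] (hpos : ∀ n : ℤ, n < 0 → 𝒜 n = ⊥)
  (h0 : 𝒜 0 = Submodule.span k {(1 : R)}) {E : GrLC.GMod.{u} (toAdd 𝒜)}
  {e : (R ⧸ (posIdeal (toAdd 𝒜)).toIdeal) →ₗ[R] E.carrier}
  (he : GrLC.IsStarInjHull (toAdd 𝒜) (GrLC.quotGr (toAdd 𝒜) (posIdeal (toAdd 𝒜))) E.gr e)
  {X : GrLC.GMod.{u} (toAdd 𝒜)}

include hpos h0 he in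
theorem socle_smul_injective : Function.Injective fun c : k => c • e 1 := fun c c' h => by
  by_contra hne
  have h1 : algebraMap k R (c - c') • e 1 = 0 := by
    rw [algebraMap_smul, sub_smul]; exact sub_eq_zero.2 h
  have h2 : e 1 = 0 := by
    have h3 := congrArg (algebraMap k R (c - c')⁻¹ • ·) h1
    rwa [← mul_smul, ← map_mul, inv_mul_cancel₀ (sub_ne_zero.2 hne), map_one, one_smul, smul_zero] at h3
  haveI := isMaximal_of_starLocal (toAdd_pos hpos) (isStarLocal_posIdeal (toAdd_pos hpos) (isField_deg0 h0))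
  exact one_ne_zero (α := R ⧸ (posIdeal (toAdd 𝒜)).toIdeal) (he.injective (h2.trans (map_zero e).symm))

include hpos h0 he in
theorem socle_smul_surjective {y : E.carrier} (hy : y ∈ E.gr 0) : ∃ c : k, c • e 1 = y := by
  obtain ⟨x, rfl⟩ := mem_range_of_deg_zero (toAdd_pos hpos) (isField_deg0 h0) he hy
  obtain ⟨a, rfl⟩ := Ideal.Quotient.mk_surjective x
  obtain ⟨c, hc⟩ := exists_scalar h0 (show pr (toAdd 𝒜) 0 a ∈ 𝒜 0 from pr_mem (toAdd 𝒜) 0 a)
  refine ⟨c, ?_⟩
  rw [← algebraMap_smul R c, ← map_smul]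
  refine congrArg e ?_
  rw [Algebra.smul_def, mul_one, Ideal.Quotient.algebraMap_eq, hc]
  exact ((Ideal.Quotient.eq).2 (mk_eq_mk_pr (toAdd_pos hpos) a)).symm

include hpos h0 he in
/-- A map of degree `d` is a functional on the piece of degree `-d`. -/
theorem exists_functional {d : ℤ} {f : X.carrier →ₗ[R] E.carrier} (hf : GrLC.IsGrHomDeg X.gr E.gr f d) :
    ∃ l : Module.Dual k (kpiece X (-d)), ∀ c : kpiece X (-d), f c.1 = l c • e 1 := by
  have h : ∀ c : kpiece X (-d), ∃ a : k, a • e 1 = f c.1 := fun c => socle_smul_surjective hpos h0 he (by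
    have := hf (-d) c.1 c.2
    rwa [neg_add_cancel] at this)
  choose l hl using h
  refine ⟨{ toFun := l, map_add' := fun a b => socle_smul_injective hpos h0 he ?_,
            map_smul' := fun c a => socle_smul_injective hpos h0 he ?_ }, fun c => (hl c).symm⟩
  · show l (a + b) • e 1 = (l a + l b) • e 1
    rw [hl, add_smul, hl, hl]
    exact map_add f a.1 b.1
  · show l (c • a) • e 1 = (c * l a) • e 1
    rw [hl, mul_smul, hl, ← algebraMap_smul R c (f a.1), ← map_smul, algebraMap_smul]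
    rfl

include hpos h0 he in
/-- Functionals come from maps. -/
theorem exists_hom_of_functional (d : ℤ) (l : Module.Dual k (kpiece X (-d))) :
    ∃ f : X.carrier →ₗ[R] E.carrier, GrLC.IsGrHomDeg X.gr E.gr f d ∧ ∀ c : kpiece X (-d), f c.1 = l c • e 1 := by
  have he0 : ∀ a : k, a • e 1 ∈ E.gr 0 := fun a => by
    rw [← algebraMap_smul R a, ← map_smul]
    exact hull_mem_zero (toAdd_pos hpos) he _
  obtain ⟨χ, hχ, hχl⟩ := exists_hom_deg (toAdd_pos hpos) (isField_deg0 h0) he X d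
    { toFun := fun c => ⟨l ⟨c.1, c.2⟩ • e 1, he0 _⟩
      map_add' := fun a b => Subtype.ext ((congrArg (· • e 1) (map_add l ⟨a.1, a.2⟩ ⟨b.1, b.2⟩)).trans
        (add_smul _ _ _))
      map_smul' := fun r a => Subtype.ext (by
        obtain ⟨c, hc⟩ := exists_scalar h0 r.2
        show l ⟨r.1 • a.1, _⟩ • e 1 = r.1 • (l ⟨a.1, a.2⟩ • e 1)
        rw [show (⟨r.1 • a.1, (r • a).2⟩ : kpiece X (-d)) = c • ⟨a.1, a.2⟩ from Subtype.ext (by
          show r.1 • a.1 = c • a.1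
          rw [← hc, algebraMap_smul]), map_smul, smul_eq_mul, mul_smul, ← hc, algebraMap_smul]) }
  exact ⟨χ, hχ, fun c => hχl ⟨c.1, c.2⟩⟩

include hpos h0 he in
theorem hom_eq_of_functional {d : ℤ} {f f' : X.carrier →ₗ[R] E.carrier} (hf : GrLC.IsGrHomDeg X.gr E.gr f d)
    (hf' : GrLC.IsGrHomDeg X.gr E.gr f' d) (h : ∀ c : kpiece X (-d), f c.1 = f' c.1) : f = f' :=
  sub_eq_zero.1 (eq_zero_of_restrict (toAdd_pos hpos) he X (d := d)
    (fun g v hv => sub_mem (hf g v hv) (hf' g v hv)) fun v hv => sub_eq_zero.2 (h ⟨v, hv⟩))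

variable {H : Type u} [AddCommGroup H] [Module R H] [Module k H] [IsScalarTower k R H] {P : ℤ → Submodule k H}
  (hP : DirectSum.IsInternal (toAdd P))

theorem isGrHomDeg_smul {i d : ℤ} {a : R} (ha : a ∈ 𝒜 i) {f : X.carrier →ₗ[R] E.carrier}
    (hf : GrLC.IsGrHomDeg X.gr E.gr f d) : GrLC.IsGrHomDeg X.gr E.gr (a • f) (i + d) := fun g v hv => by
  rw [LinearMap.smul_apply, show g + (i + d) = i + (g + d) by ring]
  exact E.gsmul.smul_mem ha (hf g v hv)

include hpos h0 he hP in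
/-- The pieces of the dual of a finite module are the duals of the pieces. -/
theorem exists_pairing [Module.Finite R X.carrier] (φ : (X.carrier →ₗ[R] E.carrier) ≃ₗ[R] H)
    (hφ : ∀ d f, GrLC.IsGrHomDeg X.gr E.gr f d → φ f ∈ P d) :
    ∃ δ : ∀ d, P d →ₗ[k] Module.Dual k (kpiece X (-d)), (∀ d, Function.Bijective (δ d)) ∧
      ∀ (i d : ℤ) (a : R), a ∈ 𝒜 i → ∀ (x : P d) (y : P (i + d)), y.1 = a • x.1 →
        ∀ (c : kpiece X (-(i + d))) (c' : kpiece X (-d)), c'.1 = a • c.1 → δ (i + d) y c = δ d x c' := by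
  letI := hP.chooseDecomposition
  have hdeg : ∀ d (x : P d), GrLC.IsGrHomDeg X.gr E.gr (φ.symm x.1) d := fun d x => by
    classical
    obtain ⟨D, f, hf, hsum⟩ := exists_hom_components (𝒜 := toAdd 𝒜) (𝓔 := E.gr) X (φ.symm x.1)
    have h1 : x.1 = ∑ j ∈ D, φ (f j) := by rw [← map_sum, ← hsum, LinearEquiv.apply_symm_apply]
    have h2 : x.1 = ∑ j ∈ D, if j = d then φ (f j) else 0 := by
      conv_lhs => rw [← pr_self (toAdd P) (show x.1 ∈ toAdd P d from x.2), h1, map_sum]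
      refine Finset.sum_congr rfl fun j _ => ?_
      split_ifs with hj
      · subst hj; exact pr_self (toAdd P) (hφ j _ (hf j))
      · exact pr_ne (toAdd P) (hφ j _ (hf j)) hj
    rw [h2, map_sum]
    intro g v hv
    rw [LinearMap.sum_apply]
    refine sum_mem fun j _ => ?_
    split_ifs with hj
    · subst hj; rw [LinearEquiv.symm_apply_apply]; exact hf j g v hv
    · rw [map_zero]; exact zero_mem _
  choose l hl using fun d (x : P d) => exists_functional hpos h0 he (hdeg d x)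
  have hinj := socle_smul_injective hpos h0 he
  let δ : ∀ d, P d →ₗ[k] Module.Dual k (kpiece X (-d)) := fun d =>
    { toFun := l d
      map_add' := fun x y => LinearMap.ext fun c => hinj (by
        show l d (x + y) c • e 1 = (l d x c + l d y c) • e 1
        rw [add_smul, ← hl, ← hl, ← hl, Submodule.coe_add, map_add, LinearMap.add_apply])
      map_smul' := fun a x => LinearMap.ext fun c => hinj (by
        show l d (a • x) c • e 1 = (a * l d x c) • e 1
        rw [mul_smul, ← hl, ← hl, Submodule.coe_smul, ← algebraMap_smul R a x.1, map_smul, LinearMap.smul_apply,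
          algebraMap_smul]) }
  refine ⟨δ, fun d => ⟨?_, fun g => ?_⟩, fun i d a ha x y hy c c' hc => hinj ?_⟩
  · refine (injective_iff_map_eq_zero (δ d)).2 fun x hx => Subtype.ext ?_
    have : φ.symm x.1 = 0 := hom_eq_of_functional hpos h0 he (hdeg d x)
      (fun g v _ => zero_mem _) fun c => by
        rw [hl, show l d x = 0 from hx, LinearMap.zero_apply, zero_smul]; rfl
    exact φ.symm.injective (this.trans (map_zero _).symm)
  · obtain ⟨f, hf, hfg⟩ := exists_hom_of_functional hpos h0 he d g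
    refine ⟨⟨φ f, hφ d f hf⟩, LinearMap.ext fun c => hinj ?_⟩
    show l d _ c • e 1 = g c • e 1
    rw [← hl, LinearEquiv.symm_apply_apply, hfg]
  · show l (i + d) y c • e 1 = l d x c' • e 1
    rw [← hl, ← hl, hy, map_smul, LinearMap.smul_apply, hc, ← map_smul]

include hpos h0 he hP in
/-- A natural duality of pieces gives a canonical isomorphism. -/
theorem exists_canonical_of_pairing [Module.Finite R X.carrier]
    (hsm : ∀ {i d : ℤ} {a : R}, a ∈ 𝒜 i → ∀ {x : H}, x ∈ P d → a • x ∈ P (i + d))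
    (δ : ∀ d, P d →ₗ[k] Module.Dual k (kpiece X (-d))) (hδ : ∀ d, Function.Bijective (δ d))
    (hnat : ∀ (i d : ℤ) (a : R), a ∈ 𝒜 i → ∀ (x : P d) (y : P (i + d)), y.1 = a • x.1 →
        ∀ (c : kpiece X (-(i + d))) (c' : kpiece X (-d)), c'.1 = a • c.1 → δ (i + d) y c = δ d x c') :
    ∃ φ : (X.carrier →ₗ[R] E.carrier) ≃ₗ[R] H, ∀ d f, GrLC.IsGrHomDeg X.gr E.gr f d → φ f ∈ P d := by
  classical
  letI := hP.chooseDecomposition
  choose F hFd hFl using fun d (g : Module.Dual k (kpiece X (-d))) => exists_hom_of_functional hpos h0 he d g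
  let η₁ : ∀ d, toAdd P d →+ (X.carrier →ₗ[R] E.carrier) := fun d =>
    { toFun := fun x => F d (δ d ⟨x.1, x.2⟩)
      map_zero' := hom_eq_of_functional hpos h0 he (hFd d _) (fun g v _ => zero_mem _) fun c => by
        rw [hFl, show (⟨((0 : toAdd P d) : H), (0 : toAdd P d).2⟩ : P d) = 0 from rfl, map_zero,
          LinearMap.zero_apply, zero_smul]; rfl
      map_add' := fun x y => hom_eq_of_functional hpos h0 he (hFd d _)
        (fun g v hv => add_mem (hFd d _ g v hv) (hFd d _ g v hv)) fun c => by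
          rw [LinearMap.add_apply, hFl, hFl, hFl, ← add_smul, ← LinearMap.add_apply, ← map_add]; rfl }
  let η : H →+ (X.carrier →ₗ[R] E.carrier) :=
    (DirectSum.toAddMonoid η₁).comp (decomposeAddEquiv (toAdd P)).toAddMonoidHom
  have hη : ∀ d x (hx : x ∈ P d), η x = F d (δ d ⟨x, hx⟩) := fun d x hx => by
    show DirectSum.toAddMonoid η₁ (decompose (toAdd P) x) = _
    rw [decompose_of_mem (toAdd P) (show x ∈ toAdd P d from hx), DirectSum.toAddMonoid_of]
    rfl
  let L : H →ₗ[R] (X.carrier →ₗ[R] E.carrier) := linearOf (toAdd 𝒜) (toAdd P) η fun i a ha d x hx => by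
    rw [hη d x hx, hη (i + d) _ (hsm ha hx)]
    refine hom_eq_of_functional hpos h0 he (hFd _ _) (isGrHomDeg_smul ha (hFd _ _)) fun c => ?_
    have hc : a • c.1 ∈ X.gr (-d) := by
      have := X.gsmul.smul_mem ha c.2
      rwa [vadd_eq_add, show i + -(i + d) = -d by ring] at this
    rw [hFl, LinearMap.smul_apply, ← LinearMap.map_smul (F d _) a c.1, hnat i d a ha ⟨x, hx⟩ ⟨_, hsm ha hx⟩ rfl c ⟨_, hc⟩ rfl]
    exact (hFl d _ ⟨_, hc⟩).symm
  have hLd : ∀ d x (hx : x ∈ P d), GrLC.IsGrHomDeg X.gr E.gr (L x) d := fun d x hx => by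
    show GrLC.IsGrHomDeg X.gr E.gr (η x) d
    rw [hη d x hx]; exact hFd _ _
  have hLs : ∀ d f, GrLC.IsGrHomDeg X.gr E.gr f d → ∃ x ∈ P d, L x = f := fun d f hf => by
    obtain ⟨g, hg⟩ := exists_functional hpos h0 he hf
    obtain ⟨x, hx⟩ := (hδ d).2 g
    refine ⟨x.1, x.2, ?_⟩
    show η x.1 = f
    rw [hη d x.1 x.2]
    exact hom_eq_of_functional hpos h0 he (hFd _ _) hf fun c => by
      rw [hFl, hg, show δ d ⟨x.1, x.2⟩ = g from hx]
  have hinj : Function.Injective L := (injective_iff_map_eq_zero L).2 fun x hx => pr_ext (toAdd P) fun d => by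
    obtain ⟨s, hs0, hs⟩ := exists_finset (toAdd P) x
    rw [map_zero]
    by_cases hd : d ∈ s
    swap
    · exact hs0 d hd
    have h1 : ∀ c : kpiece X (-d), L (pr (toAdd P) d x) c.1 = 0 := fun c => by
      have h2 : pr E.gr 0 (L x c.1) = L (pr (toAdd P) d x) c.1 := by
        conv_lhs => rw [← hs, map_sum, LinearMap.sum_apply, map_sum]
        rw [Finset.sum_eq_single d (fun j _ hj => ?_) (fun h => absurd hd h)]
        · refine pr_self E.gr ?_
          have := hLd d _ (pr_mem (toAdd P) d x) (-d) c.1 c.2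
          rwa [neg_add_cancel] at this
        · exact pr_ne E.gr (hLd j _ (pr_mem (toAdd P) j x) (-d) c.1 c.2) (by omega)
      rw [← h2, hx, LinearMap.zero_apply, map_zero]
    have h3 : δ d ⟨pr (toAdd P) d x, pr_mem (toAdd P) d x⟩ = 0 := LinearMap.ext fun c =>
      socle_smul_injective hpos h0 he (by
        show _ • e 1 = (0 : k) • e 1
        rw [← hFl d _ c, ← hη d _ (pr_mem (toAdd P) d x), zero_smul]
        exact h1 c)
    exact congrArg Subtype.val ((hδ d).1 (h3.trans (map_zero _).symm))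
  have hsurj : Function.Surjective L := fun f => by
    obtain ⟨D, g, hg, hsum⟩ := exists_hom_components (𝒜 := toAdd 𝒜) (𝓔 := E.gr) X f
    choose x _ hx using fun j => hLs j _ (hg j)
    exact ⟨∑ j ∈ D, x j, by rw [map_sum, hsum]; exact Finset.sum_congr rfl fun j _ => hx j⟩
  refine ⟨(LinearEquiv.ofBijective L ⟨hinj, hsurj⟩).symm, fun d f hf => ?_⟩
  obtain ⟨x, hx, rfl⟩ := hLs d f hf
  rw [show (LinearEquiv.ofBijective L ⟨hinj, hsurj⟩).symm (L x) = x from LinearEquiv.symm_apply_apply _ _]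
  exact hx

end SegreLC
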