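import Groth.Agent.SegreLC.Top
import Groth.Agent.SegreLC.Dual
import Groth.Agent.SegreLC.RingCase
import Groth.Agent.SegreLC.VanSeg

/-! Canonical modules of Segre products. -/

set_option autoImplicit false
set_option maxHeartbeats 1000000
universe u

open scoped TensorProduct
open DirectSum GrModLib

namespace SegreLC

variable {k : Type u} [Field k]

section Single

variable {R : Type u} [CommRing R] [Algebra k R] {𝒜 : ℤ → Submodule k R} [GradedAlgebra 𝒜]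

/-- Multiplication between pieces of cohomology. -/
noncomputable def smulHd {M : GrLC.GMod.{u} (toAdd 𝒜)} (E : GrLC.StarInjRes (toAdd 𝒜) M.gr)
    (a : HomogeneousIdeal (toAdd 𝒜)) (q : ℕ) {i : ℤ} (r : R) (hr : r ∈ 𝒜 i) (d : ℤ) :
    Hd E a q d →ₗ[k] Hd E a q (i + d) where
  toFun x := ⟨r • x.1, smul_mem_Hd E a q hr x.2⟩
  map_add' x y := Subtype.ext (smul_add r x.1 y.1)
  map_smul' c x := Subtype.ext (smul_comm r c x.1)

theorem smulHd_val {M : GrLC.GMod.{u} (toAdd 𝒜)} (E : GrLC.StarInjRes (toAdd 𝒜) M.gr)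
    (a : HomogeneousIdeal (toAdd 𝒜)) (q : ℕ) {i : ℤ} (r : R) (hr : r ∈ 𝒜 i) (d : ℤ) (x : Hd E a q d) :
    (smulHd E a q r hr d x).1 = r • x.1 := rfl

/-- Multiplication between pieces of a module, from degree `-(i + d)` to degree `-d`. -/
noncomputable def smulPiece (X : GrLC.GMod.{u} (toAdd 𝒜)) {i : ℤ} (r : R) (hr : r ∈ 𝒜 i) (d : ℤ) :
    kpiece X (-(i + d)) →ₗ[k] kpiece X (-d) where
  toFun x := ⟨r • x.1, by
    have h := X.gsmul.smul_mem hr x.2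
    rwa [vadd_eq_add, show i + -(i + d) = -d by ring] at h⟩
  map_add' x y := Subtype.ext (smul_add r x.1 y.1)
  map_smul' c x := Subtype.ext (smul_comm r c x.1)

theorem smulPiece_val (X : GrLC.GMod.{u} (toAdd 𝒜)) {i : ℤ} (r : R) (hr : r ∈ 𝒜 i) (d : ℤ)
    (x : kpiece X (-(i + d))) : (smulPiece X r hr d x).1 = r • x.1 := rfl

theorem smulHd_add {M : GrLC.GMod.{u} (toAdd 𝒜)} (E : GrLC.StarInjRes (toAdd 𝒜) M.gr)
    (a : HomogeneousIdeal (toAdd 𝒜)) (q : ℕ) {i : ℤ} (r r' : R) (hr : r ∈ 𝒜 i) (hr' : r' ∈ 𝒜 i) (d : ℤ)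
    (x : Hd E a q d) :
    smulHd E a q (r + r') (add_mem hr hr') d x = smulHd E a q r hr d x + smulHd E a q r' hr' d x :=
  Subtype.ext (add_smul r r' x.1)

theorem smulHd_smul {M : GrLC.GMod.{u} (toAdd 𝒜)} (E : GrLC.StarInjRes (toAdd 𝒜) M.gr)
    (a : HomogeneousIdeal (toAdd 𝒜)) (q : ℕ) {i : ℤ} (b : k) (r : R) (hr : r ∈ 𝒜 i) (d : ℤ) (x : Hd E a q d) :
    smulHd E a q (b • r) (Submodule.smul_mem _ b hr) d x = b • smulHd E a q r hr d x :=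
  Subtype.ext (smul_assoc b r x.1)

theorem smulHd_zero {M : GrLC.GMod.{u} (toAdd 𝒜)} (E : GrLC.StarInjRes (toAdd 𝒜) M.gr)
    (a : HomogeneousIdeal (toAdd 𝒜)) (q : ℕ) (i : ℤ) (d : ℤ) (x : Hd E a q d) :
    smulHd E a q (0 : R) (zero_mem (𝒜 i)) d x = 0 :=
  Subtype.ext (zero_smul R x.1)

theorem smulPiece_add (X : GrLC.GMod.{u} (toAdd 𝒜)) {i : ℤ} (r r' : R) (hr : r ∈ 𝒜 i) (hr' : r' ∈ 𝒜 i) (d : ℤ)
    (x : kpiece X (-(i + d))) :
    smulPiece X (r + r') (add_mem hr hr') d x = smulPiece X r hr d x + smulPiece X r' hr' d x :=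
  Subtype.ext (add_smul r r' x.1)

theorem smulPiece_smul (X : GrLC.GMod.{u} (toAdd 𝒜)) {i : ℤ} (b : k) (r : R) (hr : r ∈ 𝒜 i) (d : ℤ)
    (x : kpiece X (-(i + d))) :
    smulPiece X (b • r) (Submodule.smul_mem _ b hr) d x = b • smulPiece X r hr d x :=
  Subtype.ext (smul_assoc b r x.1)

theorem smulPiece_zero (X : GrLC.GMod.{u} (toAdd 𝒜)) (i : ℤ) (d : ℤ) (x : kpiece X (-(i + d))) :
    smulPiece X (0 : R) (zero_mem (𝒜 i)) d x = 0 :=
  Subtype.ext (zero_smul R x.1)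

theorem nontrivial_of_dim {r : ℕ} (hr : ringKrullDim R = r) : Nontrivial R :=
  not_subsingleton_iff_nontrivial.1 fun _ => by
    rw [ringKrullDim_eq_bot_of_subsingleton] at hr; exact WithBot.bot_ne_coe hr

/-- A duality between pieces of cohomology and pieces of a module, natural in the ring. -/
def IsPairing {M : GrLC.GMod.{u} (toAdd 𝒜)} (E : GrLC.StarInjRes (toAdd 𝒜) M.gr)
    (a : HomogeneousIdeal (toAdd 𝒜)) (q : ℕ) (X : GrLC.GMod.{u} (toAdd 𝒜))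
    (δ : ∀ d, Hd E a q d →ₗ[k] Module.Dual k (kpiece X (-d))) : Prop :=
  (∀ d, Function.Bijective (δ d)) ∧ ∀ (i d : ℤ) (r : R) (hr : r ∈ 𝒜 i) (x : Hd E a q d)
    (c : kpiece X (-(i + d))), δ (i + d) (smulHd E a q r hr d x) c = δ d x (smulPiece X r hr d c)

variable [IsNoetherianRing R] [Nontrivial R]

/-- The pairing of a canonical module. -/
theorem exists_pairing_of_canonical (hpos : ∀ n : ℤ, n < 0 → 𝒜 n = ⊥) (h0 : 𝒜 0 = Submodule.span k {(1 : R)})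
    {m : HomogeneousIdeal 𝒜} (hm : m.toIdeal = Ideal.span (⋃ n ∈ Set.Ioi (0 : ℤ), (𝒜 n : Set R)))
    (I : GrLC.StarInjRes 𝒜 𝒜) {n : ℕ}
    {E₀ : Type u} [AddCommGroup E₀] [Module R E₀] {𝓔 : ℤ → AddSubgroup E₀} [DirectSum.Decomposition 𝓔]
    [SetLike.GradedSMul 𝒜 𝓔] {e : (R ⧸ m.toIdeal) →ₗ[R] E₀}
    (he : GrLC.IsStarInjHull 𝒜 (GrLC.quotGr 𝒜 m) 𝓔 e)
    {C : Type u} [AddCommGroup C] [Module R C] {𝒞 : ℤ → AddSubgroup C} [DirectSum.Decomposition 𝒞]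
    [SetLike.GradedSMul 𝒜 𝒞] (hC : GrLC.IsStarCanonical 𝒜 𝒞 𝓔 m n I) :
    Module.Finite R C ∧ ∃ δ, IsPairing (resOfG I) (toAddIdeal m) n (ofG 𝒜 C 𝒞) δ := by
  obtain ⟨hfin, φ, hφ⟩ := hC
  refine ⟨hfin, ?_⟩
  obtain ⟨e', he'⟩ := exists_hull_pos hm he
  haveI : Module.Finite R (ofG 𝒜 C 𝒞).carrier := hfin
  have h := exists_pairing (P := fun d => Hd (resOfG I) (toAddIdeal m) n d) hpos h0 he'
    (Hgr_isInternal (resOfG I) (toAddIdeal m) n)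
    (show ((ofG 𝒜 C 𝒞).carrier →ₗ[R] (ofG 𝒜 E₀ 𝓔).carrier) ≃ₗ[R] (resOfG I).H (toAddIdeal m) n from φ)
    (show ∀ (d : ℤ) (f : (ofG 𝒜 C 𝒞).carrier →ₗ[R] (ofG 𝒜 E₀ 𝓔).carrier), GrLC.IsGrHomDeg (ofG 𝒜 C 𝒞).gr
      (ofG 𝒜 E₀ 𝓔).gr f d → φ f ∈ I.Hgr m n d from fun d f hf => hφ d f hf)
  exact h.elim fun δ hδ => ⟨δ, hδ.1, fun i d r hr x c => hδ.2 i d r hr x _ rfl c _ rfl⟩

end Single

variable {R S T : Type u} [CommRing R] [Algebra k R] [CommRing S] [Algebra k S] [CommRing T] [Algebra k T]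
  {𝒜 : ℤ → Submodule k R} [GradedAlgebra 𝒜] {ℬ : ℤ → Submodule k S} [GradedAlgebra ℬ]
  {𝒯 : ℤ → Submodule k T} [GradedAlgebra 𝒯] {ψ : T →ₐ[k] R ⊗[k] S}
  (hT : GrSeg.IsSegreRing 𝒜 ℬ 𝒯 ψ) {M : GrLC.GMod.{u} (toAdd 𝒜)} {N : GrLC.GMod.{u} (toAdd ℬ)}
  (EM : GrLC.StarInjRes (toAdd 𝒜) M.gr) (EN : GrLC.StarInjRes (toAdd ℬ) N.gr) (s : Seg 𝒯 ψ M N)
  (F : GrLC.StarInjRes (toAdd 𝒯) s.Z.gr)
  {mR : HomogeneousIdeal 𝒜} {mS : HomogeneousIdeal ℬ} {mT : HomogeneousIdeal 𝒯}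
  (hmR : mR.toIdeal = Ideal.span (⋃ n ∈ Set.Ioi (0 : ℤ), (𝒜 n : Set R)))
  (hmS : mS.toIdeal = Ideal.span (⋃ n ∈ Set.Ioi (0 : ℤ), (ℬ n : Set S)))
  (hmT : mT.toIdeal = Ideal.span (⋃ n ∈ Set.Ioi (0 : ℤ), (𝒯 n : Set T)))

section Piece

variable {X : GrLC.GMod.{u} (toAdd 𝒜)} {Y : GrLC.GMod.{u} (toAdd ℬ)} (z : Seg 𝒯 ψ X Y)

/-- A piece of a Segre product is the tensor product of the pieces. -/
noncomputable def Seg.pieceEquiv (d : ℤ) : kpiece X d ⊗[k] kpiece Y d ≃ₗ[k] kpiece z.Z d :=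
  LinearEquiv.ofBijective ((z.lift d).codRestrict (kpiece z.Z d) fun w => (z.mem_range_lift d).2 ⟨w, rfl⟩)
    ⟨fun a b h => z.lift_injective d (congrArg Subtype.val h), fun p => by
      obtain ⟨w, hw⟩ := (z.mem_range_lift d).1 p.2
      exact ⟨w, Subtype.ext hw⟩⟩

theorem Seg.pieceEquiv_val (d : ℤ) (w : kpiece X d ⊗[k] kpiece Y d) : (z.pieceEquiv d w).1 = z.lift d w := rfl

theorem Seg.smulPiece_pieceEquiv {i d : ℤ} {t : T} {r : R} {r' : S} (ht : t ∈ 𝒯 i) (hr : r ∈ 𝒜 i) (hr' : r' ∈ ℬ i)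
    (h : ψ t = r ⊗ₜ r') (c : kpiece X (-(i + d))) (c' : kpiece Y (-(i + d))) :
    smulPiece z.Z t ht d (z.pieceEquiv _ (c ⊗ₜ c')) =
      z.pieceEquiv _ (smulPiece X r hr d c ⊗ₜ smulPiece Y r' hr' d c') := by
  refine Subtype.ext (z.val_injective ?_)
  rw [smulPiece_val, z.pieceEquiv_val, z.pieceEquiv_val, z.val_smul, z.val_lift, z.val_lift, h,
    TensorProduct.map_tmul, TensorProduct.map_tmul, GrSeg.act_tmul]
  rfl

end Piece

/-- Pairings of two finite-dimensional spaces, on the tensor product. -/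
theorem exists_tensor_pairing {H₁ H₂ H V₁ V₂ V : Type u} [AddCommGroup H₁] [Module k H₁] [AddCommGroup H₂]
    [Module k H₂] [AddCommGroup H] [Module k H] [AddCommGroup V₁] [Module k V₁] [AddCommGroup V₂] [Module k V₂]
    [AddCommGroup V] [Module k V] [Module.Finite k V₁] [Module.Finite k V₂]
    (Ω : H₁ ⊗[k] H₂ →ₗ[k] H) (hΩ : Function.Bijective Ω) (κ : V₁ ⊗[k] V₂ ≃ₗ[k] V)
    (δ₁ : H₁ →ₗ[k] Module.Dual k V₁) (h₁ : Function.Bijective δ₁) (δ₂ : H₂ →ₗ[k] Module.Dual k V₂)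
    (h₂ : Function.Bijective δ₂) :
    ∃ δ : H →ₗ[k] Module.Dual k V, Function.Bijective δ ∧
      ∀ x₁ x₂ v₁ v₂, δ (Ω (x₁ ⊗ₜ x₂)) (κ (v₁ ⊗ₜ v₂)) = δ₁ x₁ v₁ * δ₂ x₂ v₂ := by
  let e := (LinearEquiv.ofBijective Ω hΩ).symm.trans ((TensorProduct.congr (LinearEquiv.ofBijective δ₁ h₁)
    (LinearEquiv.ofBijective δ₂ h₂)).trans ((TensorProduct.dualDistribEquiv k V₁ V₂).trans κ.symm.dualMap))
  refine ⟨e.toLinearMap, e.bijective, fun x₁ x₂ v₁ v₂ => ?_⟩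
  have h : (LinearEquiv.ofBijective Ω hΩ).symm (Ω (x₁ ⊗ₜ[k] x₂)) = x₁ ⊗ₜ[k] x₂ :=
    LinearEquiv.symm_apply_apply (LinearEquiv.ofBijective Ω hΩ) _
  simp only [e, LinearEquiv.coe_coe, LinearEquiv.trans_apply, h, TensorProduct.congr_tmul,
    LinearEquiv.ofBijective_apply, LinearEquiv.dualMap_apply, LinearEquiv.symm_apply_apply]
  exact TensorProduct.dualDistrib_apply _ _ _ _

section Bil

variable {A B V W : Type u} [AddCommGroup A] [Module k A] [AddCommGroup B] [Module k B] [AddCommGroup V] [Module k V]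
  [AddCommGroup W] [Module k W] (δ' : B →ₗ[k] Module.Dual k V) (δ : A →ₗ[k] Module.Dual k W)

theorem bil_zero (x : A) (c : V) : δ' 0 c = δ x 0 := by rw [map_zero, map_zero, LinearMap.zero_apply]

theorem bil_add (x : A) (c : V) {y₁ y₂ : B} {w₁ w₂ : W} (h₁ : δ' y₁ c = δ x w₁) (h₂ : δ' y₂ c = δ x w₂) :
    δ' (y₁ + y₂) c = δ x (w₁ + w₂) := by rw [map_add, map_add, LinearMap.add_apply, h₁, h₂]

theorem bil_smul (b : k) (x : A) (c : V) {y : B} {w : W} (h : δ' y c = δ x w) : δ' (b • y) c = δ x (b • w) := by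
  rw [map_smul, map_smul, LinearMap.smul_apply, h]

end Bil

include hT in
/-- Naturality follows from naturality in pure tensors. -/
theorem isPairing_of_pure {q : ℕ} {Z : GrLC.GMod.{u} (toAdd 𝒯)} (a : HomogeneousIdeal (toAdd 𝒯))
    {δ : ∀ d, Hd F a q d →ₗ[k] Module.Dual k (kpiece Z (-d))} (hb : ∀ d, Function.Bijective (δ d))
    (hpure : ∀ (i d : ℤ) (t : T) (ht : t ∈ 𝒯 i) (r : R) (r' : S), r ∈ 𝒜 i → r' ∈ ℬ i → ψ t = r ⊗ₜ r' →
      ∀ x c, δ (i + d) (smulHd F a q t ht d x) c = δ d x (smulPiece Z t ht d c)) :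
    IsPairing F a q Z δ := by
  refine ⟨hb, fun i d t ht x c => ?_⟩
  suffices h : ∃ ht : t ∈ 𝒯 i, δ (i + d) (smulHd F a q t ht d x) c = δ d x (smulPiece Z t ht d c) from
    h.elim fun _ h => h
  refine piece_induction_T hT (P := fun t => ∃ ht : t ∈ 𝒯 i,
    δ (i + d) (smulHd F a q t ht d x) c = δ d x (smulPiece Z t ht d c))
    ⟨zero_mem _, ?_⟩ (fun t₁ t₂ => ?_) (fun b t₁ => ?_)
    (fun t ht r hr r' hr' e => ⟨ht, hpure i d t ht r r' hr hr' e x c⟩) ht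
  · rw [smulHd_zero F a q i d x, smulPiece_zero Z i d c]
    exact bil_zero (δ (i + d)) (δ d) x c
  · rintro ⟨m₁, h₁⟩ ⟨m₂, h₂⟩
    refine ⟨add_mem m₁ m₂, ?_⟩
    rw [smulHd_add F a q t₁ t₂ m₁ m₂ d x, smulPiece_add Z t₁ t₂ m₁ m₂ d c]
    exact bil_add (δ (i + d)) (δ d) x c h₁ h₂
  · rintro ⟨m₁, h₁⟩
    refine ⟨Submodule.smul_mem _ b m₁, ?_⟩
    exact ((congrArg (fun z => δ (i + d) z c) (smulHd_smul F a q b t₁ m₁ d x)).trans
      (bil_smul (δ (i + d)) (δ d) b x c h₁)).trans (congrArg (δ d x) (smulPiece_smul Z b t₁ m₁ d c)).symm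

/-- Naturality of a pairing of tensor products, for one pure tensor. -/
theorem pure_natural {A₁ A₂ A B₁ B₂ B V₁ V₂ V W₁ W₂ W : Type u} [AddCommGroup A₁] [Module k A₁] [AddCommGroup A₂]
    [Module k A₂] [AddCommGroup A] [Module k A] [AddCommGroup B₁] [Module k B₁] [AddCommGroup B₂] [Module k B₂]
    [AddCommGroup B] [Module k B] [AddCommGroup V₁] [Module k V₁] [AddCommGroup V₂] [Module k V₂] [AddCommGroup V]
    [Module k V] [AddCommGroup W₁] [Module k W₁] [AddCommGroup W₂] [Module k W₂] [AddCommGroup W] [Module k W]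
    {Ω : A₁ ⊗[k] A₂ →ₗ[k] A} (hΩ : Function.Surjective Ω) {Ω' : B₁ ⊗[k] B₂ →ₗ[k] B}
    {κ : V₁ ⊗[k] V₂ →ₗ[k] V} (hκ : Function.Surjective κ) {κ' : W₁ ⊗[k] W₂ →ₗ[k] W}
    {δ : A →ₗ[k] Module.Dual k W} {δ₁ : A₁ →ₗ[k] Module.Dual k W₁} {δ₂ : A₂ →ₗ[k] Module.Dual k W₂}
    (hδ : ∀ x y v w, δ (Ω (x ⊗ₜ y)) (κ' (v ⊗ₜ w)) = δ₁ x v * δ₂ y w)
    {δ' : B →ₗ[k] Module.Dual k V} {δ₁' : B₁ →ₗ[k] Module.Dual k V₁} {δ₂' : B₂ →ₗ[k] Module.Dual k V₂}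
    (hδ' : ∀ x y v w, δ' (Ω' (x ⊗ₜ y)) (κ (v ⊗ₜ w)) = δ₁' x v * δ₂' y w)
    {f₁ : A₁ →ₗ[k] B₁} {f₂ : A₂ →ₗ[k] B₂} {f : A →ₗ[k] B} (hf : ∀ x y, f (Ω (x ⊗ₜ y)) = Ω' (f₁ x ⊗ₜ f₂ y))
    {g₁ : V₁ →ₗ[k] W₁} {g₂ : V₂ →ₗ[k] W₂} {g : V →ₗ[k] W} (hg : ∀ v w, g (κ (v ⊗ₜ w)) = κ' (g₁ v ⊗ₜ g₂ w))
    (h₁ : ∀ x v, δ₁' (f₁ x) v = δ₁ x (g₁ v)) (h₂ : ∀ y w, δ₂' (f₂ y) w = δ₂ y (g₂ w)) (x : A) (c : V) :
    δ' (f x) c = δ x (g c) := by
  obtain ⟨w, rfl⟩ := hΩ x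
  obtain ⟨v, rfl⟩ := hκ c
  induction w using TensorProduct.induction_on with
  | zero => simp
  | add w₁ w₂ e₁ e₂ => simp only [map_add, LinearMap.add_apply, e₁, e₂]
  | tmul x₁ x₂ =>
    induction v using TensorProduct.induction_on with
    | zero => simp
    | add v₁ v₂ e₁ e₂ => simp only [map_add, e₁, e₂]
    | tmul v₁ v₂ => rw [hf, hg, hδ', hδ, h₁, h₂]

include hT hmR hmS hmT in
/-- The pairings of two modules pair the Segre products. -/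
theorem exists_segre_pairing [IsNoetherianRing R] [IsNoetherianRing S] [IsNoetherianRing T] (a b : ℕ)
    (hM : ∀ i, a + 2 < i → ∀ d, Subsingleton (Hd EM (toAddIdeal mR) i d))
    (hN : ∀ i, b + 2 < i → ∀ d, Subsingleton (Hd EN (toAddIdeal mS) i d))
    {X : GrLC.GMod.{u} (toAdd 𝒜)} {Y : GrLC.GMod.{u} (toAdd ℬ)} (z : Seg 𝒯 ψ X Y)
    (hX : ∀ d, Module.Finite k (kpiece X d)) (hY : ∀ d, Module.Finite k (kpiece Y d))
    (δX : ∀ d, Hd EM (toAddIdeal mR) (a + 2) d →ₗ[k] Module.Dual k (kpiece X (-d)))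
    (hδX : IsPairing EM (toAddIdeal mR) (a + 2) X δX)
    (δY : ∀ d, Hd EN (toAddIdeal mS) (b + 2) d →ₗ[k] Module.Dual k (kpiece Y (-d)))
    (hδY : IsPairing EN (toAddIdeal mS) (b + 2) Y δY) :
    ∃ δ, IsPairing F (toAddIdeal mT) (a + 1 + b + 1 + 1) z.Z δ := by
  refine (exists_top_classes hT EM EN s F hmR hmS hmT a b hM hN).elim fun Ω hΩ => ?_
  have h := fun d => haveI := hX (-d); haveI := hY (-d)
    exists_tensor_pairing (Ω d) (hΩ.1 d) (z.pieceEquiv (-d)) (δX d) (hδX.1 d) (δY d) (hδY.1 d)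
  refine ⟨fun d => (h d).choose, isPairing_of_pure hT s F (toAddIdeal mT) (fun d => (h d).choose_spec.1)
    fun i d t ht r r' hr hr' e x c => ?_⟩
  exact pure_natural (hΩ.1 d).2 (Ω' := Ω (i + d)) (κ := (z.pieceEquiv (-(i + d))).toLinearMap)
    (z.pieceEquiv (-(i + d))).surjective (κ' := (z.pieceEquiv (-d)).toLinearMap) (h d).choose_spec.2
    (h (i + d)).choose_spec.2
    (f₁ := smulHd EM (toAddIdeal mR) (a + 2) r hr d) (f₂ := smulHd EN (toAddIdeal mS) (b + 2) r' hr' d)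
    (f := smulHd F (toAddIdeal mT) (a + 1 + b + 1 + 1) t ht d)
    (fun x₁ x₂ => Subtype.ext (hΩ.2 i d t r r' hr hr' e x₁ x₂ _ _ rfl rfl))
    (g₁ := smulPiece X r hr d) (g₂ := smulPiece Y r' hr' d) (g := smulPiece z.Z t ht d)
    (fun v₁ v₂ => z.smulPiece_pieceEquiv ht hr hr' e v₁ v₂) (fun x v => hδX.2 i d r hr x v)
    (fun y w => hδY.2 i d r' hr' y w) x c

section Rings

variable (hposR : ∀ n : ℤ, n < 0 → 𝒜 n = ⊥) (h0R : 𝒜 0 = Submodule.span k {(1 : R)})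
  [IsNoetherianRing R]

/-- Local cohomology of a ring vanishes above its dimension. -/
theorem subsingleton_Hd_above {n : ℕ} (hr : ringKrullDim R = n) (I : GrLC.StarInjRes 𝒜 𝒜) (m : HomogeneousIdeal 𝒜)
    (i : ℕ) (hi : n < i) (d : ℤ) : Subsingleton (Hd (resOfG I) (toAddIdeal m) i d) :=
  (subsingleton_H_iff_Hd (resOfG I) (toAddIdeal m) i).1
    (LocCohLib.subsingleton_H_of_supportDim_lt i R
      (lt_of_eq_of_lt ((Module.supportDim_self_eq_ringKrullDim (R := R)).trans hr)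
        (by exact_mod_cast hi))) d

include h0R in
/-- Dimensions of the pieces of a module paired with cohomology. -/
theorem finrank_of_pairing {M : GrLC.GMod.{u} (toAdd 𝒜)} {E : GrLC.StarInjRes (toAdd 𝒜) M.gr}
    {a : HomogeneousIdeal (toAdd 𝒜)} {q : ℕ} {X : GrLC.GMod.{u} (toAdd 𝒜)} [Module.Finite R X.carrier]
    {δ : ∀ d, Hd E a q d →ₗ[k] Module.Dual k (kpiece X (-d))} (h : IsPairing E a q X δ) (n : ℤ) :
    Module.finrank k (kpiece X n) = Module.finrank k (Hd E a q (-n)) := by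
  haveI := finite_kpiece h0R X (- -n)
  rw [(LinearEquiv.ofBijective (δ (-n)) (h.1 (-n))).finrank_eq, Subspace.dual_finrank_eq]
  exact congrArg (fun j => Module.finrank k (kpiece X j)) (neg_neg n).symm

end Rings

section Main

variable (hposR : ∀ n : ℤ, n < 0 → 𝒜 n = ⊥) (h0R : 𝒜 0 = Submodule.span k {(1 : R)})
  (hposS : ∀ n : ℤ, n < 0 → ℬ n = ⊥) (h0S : ℬ 0 = Submodule.span k {(1 : S)})
  [Algebra.FiniteType k R] [Algebra.FiniteType k S]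
  (I : GrLC.StarInjRes 𝒜 𝒜) (J : GrLC.StarInjRes ℬ ℬ) (IT : GrLC.StarInjRes 𝒯 𝒯)
  {ER : Type u} [AddCommGroup ER] [Module R ER] {𝓔R : ℤ → AddSubgroup ER} [DirectSum.Decomposition 𝓔R]
  [SetLike.GradedSMul 𝒜 𝓔R] {eR : (R ⧸ mR.toIdeal) →ₗ[R] ER}
  (heR : GrLC.IsStarInjHull 𝒜 (GrLC.quotGr 𝒜 mR) 𝓔R eR)
  {CR : Type u} [AddCommGroup CR] [Module R CR] {𝒞R : ℤ → AddSubgroup CR} [DirectSum.Decomposition 𝒞R]
  [SetLike.GradedSMul 𝒜 𝒞R]
  {ES : Type u} [AddCommGroup ES] [Module S ES] {𝓔S : ℤ → AddSubgroup ES} [DirectSum.Decomposition 𝓔S]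
  [SetLike.GradedSMul ℬ 𝓔S] {eS : (S ⧸ mS.toIdeal) →ₗ[S] ES}
  (heS : GrLC.IsStarInjHull ℬ (GrLC.quotGr ℬ mS) 𝓔S eS)
  {CS : Type u} [AddCommGroup CS] [Module S CS] {𝒞S : ℤ → AddSubgroup CS} [DirectSum.Decomposition 𝒞S]
  [SetLike.GradedSMul ℬ 𝒞S]
  {ET : Type u} [AddCommGroup ET] [Module T ET] {𝓔T : ℤ → AddSubgroup ET} [DirectSum.Decomposition 𝓔T]
  [SetLike.GradedSMul 𝒯 𝓔T] {eT : (T ⧸ mT.toIdeal) →ₗ[T] ET}
  (heT : GrLC.IsStarInjHull 𝒯 (GrLC.quotGr 𝒯 mT) 𝓔T eT)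

include hT hmR hmS hmT hposR h0R hposS h0S heR heS in
/-- The pairing between a Segre product of canonical modules and the top cohomology. -/
theorem exists_pairing_segre {a b : ℕ} (hr : ringKrullDim R = (a + 2 : ℕ)) (hs : ringKrullDim S = (b + 2 : ℕ))
    (hCR : GrLC.IsStarCanonical 𝒜 𝒞R 𝓔R mR (a + 2) I) (hCS : GrLC.IsStarCanonical ℬ 𝒞S 𝓔S mS (b + 2) J)
    (z : Seg 𝒯 ψ (ofG 𝒜 CR 𝒞R) (ofG ℬ CS 𝒞S)) :
    ∃ δ, IsPairing (resOfG IT) (toAddIdeal mT) (a + 1 + b + 1 + 1) z.Z δ := by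
  haveI : IsNoetherianRing R := Algebra.FiniteType.isNoetherianRing k R
  haveI : IsNoetherianRing S := Algebra.FiniteType.isNoetherianRing k S
  haveI := isNoetherianRing_T hT
  haveI : Nontrivial R := nontrivial_of_dim hr
  haveI : Nontrivial S := nontrivial_of_dim hs
  have hR := exists_pairing_of_canonical hposR h0R hmR I heR hCR
  have hS := exists_pairing_of_canonical hposS h0S hmS J heS hCS
  refine hR.2.elim fun δR hδR => hS.2.elim fun δS hδS => ?_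
  haveI : Module.Finite R (ofG 𝒜 CR 𝒞R).carrier := hR.1
  haveI : Module.Finite S (ofG ℬ CS 𝒞S).carrier := hS.1
  exact exists_segre_pairing hT (resOfG I) (resOfG J) (segOf 𝒜 ℬ 𝒯 (isSegreMod_self hT)) (resOfG IT) hmR hmS hmT
    a b (fun i hi d => subsingleton_Hd_above hr I mR i hi d) (fun i hi d => subsingleton_Hd_above hs J mS i hi d) z
    (fun d => finite_kpiece h0R _ d) (fun d => finite_kpiece h0S _ d) δR hδR δS hδS

include hT hmR hmS hmT hposR h0R hposS h0S heR heS heT in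
/-- The Segre product of canonical modules is canonical. -/
theorem canonical_segre {a b n : ℕ} (hn : n = a + 1 + b + 1 + 1) (hr : ringKrullDim R = (a + 2 : ℕ))
    (hs : ringKrullDim S = (b + 2 : ℕ))
    (hCR : GrLC.IsStarCanonical 𝒜 𝒞R 𝓔R mR (a + 2) I) (hCS : GrLC.IsStarCanonical ℬ 𝒞S 𝓔S mS (b + 2) J)
    [Module k CR] [IsScalarTower k R CR] [Module k CS] [IsScalarTower k S CS]
    {P : Type u} [AddCommGroup P] [Module T P] [Module k P] [IsScalarTower k T P]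
    {𝒬 : ℤ → AddSubgroup P} [DirectSum.Decomposition 𝒬] [SetLike.GradedSMul 𝒯 𝒬]
    {φ : P →ₗ[k] TensorProduct k CR CS} (hP : GrSeg.IsSegreMod ψ 𝒞R 𝒞S 𝒬 φ) :
    GrLC.IsStarCanonical 𝒯 𝒬 𝓔T mT n IT := by
  subst hn
  haveI : IsNoetherianRing R := Algebra.FiniteType.isNoetherianRing k R
  haveI : IsNoetherianRing S := Algebra.FiniteType.isNoetherianRing k S
  haveI := isNoetherianRing_T hT
  haveI : Module.Finite R CR := hCR.1
  haveI : Module.Finite S CS := hCS.1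
  have hfin : Module.Finite T P := finite_P hT hP
  refine ⟨hfin, ?_⟩
  haveI : Nontrivial T := nontrivial_T' hT hr hs
  have hT' := exists_hull_pos hmT heT
  refine hT'.elim fun e' he' => ?_
  have hδ := exists_pairing_segre hT hmR hmS hmT hposR h0R hposS h0S I J IT heR heS hr hs hCR hCS
    (segOf 𝒞R 𝒞S 𝒬 hP)
  refine hδ.elim fun δ hδ => ?_
  haveI : Module.Finite T (ofG 𝒯 P 𝒬).carrier := hfin
  have h := exists_canonical_of_pairing
    (P := fun d => Hd (resOfG IT) (toAddIdeal mT) (a + 1 + b + 1 + 1) d) (X := ofG 𝒯 P 𝒬)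
    (pos_T hT hposR) (exists_scalar_T hT h0R h0S) he'
    (Hgr_isInternal (resOfG IT) (toAddIdeal mT) (a + 1 + b + 1 + 1))
    (fun {_ _ _} hr {_} hx => smul_mem_Hd (resOfG IT) (toAddIdeal mT) _ hr hx) δ hδ.1
    (fun i d t ht x y hy c c' hc => by
      rw [show y = smulHd (resOfG IT) (toAddIdeal mT) _ t ht d x from Subtype.ext hy,
        show c' = smulPiece (ofG 𝒯 P 𝒬) t ht d c from Subtype.ext hc]
      exact hδ.2 i d t ht x c)
  exact h.elim fun φ' hφ' => ⟨φ', fun d f hf => hφ' d f hf⟩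

include hT hmR hmS hmT hposR h0R hposS h0S heR heS heT in
/-- Dimensions of the pieces of the canonical modules. -/
theorem finrank_canonical_segre {a b n : ℕ} (hn : n = a + 1 + b + 1 + 1) (hr : ringKrullDim R = (a + 2 : ℕ))
    (hs : ringKrullDim S = (b + 2 : ℕ))
    (hCR : GrLC.IsStarCanonical 𝒜 𝒞R 𝓔R mR (a + 2) I) (hCS : GrLC.IsStarCanonical ℬ 𝒞S 𝓔S mS (b + 2) J)
    {CT : Type u} [AddCommGroup CT] [Module T CT] {𝒞T : ℤ → AddSubgroup CT} [DirectSum.Decomposition 𝒞T]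
    [SetLike.GradedSMul 𝒯 𝒞T] (hCT : GrLC.IsStarCanonical 𝒯 𝒞T 𝓔T mT n IT) (j : ℤ) :
    Module.finrank k (kpiece (ofG 𝒯 CT 𝒞T) j) =
      Module.finrank k (kpiece (ofG 𝒜 CR 𝒞R) j) * Module.finrank k (kpiece (ofG ℬ CS 𝒞S) j) := by
  subst hn
  haveI : IsNoetherianRing R := Algebra.FiniteType.isNoetherianRing k R
  haveI : IsNoetherianRing S := Algebra.FiniteType.isNoetherianRing k S
  haveI := isNoetherianRing_T hT
  haveI : Nontrivial R := nontrivial_of_dim hr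
  haveI : Nontrivial S := nontrivial_of_dim hs
  haveI : Nontrivial T := nontrivial_T' hT hr hs
  have hR := exists_pairing_of_canonical hposR h0R hmR I heR hCR
  have hS := exists_pairing_of_canonical hposS h0S hmS J heS hCS
  have hT' := exists_pairing_of_canonical (pos_T hT hposR) (exists_scalar_T hT h0R h0S) hmT IT heT hCT
  haveI : Module.Finite R (ofG 𝒜 CR 𝒞R).carrier := hR.1
  haveI : Module.Finite S (ofG ℬ CS 𝒞S).carrier := hS.1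
  haveI : Module.Finite T (ofG 𝒯 CT 𝒞T).carrier := hT'.1
  refine hR.2.elim fun δR hδR => hS.2.elim fun δS hδS => hT'.2.elim fun δT hδT => ?_
  rw [finrank_of_pairing h0R hδR, finrank_of_pairing h0S hδS, finrank_of_pairing (exists_scalar_T hT h0R h0S) hδT,
    ← Module.finrank_tensorProduct]
  have hΩ := exists_top_classes hT (resOfG I) (resOfG J) (segOf 𝒜 ℬ 𝒯 (isSegreMod_self hT)) (resOfG IT) hmR hmS hmT
    a b (fun i hi d => subsingleton_Hd_above hr I mR i hi d) (fun i hi d => subsingleton_Hd_above hs J mS i hi d)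
  exact hΩ.elim fun Ω hΩ => (LinearEquiv.ofBijective (Ω (-j)) (hΩ.1 (-j))).finrank_eq.symm

end Main

end SegreLC
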