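import Groth.Agent.SegreLC.Tot
import Groth.Agent.SegreLib.Finite
import Groth.Agent.GrModLib.Pieces

/-! Dimensions of the pieces of local cohomology of a Segre product. -/

set_option autoImplicit false
universe u

open scoped TensorProduct
open DirectSum GrModLib

namespace SegreLC

variable {k : Type u} [Field k] {R S T : Type u} [CommRing R] [Algebra k R] [CommRing S] [Algebra k S]
  [CommRing T] [Algebra k T] {𝒜 : ℤ → Submodule k R} [GradedAlgebra 𝒜] {ℬ : ℤ → Submodule k S} [GradedAlgebra ℬ]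
  {𝒯 : ℤ → Submodule k T} [GradedAlgebra 𝒯] {ψ : T →ₐ[k] R ⊗[k] S}

theorem finite_of_ker_smul_id {A X : Type*} [CommRing A] [AddCommGroup X] [Module A X] {x : A} (hx : x = 0)
    (h : Module.Finite A (LinearMap.ker (x • (LinearMap.id : X →ₗ[A] X)))) : Module.Finite A X := by
  subst hx
  haveI := h
  exact Module.Finite.equiv ((LinearEquiv.ofEq (LinearMap.ker ((0 : A) • (LinearMap.id : X →ₗ[A] X))) ⊤
    (by rw [zero_smul, LinearMap.ker_zero])).trans
    (Submodule.topEquiv (R := A) (M := X)))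

section Scalars

theorem exists_scalar (h0 : 𝒜 0 = Submodule.span k {(1 : R)}) {r : R} (hr : r ∈ 𝒜 0) :
    ∃ c : k, algebraMap k R c = r := by
  rw [h0] at hr
  obtain ⟨c, rfl⟩ := Submodule.mem_span_singleton.1 hr
  exact ⟨c, Algebra.algebraMap_eq_smul_one c⟩

/-- Dimensions over the degree-zero field and over `k` agree. -/
theorem finrank_deg0 {σ : Type u} [SetLike σ R] [AddSubgroupClass σ R] (𝒟 : ℤ → σ) [GradedRing 𝒟] [Nontrivial R]
    (hmem : ∀ c : k, algebraMap k R c ∈ 𝒟 0) (h0 : ∀ r ∈ 𝒟 0, ∃ c : k, algebraMap k R c = r)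
    {H : Type u} [AddCommGroup H] [Module R H] [Module k H] [IsScalarTower k R H]
    (P : Submodule (GrLC.deg0 𝒟) H) (Q : Submodule k H) (h : ∀ x, x ∈ P ↔ x ∈ Q) :
    Module.finrank (GrLC.deg0 𝒟) P = Module.finrank k Q := by
  let i : k → GrLC.deg0 𝒟 := fun c => ⟨algebraMap k R c, hmem c⟩
  have hi : Function.Bijective i := ⟨fun a b e => (algebraMap k R).injective (congrArg Subtype.val e),
    fun r => by obtain ⟨c, hc⟩ := h0 r.1 r.2; exact ⟨c, Subtype.ext hc⟩⟩
  let j : Q ≃+ P :=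
    { toFun := fun x => ⟨x.1, (h _).2 x.2⟩, invFun := fun x => ⟨x.1, (h _).1 x.2⟩
      left_inv := fun _ => rfl, right_inv := fun _ => rfl, map_add' := fun _ _ => rfl }
  have h1 := rank_eq_of_equiv_equiv i j hi fun c x => Subtype.ext (algebraMap_smul R c x.1).symm
  rw [Module.finrank, Module.finrank, h1]

theorem finite_of_finite_deg0 {σ : Type u} [SetLike σ R] [AddSubgroupClass σ R] (𝒟 : ℤ → σ) [GradedRing 𝒟]
    (h0 : ∀ r ∈ 𝒟 0, ∃ c : k, algebraMap k R c = r)
    {H : Type u} [AddCommGroup H] [Module R H] [Module k H] [IsScalarTower k R H]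
    (P : Submodule (GrLC.deg0 𝒟) H) (Q : Submodule k H) (h : ∀ x, x ∈ P ↔ x ∈ Q)
    [Module.Finite (GrLC.deg0 𝒟) P] : Module.Finite k Q := by
  classical
  obtain ⟨s, hs⟩ := Module.Finite.fg_top (R := GrLC.deg0 𝒟) (M := P)
  refine ⟨⟨s.image (fun x : P => (⟨x.1, (h _).1 x.2⟩ : Q)), eq_top_iff.2 fun x _ => ?_⟩⟩
  have key : ∀ y ∈ Submodule.span (GrLC.deg0 𝒟) (s : Set P), (⟨y.1, (h _).1 y.2⟩ : Q) ∈
      Submodule.span k ((s.image (fun x : P => (⟨x.1, (h _).1 x.2⟩ : Q)) : Finset Q) : Set Q) := fun y hy => by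
    induction hy using Submodule.span_induction with
    | mem y hy => exact Submodule.subset_span (Finset.mem_image_of_mem _ hy)
    | zero => exact zero_mem _
    | add a b _ _ ha hb => exact add_mem ha hb
    | smul r y _ hy =>
      obtain ⟨c, hc⟩ := h0 r.1 r.2
      have e : (⟨(r • y).1, (h _).1 (r • y).2⟩ : Q) = c • ⟨y.1, (h _).1 y.2⟩ := Subtype.ext (by
        show r.1 • y.1 = c • y.1
        rw [← hc, algebraMap_smul])
      rw [e]
      exact Submodule.smul_mem _ c hy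
  exact key ⟨x.1, (h _).2 x.2⟩ (hs.ge trivial)

variable [IsNoetherianRing R]

/-- Pieces of local cohomology of finite modules are finite dimensional. -/
theorem finite_Hd (hpos : ∀ n : ℤ, n < 0 → 𝒜 n = ⊥) (h0 : 𝒜 0 = Submodule.span k {(1 : R)})
    {mR : HomogeneousIdeal 𝒜} (hmR : mR.toIdeal = Ideal.span (⋃ n ∈ Set.Ioi (0 : ℤ), (𝒜 n : Set R)))
    {M : GrLC.GMod.{u} (toAdd 𝒜)} [Module.Finite R M.carrier] (E : GrLC.StarInjRes (toAdd 𝒜) M.gr)
    (i : ℕ) (d : ℤ) : Module.Finite k (Hd E (toAddIdeal mR) i d) := by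
  have hpos' : ∀ n : ℤ, n < 0 → toAdd 𝒜 n = ⊥ := fun n hn => (AddSubgroup.eq_bot_iff_forall _).2 fun x hx => by
    have : x ∈ 𝒜 n := hx
    rwa [hpos n hn, Submodule.mem_bot] at this
  haveI : IsNoetherianRing (GrLC.deg0 (toAdd 𝒜)) :=
    isNoetherianRing_of_surjective k _ ((algebraMap k R).codRestrict (GrLC.deg0 (toAdd 𝒜))
      (algebraMap_mem_deg0 (𝒜 := 𝒜))) fun r => by
      obtain ⟨c, hc⟩ := exists_scalar h0 r.2
      exact ⟨c, Subtype.ext hc⟩
  have key : Module.Finite (GrLC.deg0 (toAdd 𝒜)) (E.Hcomp (toAddIdeal mR) i d) := by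
    refine piece_induction hpos' (toAddIdeal mR) hmR.ge
      (fun X _ _ => Module.Finite (GrLC.deg0 (toAdd 𝒜)) X) (fun X _ _ _ => inferInstance) ?_ ?_ ?_ i M
      inferInstance E d
    · intro A B D _ _ _ _ _ _ f g hfg hA hD
      haveI : Module.Finite (GrLC.deg0 (toAdd 𝒜)) (LinearMap.ker g) := by rw [← hfg]; infer_instance
      haveI : IsNoetherian (GrLC.deg0 (toAdd 𝒜)) D := isNoetherian_of_isNoetherianRing_of_finite _ _
      haveI : Module.Finite (GrLC.deg0 (toAdd 𝒜)) (LinearMap.range g) := inferInstance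
      haveI : Module.Finite (GrLC.deg0 (toAdd 𝒜)) (B ⧸ LinearMap.ker g) :=
        Module.Finite.equiv g.quotKerEquivRange.symm
      exact Module.Finite.of_submodule_quotient (LinearMap.ker g)
    · intro N hN E n
      haveI := hN
      haveI : IsNoetherian R N.carrier := isNoetherian_of_isNoetherianRing_of_finite R N.carrier
      haveI : IsNoetherian R (LinearMap.range E.ε) := isNoetherian_range E.ε
      haveI : IsNoetherian R (E.cocyc (toAddIdeal mR) 0) :=
        isNoetherian_of_le (inf_le_right.trans E.exact_zero.le)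
      letI := (Hgr_isInternal E (toAddIdeal mR) 0).chooseDecomposition
      haveI := isNoetherian_piece (E.Hgr (toAddIdeal mR) 0) (P := E.Hcomp (toAddIdeal mR) 0 n) (n := n)
        fun x hx => hx
      infer_instance
    · intro i N _ E n x hx hker
      have hx0 : (x : R) = 0 := by
        rw [← pr_self (toAdd 𝒜) (show (x : R) ∈ toAdd 𝒜 0 from x.2)]
        exact pr_zero_posIdeal hpos' _ (hmR.le hx)
      exact finite_of_ker_smul_id (Subtype.ext hx0) hker
  exact finite_of_finite_deg0 (toAdd 𝒜) (fun r hr => exists_scalar h0 hr) (E.Hcomp (toAddIdeal mR) i d)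
    (Hd E (toAddIdeal mR) i d) fun _ => Iff.rfl

end Scalars

section Single

variable {M : GrLC.GMod.{u} (toAdd 𝒜)} (E : GrLC.StarInjRes (toAdd 𝒜) M.gr) (a : HomogeneousIdeal (toAdd 𝒜)) (d : ℤ)

/-- Without cohomology in degrees zero and one a piece is the harmonic part in degree zero. -/
theorem nonempty_aug (h₀ : Subsingleton (Hd E a 0 d)) (h₁ : Subsingleton (Hd E a 1 d)) :
    Nonempty (kpiece M d ≃ₗ[k] LinearMap.range ((dSetup E a d).sp.e 0)) ∧
      Function.Injective (qd E a d 0 ∘ₗ εd E d) ∧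
      LinearMap.range (qd E a d 0 ∘ₗ εd E d) = LinearMap.range ((dSetup E a d).sp.e 0) := by
  obtain ⟨Ψ₀, hs₀, hk₀⟩ := exists_psi E a 0 d
  obtain ⟨Ψ₁, hs₁, hk₁⟩ := exists_psi E a 1 d
  obtain ⟨hinj, hr⟩ := (dSetup E a d).aug_equiv Ψ₀ hs₀ hk₀ Ψ₁ hs₁ hk₁
  exact ⟨⟨(LinearEquiv.ofInjective _ hinj).trans (LinearEquiv.ofEq _ _ hr)⟩, hinj, hr⟩

/-- Higher harmonic parts are cohomology. -/
theorem nonempty_harmonic (i : ℕ) :
    Nonempty (LinearMap.range ((dSetup E a d).sp.e (i + 1)) ≃ₗ[k] Hd E a (i + 2) d) := by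
  obtain ⟨Ψ, hs, hk⟩ := exists_psi E a (i + 2) d
  exact (dSetup E a d).deg_succ i Ψ hs hk

end Single

theorem sum_reindex (m n : ℕ) (a b : ℕ → ℕ) (ha0 : a 0 = 0) (ha1 : a 1 = 0) (hb0 : b 0 = 0) (hb1 : b 1 = 0)
    (q : ℕ) : ((Finset.range (q + 2)).sum fun p =>
      (if p = 0 then m else a (p + 1)) * (if q + 1 - p = 0 then n else b (q + 1 - p + 1))) =
      m * b (q + 2) + a (q + 2) * n + (Finset.range (q + 2 + 2)).sum (fun i => a i * b (q + 2 + 1 - i)) := by
  have hL : ∀ p ∈ Finset.range q, (if p + 1 = 0 then m else a (p + 1 + 1)) *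
      (if q + 1 - (p + 1) = 0 then n else b (q + 1 - (p + 1) + 1)) = a (p + 2) * b (q + 1 - p) := fun p hp => by
    rw [Finset.mem_range] at hp
    rw [if_neg (Nat.succ_ne_zero p), if_neg (by omega), show q + 1 - (p + 1) + 1 = q + 1 - p by omega]
  have hR : ∀ i, a (i + 1 + 1) * b (q + 2 + 1 - (i + 1 + 1)) = a (i + 2) * b (q + 1 - i) := fun i => by
    rw [show q + 2 + 1 - (i + 1 + 1) = q + 1 - i by omega]
  rw [Finset.sum_range_succ', Finset.sum_range_succ, Finset.sum_congr rfl hL, Finset.sum_range_succ',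
    Finset.sum_range_succ', Finset.sum_range_succ, Finset.sum_range_succ, Finset.sum_congr rfl fun i _ => hR i,
    ha0, show 0 + 1 = 1 from rfl, ha1, hR, hR]
  rw [show q + 1 - q = 1 by omega, show q + 1 - (q + 1) = 0 by omega, hb0, hb1]
  simp [Nat.succ_ne_zero]
  ring

variable (hT : GrSeg.IsSegreRing 𝒜 ℬ 𝒯 ψ)

include hT in
theorem isNoetherianRing_T [Algebra.FiniteType k R] [Algebra.FiniteType k S] : IsNoetherianRing T := by
  have hr : LinearMap.range ψ.toLinearMap = SegreLib.diagPart (k := k) 𝒜 ℬ :=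
    SegreLib.range_eq_diagPart 𝒜 ℬ 𝒯 ψ.toLinearMap fun n => by rw [← Submodule.map_coe, hT.2 n]
  refine isNoetherianRing_iff.2 (SegreLib.isNoetherian_segre 𝒜 ℬ ψ hr 𝒜 ℬ ψ.toLinearMap hT.1 hr fun t p => ?_)
  show ψ (t * p) = _
  rw [map_mul]
  refine (LinearMap.congr_fun₂ (f := GrSeg.act k R S R S) (g := LinearMap.mul k (R ⊗[k] S)) ?_ (ψ t) (ψ p)).symm
  ext r s a b
  simp [GrSeg.act_tmul]

variable {M : GrLC.GMod.{u} (toAdd 𝒜)} {N : GrLC.GMod.{u} (toAdd ℬ)}
  (EM : GrLC.StarInjRes (toAdd 𝒜) M.gr) (EN : GrLC.StarInjRes (toAdd ℬ) N.gr) (s : Seg 𝒯 ψ M N)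
  (F : GrLC.StarInjRes (toAdd 𝒯) s.Z.gr)
  {mR : HomogeneousIdeal 𝒜} {mS : HomogeneousIdeal ℬ} {mT : HomogeneousIdeal 𝒯}
  (hmR : mR.toIdeal = Ideal.span (⋃ n ∈ Set.Ioi (0 : ℤ), (𝒜 n : Set R)))
  (hmS : mS.toIdeal = Ideal.span (⋃ n ∈ Set.Ioi (0 : ℤ), (ℬ n : Set S)))
  (hmT : mT.toIdeal = Ideal.span (⋃ n ∈ Set.Ioi (0 : ℤ), (𝒯 n : Set T)))

section Low

variable (aR : HomogeneousIdeal (toAdd 𝒜)) (aS : HomogeneousIdeal (toAdd ℬ)) (d : ℤ)

variable {H : Type u} [AddCommGroup H] [Module k H]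

theorem finrank_tot_succ (q : ℕ) (Ψ : Zk (TD EM EN d) (TQ EM EN aR aS d) (q + 2) →ₗ[k] H)
    (hs : Function.Surjective Ψ)
    (hk : LinearMap.ker Ψ =
      (Bk (TD EM EN d) (TQ EM EN aR aS d) (q + 2)).comap (Zk (TD EM EN d) (TQ EM EN aR aS d) (q + 2)).subtype)
    [∀ p, Module.Finite k (LinearMap.range ((dSetup EM aR d).sp.e p))]
    [∀ p, Module.Finite k (LinearMap.range ((dSetup EN aS d).sp.e p))] :
    Module.finrank k H = (Finset.range (q + 2)).sum fun p =>
      Module.finrank k (LinearMap.range ((dSetup EM aR d).sp.e p)) *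
        Module.finrank k (LinearMap.range ((dSetup EN aS d).sp.e (q + 1 - p))) := by
  obtain ⟨e⟩ := (tSetup EM EN aR aS d).deg_succ q Ψ hs hk
  rw [← e.finrank_eq]
  exact finrank_range_totSplit (dSetup EM aR d).sp (dSetup EN aS d).sp (q + 1)

end Low

set_option maxHeartbeats 1000000 in
include hT hmR hmS hmT in
/-- The Künneth formula, in dimensions. -/
theorem finrank_segre [IsNoetherianRing R] [IsNoetherianRing S] [IsNoetherianRing T]
    (hposR : ∀ n : ℤ, n < 0 → 𝒜 n = ⊥) (h0R : 𝒜 0 = Submodule.span k {(1 : R)})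
    (hposS : ∀ n : ℤ, n < 0 → ℬ n = ⊥) (h0S : ℬ 0 = Submodule.span k {(1 : S)})
    [Module.Finite R M.carrier] [Module.Finite S N.carrier] (d : ℤ)
    (hM : ∀ q ≤ 1, Subsingleton (Hd EM (toAddIdeal mR) q d))
    (hN : ∀ q ≤ 1, Subsingleton (Hd EN (toAddIdeal mS) q d)) [Module.Finite k (kpiece M d)]
    [Module.Finite k (kpiece N d)] (q : ℕ) :
    Module.finrank k (Hd F (toAddIdeal mT) q d) =
      Module.finrank k (kpiece M d) * Module.finrank k (Hd EN (toAddIdeal mS) q d) +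
        Module.finrank k (Hd EM (toAddIdeal mR) q d) * Module.finrank k (kpiece N d) +
        (Finset.range (q + 2)).sum (fun i => Module.finrank k (Hd EM (toAddIdeal mR) i d) *
          Module.finrank k (Hd EN (toAddIdeal mS) (q + 1 - i) d)) := by
  obtain ⟨Ψ, hs, hk⟩ := exists_psi_tot hT EM EN s hmR hmS hmT F q d
  obtain ⟨⟨eM⟩, hMi, hMr⟩ := nonempty_aug EM (toAddIdeal mR) d (hM 0 (by omega)) (hM 1 le_rfl)
  obtain ⟨⟨eN⟩, hNi, hNr⟩ := nonempty_aug EN (toAddIdeal mS) d (hN 0 (by omega)) (hN 1 le_rfl)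
  have hM0 : ∀ i ≤ 1, Module.finrank k (Hd EM (toAddIdeal mR) i d) = 0 := fun i hi =>
    haveI := hM i hi
    Module.finrank_zero_of_subsingleton
  have hN0 : ∀ i ≤ 1, Module.finrank k (Hd EN (toAddIdeal mS) i d) = 0 := fun i hi =>
    haveI := hN i hi
    Module.finrank_zero_of_subsingleton
  match q with
  | 0 =>
    haveI := (dSetup EM (toAddIdeal mR) d).subsingleton_tensor_zero (dSetup EN (toAddIdeal mS) d) hMi hNi Ψ hs hk
    simp [Finset.sum_range_succ, hM0 0, hM0 1, hN0 0, Module.finrank_zero_of_subsingleton]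
  | 1 =>
    haveI := (dSetup EM (toAddIdeal mR) d).subsingleton_tensor_one (dSetup EN (toAddIdeal mS) d) hMr hNr Ψ hs hk
    simp [Finset.sum_range_succ, hM0 0, hM0 1, hN0 0, hN0 1, Module.finrank_zero_of_subsingleton]
  | q + 2 =>
    haveI : ∀ p, Module.Finite k (LinearMap.range ((dSetup EM (toAddIdeal mR) d).sp.e p)) := fun p => by
      cases p with
      | zero => exact Module.Finite.equiv eM
      | succ p =>
        haveI := finite_Hd hposR h0R hmR EM (p + 2) d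
        exact Module.Finite.equiv (nonempty_harmonic EM (toAddIdeal mR) d p).some.symm
    haveI : ∀ p, Module.Finite k (LinearMap.range ((dSetup EN (toAddIdeal mS) d).sp.e p)) := fun p => by
      cases p with
      | zero => exact Module.Finite.equiv eN
      | succ p =>
        haveI := finite_Hd hposS h0S hmS EN (p + 2) d
        exact Module.Finite.equiv (nonempty_harmonic EN (toAddIdeal mS) d p).some.symm
    have hfx : ∀ p, Module.finrank k (LinearMap.range ((dSetup EM (toAddIdeal mR) d).sp.e p)) =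
        if p = 0 then Module.finrank k (kpiece M d) else Module.finrank k (Hd EM (toAddIdeal mR) (p + 1) d) :=
      fun p => by
        cases p with
        | zero => rw [if_pos rfl, eM.finrank_eq]
        | succ p => rw [if_neg (Nat.succ_ne_zero p), (nonempty_harmonic EM (toAddIdeal mR) d p).some.finrank_eq]
    have hfy : ∀ p, Module.finrank k (LinearMap.range ((dSetup EN (toAddIdeal mS) d).sp.e p)) =
        if p = 0 then Module.finrank k (kpiece N d) else Module.finrank k (Hd EN (toAddIdeal mS) (p + 1) d) :=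
      fun p => by
        cases p with
        | zero => rw [if_pos rfl, eN.finrank_eq]
        | succ p => rw [if_neg (Nat.succ_ne_zero p), (nonempty_harmonic EN (toAddIdeal mS) d p).some.finrank_eq]
    refine (finrank_tot_succ EM EN (toAddIdeal mR) (toAddIdeal mS) d q Ψ hs hk).trans ?_
    rw [Finset.sum_congr rfl fun p _ => by rw [hfx p, hfy (q + 1 - p)]]
    exact sum_reindex _ _ (fun i => Module.finrank k (Hd EM (toAddIdeal mR) i d))
      (fun i => Module.finrank k (Hd EN (toAddIdeal mS) i d)) (hM0 0 (by omega)) (hM0 1 le_rfl) (hN0 0 (by omega))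
      (hN0 1 le_rfl) q

section Unbundled

variable {P : Type u} [AddCommGroup P] [Module T P] [Module k P] [IsScalarTower k T P]
  {M₀ N₀ : Type u} [AddCommGroup M₀] [Module R M₀] [Module k M₀] [IsScalarTower k R M₀]
  [AddCommGroup N₀] [Module S N₀] [Module k N₀] [IsScalarTower k S N₀]
  {τM τN τP : Type u} [SetLike τM M₀] [AddSubgroupClass τM M₀] [SetLike τN N₀] [AddSubgroupClass τN N₀]
  [SetLike τP P] [AddSubgroupClass τP P]
  (ℳ : ℤ → τM) [DirectSum.Decomposition ℳ] [SetLike.GradedSMul 𝒜 ℳ]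
  (𝒩 : ℤ → τN) [DirectSum.Decomposition 𝒩] [SetLike.GradedSMul ℬ 𝒩]
  (𝒬 : ℤ → τP) [DirectSum.Decomposition 𝒬]

include hT in
omit [IsScalarTower k T P] in
/-- The pieces of a Segre product form a graded module. -/
theorem gradedSMul_of_isSegreMod {φ : P →ₗ[k] M₀ ⊗[k] N₀} (hP : GrSeg.IsSegreMod ψ ℳ 𝒩 𝒬 φ) :
    SetLike.GradedSMul 𝒯 𝒬 := by
  refine ⟨fun {i j t p} ht hp => ?_⟩
  have h1 : φ p ∈ GrSeg.segrePiece k ℳ 𝒩 j := (Set.ext_iff.1 (hP.image_piece j) _).1 ⟨p, hp, rfl⟩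
  have key : ∀ w ∈ GrSeg.segrePiece k 𝒜 ℬ i, ∀ x ∈ GrSeg.segrePiece k ℳ 𝒩 j,
      GrSeg.act k R S M₀ N₀ w x ∈ GrSeg.segrePiece k ℳ 𝒩 (i + j) := fun w hw x hx => by
    induction hw using Submodule.span_induction with
    | mem w hw =>
      obtain ⟨a, ha, b, hb, rfl⟩ := hw
      induction hx using Submodule.span_induction with
      | mem x hx =>
        obtain ⟨c, hc, d, hd, rfl⟩ := hx
        rw [GrSeg.act_tmul]
        exact tmul_mem_segrePiece (SetLike.GradedSMul.smul_mem ha hc) (SetLike.GradedSMul.smul_mem hb hd)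
      | zero => rw [map_zero]; exact Submodule.zero_mem _
      | add x y _ _ hx hy => rw [map_add]; exact Submodule.add_mem _ hx hy
      | smul c x _ hx => rw [map_smul]; exact Submodule.smul_mem _ c hx
    | zero => rw [map_zero, LinearMap.zero_apply]; exact Submodule.zero_mem _
    | add u v _ _ hu hv => rw [map_add, LinearMap.add_apply]; exact Submodule.add_mem _ hu hv
    | smul c u _ hu => rw [map_smul, LinearMap.smul_apply]; exact Submodule.smul_mem _ c hu
  have h2 := key _ (psi_mem hT ht) _ h1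
  rw [← hP.map_smul] at h2
  obtain ⟨p', hp', he⟩ := (Set.ext_iff.1 (hP.image_piece (i + j)) _).2 h2
  exact hP.injective he ▸ hp'

variable [SetLike.GradedSMul 𝒯 𝒬]

/-- An unbundled Segre product as a bundled one. -/
noncomputable def segOf {φ : P →ₗ[k] M₀ ⊗[k] N₀} (hP : GrSeg.IsSegreMod ψ ℳ 𝒩 𝒬 φ) :
    Seg 𝒯 ψ (ofG 𝒜 M₀ ℳ) (ofG ℬ N₀ 𝒩) where
  Z := ofG 𝒯 P 𝒬
  val := (TensorProduct.congr (idk 𝒜 M₀ ℳ) (idk ℬ N₀ 𝒩)).toLinearMap ∘ₗ φ ∘ₗ (idk 𝒯 P 𝒬).symm.toLinearMap
  isSegre := by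
    have hcongr : ∀ v : M₀ ⊗[k] N₀, TensorProduct.congr (idk 𝒜 M₀ ℳ) (idk ℬ N₀ 𝒩) v =
        TensorProduct.map (idk 𝒜 M₀ ℳ).toLinearMap (idk ℬ N₀ 𝒩).toLinearMap v := fun _ => rfl
    refine ⟨(TensorProduct.congr (idk 𝒜 M₀ ℳ) (idk ℬ N₀ 𝒩)).injective.comp
      (hP.injective.comp (idk 𝒯 P 𝒬).symm.injective), fun n => Set.ext fun x => ⟨?_, fun hx => ?_⟩,
      fun t p => ?_⟩
    · rintro ⟨p, hp, rfl⟩
      exact (hcongr _).symm ▸ map_mem_segrePiece (fun a ha => ha) (fun b hb => hb)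
        ((Set.ext_iff.1 (hP.image_piece n) _).1 ⟨p, hp, rfl⟩)
    · have h1 : TensorProduct.map (idk 𝒜 M₀ ℳ).symm.toLinearMap (idk ℬ N₀ 𝒩).symm.toLinearMap x ∈
          GrSeg.segrePiece k ℳ 𝒩 n := map_mem_segrePiece (fun a ha => ha) (fun b hb => hb) hx
      obtain ⟨p, hp, he⟩ := (Set.ext_iff.1 (hP.image_piece n) _).2 h1
      refine ⟨idk 𝒯 P 𝒬 p, hp, ?_⟩
      show TensorProduct.congr (idk 𝒜 M₀ ℳ) (idk ℬ N₀ 𝒩) (φ p) = x
      rw [he]
      exact (TensorProduct.congr (idk 𝒜 M₀ ℳ) (idk ℬ N₀ 𝒩)).apply_symm_apply x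
    · show TensorProduct.congr (idk 𝒜 M₀ ℳ) (idk ℬ N₀ 𝒩) (φ (t • (idk 𝒯 P 𝒬).symm p)) = _
      rw [hP.map_smul]
      generalize ψ t = w
      generalize hv : φ ((idk 𝒯 P 𝒬).symm p) = v
      show _ = GrSeg.act k R S _ _ w (TensorProduct.congr (idk 𝒜 M₀ ℳ) (idk ℬ N₀ 𝒩)
        (φ ((idk 𝒯 P 𝒬).symm p)))
      rw [hv]
      clear hv
      induction w using TensorProduct.induction_on with
      | zero => simp
      | add a b ha hb => simp only [map_add, LinearMap.add_apply, ha, hb]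
      | tmul r s =>
        induction v using TensorProduct.induction_on with
        | zero => simp
        | add a b ha hb => simp only [map_add, ha, hb]
        | tmul m n => rw [GrSeg.act_tmul, TensorProduct.congr_tmul, TensorProduct.congr_tmul, GrSeg.act_tmul]; rfl

end Unbundled

end SegreLC
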