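import Groth.Agent.SegreLC.Tot
import Groth.Agent.SegreLC.Dim
import Groth.Agent.SegreLC.CM

/-! Segre products with a module on which an element of positive degree is bijective. -/

set_option autoImplicit false
set_option maxHeartbeats 1000000
universe u

open scoped TensorProduct
open DirectSum GrModLib

namespace SegreLC

section Field

variable {k : Type u} [Field k] {A B C D N : Type u} [AddCommGroup A] [Module k A] [AddCommGroup B] [Module k B]
  [AddCommGroup C] [Module k C] [AddCommGroup D] [Module k D] [AddCommGroup N] [Module k N]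

theorem exists_of_map_eq_zero (f : A →ₗ[k] B) (g : B →ₗ[k] C) (h : LinearMap.ker g = LinearMap.range f) (v : B ⊗[k] N)
    (hv : TensorProduct.map g LinearMap.id v = 0) : ∃ w : A ⊗[k] N, TensorProduct.map f LinearMap.id w = v :=
  (Module.Flat.rTensor_exact N (LinearMap.exact_iff.2 h) v).1 hv

theorem exists_of_map_eq_zero₂ (f : A →ₗ[k] B) (g : B →ₗ[k] C) (g' : B →ₗ[k] D)
    (h : ∀ b, g b = 0 ∧ g' b = 0 → b ∈ LinearMap.range f) (hfg : ∀ a, g (f a) = 0) (hfg' : ∀ a, g' (f a) = 0)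
    (v : B ⊗[k] N) (hv : TensorProduct.map g LinearMap.id v = 0) (hv' : TensorProduct.map g' LinearMap.id v = 0) :
    ∃ w : A ⊗[k] N, TensorProduct.map f LinearMap.id w = v := by
  refine exists_of_map_eq_zero f (g.prod g') ?_ v ?_
  · refine le_antisymm (fun b hb => h b (Prod.ext_iff.1 (LinearMap.mem_ker.1 hb))) ?_
    rintro _ ⟨a, rfl⟩
    exact LinearMap.mem_ker.2 (Prod.ext (hfg a) (hfg' a))
  · refine (TensorProduct.prodLeft k k C D N).injective ?_
    have key : ∀ v : B ⊗[k] N, TensorProduct.prodLeft k k C D N (TensorProduct.map (g.prod g') LinearMap.id v) =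
        (TensorProduct.map g LinearMap.id v, TensorProduct.map g' LinearMap.id v) := fun v => by
      induction v using TensorProduct.induction_on with
      | zero => simp [Prod.ext_iff]
      | tmul b n => simp
      | add x y hx hy => simp only [map_add, hx, hy, Prod.mk_add_mk]
    rw [key, hv, hv', map_zero]
    exact Prod.mk_zero_zero

theorem map_map_map_eq {E : Type u} [AddCommGroup E] [Module k E] (g : A →ₗ[k] B) (f : B →ₗ[k] C) (h : A →ₗ[k] D)
    (g' : D →ₗ[k] E) (f' : E →ₗ[k] C) (hc : ∀ x, f' (g' (h x)) = f (g x)) (v : A ⊗[k] N) :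
    TensorProduct.map f' LinearMap.id (TensorProduct.map g' LinearMap.id (TensorProduct.map h LinearMap.id v)) =
      TensorProduct.map f (LinearMap.id : N →ₗ[k] N) (TensorProduct.map g LinearMap.id v) := by
  induction v using TensorProduct.induction_on with
  | zero => simp
  | tmul a n => simp [hc]
  | add x y hx hy => simp only [map_add, hx, hy]

theorem map_injective_left (f : A →ₗ[k] B) (hf : Function.Injective f) :
    Function.Injective (TensorProduct.map f (LinearMap.id : N →ₗ[k] N)) :=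
  Module.Flat.rTensor_preserves_injective_linearMap f hf

end Field

variable {k : Type u} [Field k] {R S T : Type u} [CommRing R] [Algebra k R] [CommRing S] [Algebra k S]
  [CommRing T] [Algebra k T] {𝒜 : ℤ → Submodule k R} [GradedAlgebra 𝒜] {ℬ : ℤ → Submodule k S} [GradedAlgebra ℬ]
  {𝒯 : ℤ → Submodule k T} [GradedAlgebra 𝒯] {ψ : T →ₐ[k] R ⊗[k] S}

theorem gam_eq_bot_of_bijective {Y : GrLC.GMod.{u} (toAdd ℬ)} {e : ℕ} (he : 0 < e) {g : S} (hg : g ∈ ℬ (e : ℤ))
    (hgY : Function.Bijective (fun y : Y.carrier => g • y)) {mS : HomogeneousIdeal ℬ}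
    (hmS : mS.toIdeal = Ideal.span (⋃ n ∈ Set.Ioi (0 : ℤ), (ℬ n : Set S))) (y : Y.carrier)
    (hy : y ∈ GrLC.gam mS.toIdeal Y.carrier) : y = 0 := by
  obtain ⟨N, hN⟩ := hy
  have h : g ^ N • y = 0 := hN _ (Ideal.pow_mem_pow (mem_irrelevant hmS (Int.natCast_pos.2 he) hg) N)
  clear hN
  induction N with
  | zero => rwa [pow_zero, one_smul] at h
  | succ N ih =>
    refine ih (hgY.1 ?_)
    show g • g ^ N • y = g • (0 : Y.carrier)
    rw [← mul_smul, ← pow_succ', h, smul_zero]

variable [IsNoetherianRing R] [IsNoetherianRing S] [IsNoetherianRing T]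

/-- Segre products of *injective modules with such modules are acyclic. -/
theorem subsingleton_H_seg_bij (hT : GrSeg.IsSegreRing 𝒜 ℬ 𝒯 ψ) {Y : GrLC.GMod.{u} (toAdd ℬ)} {e : ℕ} (he : 0 < e)
    {g : S} (hg : g ∈ ℬ (e : ℤ)) (hgY : Function.Bijective (fun y : Y.carrier => g • y))
    {mR : HomogeneousIdeal 𝒜} (hmR : mR.toIdeal = Ideal.span (⋃ n ∈ Set.Ioi (0 : ℤ), (𝒜 n : Set R)))
    {mT : HomogeneousIdeal 𝒯} (hmT : mT.toIdeal = Ideal.span (⋃ n ∈ Set.Ioi (0 : ℤ), (𝒯 n : Set T)))
    {X : GrLC.GMod.{u} (toAdd 𝒜)} (hX : GrLC.IsStarInj (toAdd 𝒜) X.gr) (s : Seg 𝒯 ψ X Y) (n : ℕ) :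
    Subsingleton (LocCoh.H mT.toIdeal (n + 1) s.Z.carrier) := by
  classical
  obtain ⟨E, hE, heq⟩ := (Submodule.fg_span_iff_fg_span_finset_subset (⋃ n ∈ Set.Ioi (0 : ℤ), (𝒜 n : Set R))).1
    (IsNoetherian.noetherian (Submodule.span R (⋃ n ∈ Set.Ioi (0 : ℤ), (𝒜 n : Set R))))
  suffices Q : ∀ l : List R, (∀ a ∈ l, a ∈ E) → ∀ (X : GrLC.GMod.{u} (toAdd 𝒜)),
      GrLC.IsStarInj (toAdd 𝒜) X.gr → (∀ a ∈ E, a ∉ l → ∀ m : X.carrier, ∃ j : ℕ, a ^ j • m = 0) →
      ∀ s : Seg 𝒯 ψ X Y, Subsingleton (LocCoh.H mT.toIdeal (n + 1) s.Z.carrier) from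
    Q E.toList (fun a ha => by simpa using ha) X hX (fun a ha ha' => absurd (by simpa using ha) ha') s
  intro l
  induction l with
  | nil =>
    intro _ X _ hX s
    have hgam : ∀ m : X.carrier, m ∈ GrLC.gam mR.toIdeal X.carrier := fun m =>
      mem_gam_of_forall (E := (E : Set R)) (heq.symm.trans hmR.symm) fun a ha => hX a ha (List.not_mem_nil) m
    refine LocCohLib.subsingleton_H_of_torsion mT.toIdeal s.Z.carrier (fun p => ?_) (n + 1) (Nat.succ_pos n)
    refine (s.mem_gam_iff hT hmR (mS := posIdeal' ℬ) rfl hmT p).2 ?_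
    rw [show ((GrLC.gam mR.toIdeal X.carrier).mkQ.restrictScalars k : X.carrier →ₗ[k] _) = 0 from
      LinearMap.ext fun m => (Submodule.Quotient.mk_eq_zero _).2 (hgam m), TensorProduct.map_zero_left,
      LinearMap.zero_apply]
  | cons a l ih =>
    intro hl X hXi hX s
    obtain ⟨d, hd, had⟩ := Set.mem_iUnion₂.1 (hE (hl a (List.mem_cons_self ..)))
    obtain ⟨A, B, iA, pA, iB, pB, hiA, hpA, hiB, hpB, hAi, hBi, h11, h22, h21, hsum, hAt, hBb⟩ :=
      exists_split hXi (show a ∈ toAdd 𝒜 d from had)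
    let sA := segG hT A Y
    let sB := segG hT B Y
    refine subsingleton_H_left _ s sA sB hiA hpA hiB hpB h11 h22 h21 hsum (n + 1) ?_ ?_
    · refine ih (fun b hb => hl b (List.mem_cons_of_mem _ hb)) A hAi (fun b hb hbl m => ?_) sA
      rcases eq_or_ne b a with rfl | hne
      · exact hAt m
      · obtain ⟨j, hj⟩ := hX b hb (fun h => (List.mem_cons.1 h).elim hne hbl) (iA m)
        refine ⟨j, ?_⟩
        have := congrArg pA hj
        rwa [← map_smul, map_zero, show pA (iA (b ^ j • m)) = b ^ j • m from LinearMap.congr_fun h11 _] at this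
    · obtain ⟨d, rfl⟩ := Int.eq_ofNat_of_zero_le (le_of_lt (Set.mem_Ioi.1 hd))
      have hd' : 0 < d := by exact_mod_cast Set.mem_Ioi.1 hd
      have ha : a ^ e ∈ 𝒜 ((e * d : ℕ) : ℤ) := by
        have := SetLike.pow_mem_graded (A := 𝒜) e had
        rwa [nsmul_eq_mul, ← Nat.cast_mul] at this
      have hb : g ^ d ∈ ℬ ((e * d : ℕ) : ℤ) := by
        have := SetLike.pow_mem_graded (A := ℬ) d hg
        rwa [nsmul_eq_mul, ← Nat.cast_mul, mul_comm] at this
      obtain ⟨u, hu, hψu⟩ := exists_psi_eq hT (tmul_mem_segrePiece ha hb)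
      have hpow : ∀ {A' M' : Type u} [CommRing A'] [AddCommGroup M'] [Module A' M'] (x : A'),
          Function.Bijective (fun m : M' => x • m) → ∀ j : ℕ, Function.Bijective (fun m : M' => x ^ j • m) := by
        intro A' M' _ _ _ x hx j
        induction j with
        | zero => exact ⟨fun a b h => by simpa using h, fun m => ⟨m, by simp⟩⟩
        | succ j ihj =>
          have : (fun m : M' => x ^ (j + 1) • m) = (fun m => x • m) ∘ (fun m => x ^ j • m) :=
            funext fun m => by rw [Function.comp_apply, pow_succ', mul_smul]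
          rw [this]
          exact hx.comp ihj
      exact subsingleton_H_of_bijective (f := u) _
        (mem_irrelevant hmT (by exact_mod_cast Nat.mul_pos he hd') hu)
        (sB.smul_bijective ha hb hψu (hpow a hBb e) (hpow g hgY d)) (n + 1)

section Proj

variable {X X' : GrLC.GMod.{u} (toAdd 𝒜)} {Y : GrLC.GMod.{u} (toAdd ℬ)}

/-- The projection to one diagonal bidegree. -/
noncomputable def dproj (X : GrLC.GMod.{u} (toAdd 𝒜)) (Y : GrLC.GMod.{u} (toAdd ℬ)) (d : ℤ) :
    X.carrier ⊗[k] Y.carrier →ₗ[k] X.carrier ⊗[k] Y.carrier :=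
  TensorProduct.map (SegreLib.proj X.gr (SegreLib.smul_mem_of_mem 𝒜 X.gr) d)
    (SegreLib.proj Y.gr (SegreLib.smul_mem_of_mem ℬ Y.gr) d)

omit [IsNoetherianRing R] [IsNoetherianRing S] [IsNoetherianRing T] in
theorem dproj_tmul (d : ℤ) (x : X.carrier) (y : Y.carrier) :
    dproj (k := k) X Y d (x ⊗ₜ y) = pr X.gr d x ⊗ₜ pr Y.gr d y := rfl

omit [IsNoetherianRing R] [IsNoetherianRing S] [IsNoetherianRing T] in
theorem dproj_mem (d : ℤ) (v : X.carrier ⊗[k] Y.carrier) :
    dproj X Y d v ∈ GrSeg.segrePiece k X.gr Y.gr d := by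
  induction v using TensorProduct.induction_on with
  | zero => rw [map_zero]; exact zero_mem _
  | tmul x y => rw [dproj_tmul]; exact tmul_mem_segrePiece (pr_mem _ d x) (pr_mem _ d y)
  | add x y hx hy => rw [map_add]; exact add_mem hx hy

omit [IsNoetherianRing R] [IsNoetherianRing S] [IsNoetherianRing T] in
theorem dproj_self {d : ℤ} {v : X.carrier ⊗[k] Y.carrier} (hv : v ∈ GrSeg.segrePiece k X.gr Y.gr d) :
    dproj X Y d v = v :=
  map_eq_self_of_segrePiece (fun _ ha => pr_self _ ha) (fun _ hb => pr_self _ hb) hv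

omit [IsNoetherianRing R] [IsNoetherianRing S] [IsNoetherianRing T] in
theorem dproj_map {f : X.carrier →ₗ[R] X'.carrier} (hf : GrLC.IsGrHom X.gr X'.gr f) (d : ℤ)
    (v : X.carrier ⊗[k] Y.carrier) : TensorProduct.map (f.restrictScalars k) LinearMap.id (dproj X Y d v) =
      dproj X' Y d (TensorProduct.map (f.restrictScalars k) LinearMap.id v) := by
  induction v using TensorProduct.induction_on with
  | zero => simp
  | tmul x y =>
    rw [dproj_tmul, TensorProduct.map_tmul, TensorProduct.map_tmul, dproj_tmul, LinearMap.id_apply, LinearMap.id_apply,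
      LinearMap.restrictScalars_apply, LinearMap.restrictScalars_apply, map_pr hf]
  | add x y hx hy => simp only [map_add, hx, hy]

omit [IsNoetherianRing R] [IsNoetherianRing S] [IsNoetherianRing T] in
/-- A preimage of a homogeneous element can be taken in the Segre product. -/
theorem Seg.exists_preimage (s : Seg 𝒯 ψ X Y) (s' : Seg 𝒯 ψ X' Y) {f : X.carrier →ₗ[R] X'.carrier}
    (hf : GrLC.IsGrHom X.gr X'.gr f) {d : ℤ} {z : s'.Z.carrier} (hz : z ∈ s'.Z.gr d) (v : X.carrier ⊗[k] Y.carrier)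
    (hv : TensorProduct.map (f.restrictScalars k) LinearMap.id v = s'.val z) :
    ∃ y ∈ s.Z.gr d, s.map s' hf (idHom Y) y = z ∧ s.val y = dproj X Y d v := by
  obtain ⟨y, hy, hy'⟩ := s.exists_eq_of_mem (dproj_mem d v)
  refine ⟨y, hy, s'.val_injective ?_, hy'⟩
  rw [Seg.val_map, hy', LinearMap.restrictScalars_id, dproj_map hf, hv, dproj_self (s'.val_mem hz)]

omit [IsNoetherianRing R] [IsNoetherianRing S] [IsNoetherianRing T] in
/-- The components of a diagonal sum. -/
theorem eq_zero_of_sum_segrePiece {H : Type u} [AddCommGroup H] [Module k H] (ℋ : ℤ → AddSubgroup H)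
    (S' : Finset ℤ) (v : ℤ → H ⊗[k] Y.carrier) (hv : ∀ i, v i ∈ GrSeg.segrePiece k ℋ Y.gr i)
    (h : ∑ i ∈ S', v i = 0) (j : ℤ) (hj : j ∈ S') : v j = 0 := by
  classical
  have key : ∀ i, ∀ w ∈ GrSeg.segrePiece k ℋ Y.gr i, TensorProduct.map (LinearMap.id : H →ₗ[k] _)
      (SegreLib.proj Y.gr (SegreLib.smul_mem_of_mem ℬ Y.gr) j) w = if i = j then w else 0 := by
    intro i w hw
    induction hw using Submodule.span_induction with
    | mem w hw =>
      obtain ⟨a, -, b, hb, rfl⟩ := hw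
      rw [TensorProduct.map_tmul, LinearMap.id_apply, SegreLib.proj_of_mem Y.gr _ hb]
      split_ifs
      · rfl
      · rw [TensorProduct.tmul_zero]
    | zero => split_ifs <;> simp
    | add a b _ _ ha hb => rw [map_add, ha, hb]; split_ifs <;> simp
    | smul r a _ ha => rw [map_smul, ha]; split_ifs <;> simp
  have h2 := congrArg (TensorProduct.map (LinearMap.id : H →ₗ[k] _)
    (SegreLib.proj Y.gr (SegreLib.smul_mem_of_mem ℬ Y.gr) j)) h
  rw [map_sum, map_zero, Finset.sum_congr rfl fun i _ => key i _ (hv i)] at h2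
  rwa [Finset.sum_ite_eq' S' j fun i => v i, if_pos hj] at h2

omit [IsNoetherianRing R] [IsNoetherianRing S] [IsNoetherianRing T] in
/-- A presentation descends along a surjection with the same kernel. -/
theorem exists_isSegreMod_of_descend {H : Type u} [AddCommGroup H] [Module R H] [Module k H] [IsScalarTower k R H]
    {ℋ : ℤ → AddSubgroup H} {Z : Type u} [AddCommGroup Z] [Module T Z] [Module k Z] [IsScalarTower k T Z]
    (𝒵 : ℤ → Z → Prop) {P : Type u} [AddCommGroup P] [Module T P] [Module k P] [IsScalarTower k T P]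
    {𝒬 : ℤ → AddSubgroup P} [DirectSum.Decomposition 𝒬]
    (h𝒬 : ∀ (r : k) d x, x ∈ 𝒬 d → r • x ∈ 𝒬 d)
    (φ : Z →ₗ[T] P) (hφs : Function.Surjective φ) (Λ : Z →ₗ[k] H ⊗[k] Y.carrier)
    (hker : ∀ z, φ z = 0 → Λ z = 0) (hφd : ∀ d z, 𝒵 d z → φ z ∈ 𝒬 d)
    (hlift : ∀ d, ∀ x ∈ 𝒬 d, ∃ z, 𝒵 d z ∧ φ z = x)
    (hpiece : ∀ d z, 𝒵 d z → Λ z ∈ GrSeg.segrePiece k ℋ Y.gr d) (hinj : ∀ d z, 𝒵 d z → Λ z = 0 → φ z = 0)
    (hgen : ∀ d, ∀ a ∈ ℋ d, ∀ b ∈ Y.gr d, ∃ z, 𝒵 d z ∧ Λ z = a ⊗ₜ b)
    (hsmul : ∀ (t : T) z, Λ (t • z) = GrSeg.act k R S H Y.carrier (ψ t) (Λ z)) :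
    ∃ φ' : P →ₗ[k] H ⊗[k] Y.carrier, GrSeg.IsSegreMod ψ ℋ Y.gr 𝒬 φ' := by
  classical
  let φk : Z →ₗ[k] P := φ.restrictScalars k
  have hle : LinearMap.ker φk ≤ LinearMap.ker Λ := fun z hz => LinearMap.mem_ker.2 (hker z hz)
  let φ' : P →ₗ[k] H ⊗[k] Y.carrier :=
    (LinearMap.ker φk).liftQ Λ hle ∘ₗ (φk.quotKerEquivOfSurjective hφs).symm.toLinearMap
  have hφ' : ∀ z : Z, φ' (φ z) = Λ z := fun z => by
    show (LinearMap.ker φk).liftQ Λ hle ((φk.quotKerEquivOfSurjective hφs).symm (φk z)) = Λ z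
    rw [LinearMap.quotKerEquivOfSurjective_symm_apply]
    rfl
  refine ⟨φ', ⟨?_, fun d => Set.Subset.antisymm ?_ ?_, fun t x => ?_⟩⟩
  · refine (injective_iff_map_eq_zero φ').2 fun x hx => ?_
    obtain ⟨S', -, hS'⟩ := exists_finset 𝒬 x
    choose z hz hzx using fun d => hlift d _ (pr_mem 𝒬 d x)
    have h1 : ∑ d ∈ S', Λ (z d) = 0 := by
      rw [← hx]
      conv_rhs => rw [← hS', map_sum]
      exact Finset.sum_congr rfl fun d _ => by rw [← hzx d, hφ']
    rw [← hS']
    refine Finset.sum_eq_zero fun d hd => ?_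
    rw [← hzx d]
    exact hinj d (z d) (hz d) (eq_zero_of_sum_segrePiece ℋ S' _ (fun i => hpiece i _ (hz i)) h1 d hd)
  · rintro _ ⟨x, hx, rfl⟩
    obtain ⟨z, hz, rfl⟩ := hlift d x hx
    rw [hφ']
    exact hpiece d z hz
  · intro w hw
    induction hw using Submodule.span_induction with
    | mem w hw =>
      obtain ⟨a, ha, b, hb, rfl⟩ := hw
      obtain ⟨z, hz, hzv⟩ := hgen d a ha b hb
      exact ⟨φ z, hφd d z hz, (hφ' z).trans hzv⟩
    | zero => exact ⟨0, zero_mem _, map_zero _⟩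
    | add a b _ _ ha hb =>
      obtain ⟨x, hx, rfl⟩ := ha
      obtain ⟨y, hy, rfl⟩ := hb
      exact ⟨x + y, add_mem hx hy, map_add _ _ _⟩
    | smul r a _ ha =>
      obtain ⟨x, hx, rfl⟩ := ha
      exact ⟨r • x, h𝒬 r d x hx, map_smul _ _ _⟩
  · obtain ⟨z, rfl⟩ := hφs x
    rw [← φ.map_smul, hφ', hφ', hsmul]

end Proj

variable (hT : GrSeg.IsSegreRing 𝒜 ℬ 𝒯 ψ) {M : GrLC.GMod.{u} (toAdd 𝒜)} {N : GrLC.GMod.{u} (toAdd ℬ)}
  (EM : GrLC.StarInjRes (toAdd 𝒜) M.gr)

/-- The terms. -/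
noncomputable def Zb (p : ℕ) : Seg 𝒯 ψ (EM.X p) N := segG hT (EM.X p) N

/-- The differentials. -/
noncomputable def Db (p : ℕ) : (Zb (N := N) hT EM p).Z.carrier →ₗ[T] (Zb (N := N) hT EM (p + 1)).Z.carrier :=
  (Zb hT EM p).map (Zb hT EM (p + 1)) (EM.d_grHom p) (idHom N)

omit [IsNoetherianRing R] [IsNoetherianRing S] [IsNoetherianRing T] in
theorem val_Db (p : ℕ) (z : (Zb (N := N) hT EM p).Z.carrier) : (Zb hT EM (p + 1)).val (Db hT EM p z) =
    TensorProduct.map ((EM.d p).restrictScalars k) LinearMap.id ((Zb hT EM p).val z) := by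
  rw [Db, Seg.val_map, LinearMap.restrictScalars_id]

variable (s : Seg 𝒯 ψ M N)

/-- The augmentation. -/
noncomputable def εb : s.Z.carrier →ₗ[T] (Zb (N := N) hT EM 0).Z.carrier :=
  s.map (Zb hT EM 0) EM.ε_grHom (idHom N)

omit [IsNoetherianRing R] [IsNoetherianRing S] [IsNoetherianRing T] in
theorem εb_injective : Function.Injective (εb hT EM s) := fun v w h => s.val_injective (by
  have h1 := congrArg (Zb hT EM 0).val h
  rw [εb, Seg.val_map, Seg.val_map, LinearMap.restrictScalars_id] at h1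
  exact map_injective_left (EM.ε.restrictScalars k) EM.ε_injective h1)

omit [IsNoetherianRing R] [IsNoetherianRing S] [IsNoetherianRing T] in
theorem Db_exact₀ : LinearMap.ker (Db (N := N) hT EM 0) = LinearMap.range (εb hT EM s) := by
  refine le_antisymm (fun z hz => ?_) ?_
  · obtain ⟨t, -, ht⟩ := exists_finset (Zb (N := N) hT EM 0).Z.gr z
    rw [← ht]
    refine sum_mem fun d _ => ?_
    have h0 : Db hT EM 0 (pr (Zb (N := N) hT EM 0).Z.gr d z) = 0 := by
      rw [map_pr (f := Db hT EM 0) ((Zb hT EM 0).map_grHom _ _ _) d z, LinearMap.mem_ker.1 hz, map_zero]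
    have h1 := congrArg (Zb hT EM 1).val h0
    rw [val_Db, map_zero] at h1
    obtain ⟨v, hv⟩ := exists_of_map_eq_zero (EM.ε.restrictScalars k) ((EM.d 0).restrictScalars k)
      (by rw [LinearMap.ker_restrictScalars, LinearMap.range_restrictScalars, EM.exact_zero]) _ h1
    obtain ⟨y, -, hy, -⟩ := s.exists_preimage (Zb hT EM 0) EM.ε_grHom (pr_mem _ d z) v hv
    exact ⟨y, hy⟩
  · rintro _ ⟨w, rfl⟩
    refine LinearMap.mem_ker.2 ((Zb hT EM 1).val_injective ?_)
    rw [val_Db, map_zero, εb, Seg.val_map, LinearMap.restrictScalars_id, map_map', LinearMap.id_comp,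
      ← LinearMap.restrictScalars_comp, d_comp_ε, LinearMap.restrictScalars_zero, TensorProduct.map_zero_left,
      LinearMap.zero_apply]

omit [IsNoetherianRing R] [IsNoetherianRing S] [IsNoetherianRing T] in
theorem Db_exact₁ (n : ℕ) : LinearMap.ker (Db (N := N) hT EM (n + 1)) = LinearMap.range (Db hT EM n) := by
  refine le_antisymm (fun z hz => ?_) ?_
  · obtain ⟨t, -, ht⟩ := exists_finset (Zb (N := N) hT EM (n + 1)).Z.gr z
    rw [← ht]
    refine sum_mem fun d _ => ?_
    have h0 : Db hT EM (n + 1) (pr (Zb (N := N) hT EM (n + 1)).Z.gr d z) = 0 := by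
      rw [map_pr (f := Db hT EM (n + 1)) ((Zb hT EM (n + 1)).map_grHom _ _ _) d z, LinearMap.mem_ker.1 hz, map_zero]
    have h1 := congrArg (Zb hT EM (n + 1 + 1)).val h0
    rw [val_Db, map_zero] at h1
    obtain ⟨v, hv⟩ := exists_of_map_eq_zero ((EM.d n).restrictScalars k) ((EM.d (n + 1)).restrictScalars k)
      (by rw [LinearMap.ker_restrictScalars, LinearMap.range_restrictScalars, EM.exact_succ]) _ h1
    obtain ⟨y, -, hy, -⟩ := (Zb hT EM n).exists_preimage (Zb hT EM (n + 1)) (EM.d_grHom n) (pr_mem _ d z) v hv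
    exact ⟨y, hy⟩
  · rintro _ ⟨w, rfl⟩
    refine LinearMap.mem_ker.2 ((Zb hT EM (n + 1 + 1)).val_injective ?_)
    rw [val_Db, val_Db, map_zero, map_map', LinearMap.id_comp, ← LinearMap.restrictScalars_comp, d_comp_d,
      LinearMap.restrictScalars_zero, TensorProduct.map_zero_left, LinearMap.zero_apply]

variable {mR : HomogeneousIdeal 𝒜} {mT : HomogeneousIdeal 𝒯}
  (hmR : mR.toIdeal = Ideal.span (⋃ n ∈ Set.Ioi (0 : ℤ), (𝒜 n : Set R)))
  (hmT : mT.toIdeal = Ideal.span (⋃ n ∈ Set.Ioi (0 : ℤ), (𝒯 n : Set T)))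
  {e : ℕ} (he : 0 < e) {g : S} (hg : g ∈ ℬ (e : ℤ)) (hgN : Function.Bijective (fun y : N.carrier => g • y))

include hmR hmT he hg hgN in
theorem Zb_mem_gam_iff (p : ℕ) (z : (Zb (N := N) hT EM p).Z.carrier) :
    z ∈ GrLC.gam mT.toIdeal (Zb (N := N) hT EM p).Z.carrier ↔
      TensorProduct.map ((GrLC.gam mR.toIdeal (EM.X p).carrier).mkQ.restrictScalars k) LinearMap.id
        ((Zb hT EM p).val z) = 0 := by
  rw [(Zb hT EM p).mem_gam_iff hT hmR (mS := posIdeal' ℬ) rfl hmT]
  have hi : Function.Injective ((GrLC.gam (posIdeal' ℬ).toIdeal N.carrier).mkQ.restrictScalars k) :=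
    (injective_iff_map_eq_zero _).2 fun y hy =>
      gam_eq_bot_of_bijective he hg hgN (mS := posIdeal' ℬ) rfl y ((Submodule.Quotient.mk_eq_zero _).1 hy)
  have h2 : ∀ v : (EM.X p).carrier ⊗[k] N.carrier,
      TensorProduct.map ((GrLC.gam mR.toIdeal (EM.X p).carrier).mkQ.restrictScalars k)
        ((GrLC.gam (posIdeal' ℬ).toIdeal N.carrier).mkQ.restrictScalars k) v =
      LinearMap.lTensor _ ((GrLC.gam (posIdeal' ℬ).toIdeal N.carrier).mkQ.restrictScalars k)
        (TensorProduct.map ((GrLC.gam mR.toIdeal (EM.X p).carrier).mkQ.restrictScalars k) LinearMap.id v) := fun v => by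
    induction v using TensorProduct.induction_on with
    | zero => simp
    | tmul a b => simp
    | add a b ha hb => simp only [map_add, ha, hb]
  rw [h2]
  exact map_eq_zero_iff _ (Module.Flat.lTensor_preserves_injective_linearMap _ hi)

omit [IsNoetherianRing R] [IsNoetherianRing S] [IsNoetherianRing T] in
/-- A map of modules respects the actions on tensor products. -/
theorem map_act' {A A' B : Type u} [AddCommGroup A] [Module R A] [Module k A] [IsScalarTower k R A] [AddCommGroup A']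
    [Module R A'] [Module k A'] [IsScalarTower k R A'] [AddCommGroup B] [Module S B] [Module k B] [IsScalarTower k S B]
    (f : A →ₗ[R] A') (w : R ⊗[k] S) (v : A ⊗[k] B) :
    TensorProduct.map (f.restrictScalars k) LinearMap.id (GrSeg.act k R S A B w v) =
      GrSeg.act k R S A' B w (TensorProduct.map (f.restrictScalars k) LinearMap.id v) := by
  induction w using TensorProduct.induction_on with
  | zero => simp
  | add a b ha hb => simp only [map_add, LinearMap.add_apply, ha, hb]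
  | tmul r t =>
    induction v using TensorProduct.induction_on with
    | zero => simp
    | add a b ha hb => simp only [map_add, ha, hb]
    | tmul m n => simp [GrSeg.act_tmul]

include hmR hmT he hg hgN in
/-- Cocycles of the Segre products are tensors of cocycles. -/
theorem exists_cocyc_map (q : ℕ) :
    ∃ L : acCocyc (toAddIdeal mT).toIdeal (fun n => (Zb (N := N) hT EM n).Z.carrier) (Db hT EM) q →ₗ[k]
        EM.cocyc (toAddIdeal mR) q ⊗[k] N.carrier,
      ∀ z, TensorProduct.map ((EM.cocyc (toAddIdeal mR) q).subtype.restrictScalars k) LinearMap.id (L z) =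
        (Zb hT EM q).val z.1 := by
  let ι := TensorProduct.map ((EM.cocyc (toAddIdeal mR) q).subtype.restrictScalars k) (LinearMap.id : N.carrier →ₗ[k] _)
  let Z := acCocyc (toAddIdeal mT).toIdeal (fun n => (Zb (N := N) hT EM n).Z.carrier) (Db hT EM) q
  let V : Z →ₗ[k] (EM.X q).carrier ⊗[k] N.carrier := (Zb hT EM q).val ∘ₗ (Z.subtype.restrictScalars k)
  have hι : Function.Injective ι := map_injective_left _ (Submodule.injective_subtype _)
  have hV : ∀ z, V z ∈ LinearMap.range ι := fun z => by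
    refine exists_of_map_eq_zero₂ _ ((GrLC.gam mR.toIdeal (EM.X q).carrier).mkQ.restrictScalars k)
      ((EM.d q).restrictScalars k) (fun b hb => ⟨⟨b, (Submodule.Quotient.mk_eq_zero _).1 hb.1, hb.2⟩, rfl⟩)
      (fun a => (Submodule.Quotient.mk_eq_zero _).2 a.2.1) (fun a => a.2.2) _
      ((Zb_mem_gam_iff hT EM hmR hmT he hg hgN q z.1).1 z.2.1) ?_
    show TensorProduct.map _ _ ((Zb hT EM q).val z.1) = 0
    rw [← val_Db, LinearMap.mem_ker.1 z.2.2, map_zero]
  refine ⟨(LinearEquiv.ofInjective ι hι).symm.toLinearMap ∘ₗ V.codRestrict _ hV, fun z => ?_⟩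
  exact congrArg Subtype.val ((LinearEquiv.ofInjective ι hι).apply_symm_apply (V.codRestrict _ hV z))

include hmR hmT he hg hgN in
theorem van_Zb (n i : ℕ) (d : ℤ) : Van (toAddIdeal mT) (Zb (N := N) hT EM n).Z.gr (i + 1) d := by
  refine van_of_subsingleton_H ?_ d
  exact subsingleton_H_seg_bij (Y := N) (X := EM.X n) hT he hg hgN hmR hmT (EM.starInj n) (Zb (N := N) hT EM n) i

omit [IsNoetherianRing R] [IsNoetherianRing S] [IsNoetherianRing T] in
/-- Tensors of coboundaries have no class. -/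
theorem class_eq_zero {q : ℕ} (L : EM.cocyc (toAddIdeal mR) (q + 1) ⊗[k] N.carrier)
    (v : GrLC.gam mR.toIdeal (EM.X q).carrier ⊗[k] N.carrier)
    (h : TensorProduct.map ((EM.cocyc (toAddIdeal mR) (q + 1)).subtype.restrictScalars k) LinearMap.id L =
      TensorProduct.map (((EM.d q) ∘ₗ (GrLC.gam mR.toIdeal (EM.X q).carrier).subtype).restrictScalars k) LinearMap.id v) :
    TensorProduct.map ((EM.toH (toAddIdeal mR) (q + 1)).restrictScalars k) LinearMap.id L = 0 := by
  let b : GrLC.gam mR.toIdeal (EM.X q).carrier →ₗ[R] EM.cocyc (toAddIdeal mR) (q + 1) :=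
    ((EM.d q) ∘ₗ (GrLC.gam mR.toIdeal (EM.X q).carrier).subtype).codRestrict _ fun x =>
      ⟨map_gam (toAddIdeal mR) (EM.d q) x.2, LinearMap.congr_fun (d_comp_d EM q) x.1⟩
  have hL' : L = TensorProduct.map (b.restrictScalars k) LinearMap.id v := by
    refine map_injective_left ((EM.cocyc (toAddIdeal mR) (q + 1)).subtype.restrictScalars k)
      (Submodule.injective_subtype _) (h.trans ?_)
    rw [map_map', LinearMap.id_comp]
    rfl
  rw [hL', map_map', show (EM.toH (toAddIdeal mR) (q + 1)).restrictScalars k ∘ₗ b.restrictScalars k = 0 from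
    LinearMap.ext fun x => (Submodule.Quotient.mk_eq_zero _).2 ⟨x.1, x.2, rfl⟩, TensorProduct.map_zero_left,
    LinearMap.zero_apply]

/-- The classes of tensors of cocycles. -/
noncomputable def clsN (q : ℕ) :
    EM.cocyc (toAddIdeal mR) q ⊗[k] N.carrier →ₗ[k] EM.H (toAddIdeal mR) q ⊗[k] N.carrier :=
  TensorProduct.map ((EM.toH (toAddIdeal mR) q).restrictScalars k) LinearMap.id

/-- Tensors of cocycles inside tensors. -/
noncomputable def inclN (q : ℕ) :
    EM.cocyc (toAddIdeal mR) q ⊗[k] N.carrier →ₗ[k] (EM.X q).carrier ⊗[k] N.carrier :=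
  TensorProduct.map ((EM.cocyc (toAddIdeal mR) q).subtype.restrictScalars k) LinearMap.id

omit [IsNoetherianRing R] [IsNoetherianRing S] [IsNoetherianRing T] in
theorem inclN_injective (q : ℕ) : Function.Injective (inclN (N := N) (mR := mR) EM q) :=
  map_injective_left _ (Submodule.injective_subtype _)

include hmR hmT he hg hgN in
theorem class_eq_zero_of_cobdy {q : ℕ} (z : (Zb (N := N) hT EM q).Z.carrier)
    (hz : z ∈ acCobdy (toAddIdeal mT).toIdeal (fun n => (Zb (N := N) hT EM n).Z.carrier) (Db hT EM) q)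
    (L : EM.cocyc (toAddIdeal mR) q ⊗[k] N.carrier) (hL : inclN EM q L = (Zb hT EM q).val z) :
    clsN EM q L = 0 := by
  cases q with
  | zero =>
    rw [show z = 0 from (Submodule.mem_bot T).1 hz, map_zero] at hL
    rw [inclN_injective EM 0 (hL.trans (map_zero _).symm), map_zero]
  | succ q =>
    obtain ⟨y, hy, rfl⟩ := hz
    obtain ⟨v, hv⟩ := exists_of_map_eq_zero ((GrLC.gam mR.toIdeal (EM.X q).carrier).subtype.restrictScalars k)
      ((GrLC.gam mR.toIdeal (EM.X q).carrier).mkQ.restrictScalars k)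
      (by rw [LinearMap.ker_restrictScalars, LinearMap.range_restrictScalars, Submodule.ker_mkQ,
        Submodule.range_subtype]) _ ((Zb_mem_gam_iff hT EM hmR hmT he hg hgN q y).1 hy)
    refine class_eq_zero EM L v (hL.trans ?_)
    rw [val_Db, ← hv, map_map', LinearMap.id_comp]
    rfl

omit [IsNoetherianRing R] [IsNoetherianRing S] [IsNoetherianRing T] in
theorem class_mem_piece {q : ℕ} {d : ℤ} {z : (Zb (N := N) hT EM q).Z.carrier}
    (hz : z ∈ (Zb (N := N) hT EM q).Z.gr d) (L : EM.cocyc (toAddIdeal mR) q ⊗[k] N.carrier)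
    (hL : inclN EM q L = (Zb hT EM q).val z) :
    clsN EM q L ∈ GrSeg.segrePiece k (EM.Hgr (toAddIdeal mR) q) N.gr d := by
  have hcoc := cocyc_isHomogeneous EM (toAddIdeal mR) q
  let P : EM.cocyc (toAddIdeal mR) q →ₗ[k] EM.cocyc (toAddIdeal mR) q :=
    { toFun := fun x => ⟨pr (EM.X q).gr d x.1, hcoc d x.2⟩
      map_add' := fun x y => Subtype.ext (map_add _ x.1 y.1)
      map_smul' := fun r x => Subtype.ext
        (map_smul (SegreLib.proj (EM.X q).gr (SegreLib.smul_mem_of_mem 𝒜 (EM.X q).gr) d) r x.1) }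
  have hproj : ∀ w, inclN (N := N) EM q
      (TensorProduct.map P (SegreLib.proj N.gr (SegreLib.smul_mem_of_mem ℬ N.gr) d) w) =
      dproj (EM.X q) N d (inclN EM q w) := fun w => by
    induction w using TensorProduct.induction_on with
    | zero => simp
    | tmul a b => rfl
    | add a b ha hb => simp only [map_add, ha, hb]
  have hL' : L = TensorProduct.map P (SegreLib.proj N.gr (SegreLib.smul_mem_of_mem ℬ N.gr) d) L :=
    inclN_injective EM q (by rw [hproj, hL, dproj_self ((Zb hT EM q).val_mem hz)])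
  rw [hL']
  generalize L = w
  induction w using TensorProduct.induction_on with
  | zero => simp
  | tmul a b => exact tmul_mem_segrePiece ⟨P a, pr_mem (EM.X q).gr d a.1, rfl⟩ (pr_mem N.gr d b)
  | add a b ha hb => rw [map_add, map_add]; exact add_mem ha hb

include hmR hmT he hg hgN in
theorem mem_cobdy_of_class_eq_zero {q : ℕ} {d : ℤ} {z : (Zb (N := N) hT EM q).Z.carrier}
    (hz : z ∈ (Zb (N := N) hT EM q).Z.gr d) (L : EM.cocyc (toAddIdeal mR) q ⊗[k] N.carrier)
    (hL : inclN EM q L = (Zb hT EM q).val z) (h0 : clsN EM q L = 0) :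
    z ∈ acCobdy (toAddIdeal mT).toIdeal (fun n => (Zb (N := N) hT EM n).Z.carrier) (Db hT EM) q := by
  obtain ⟨w, hw⟩ := exists_of_map_eq_zero
    (((EM.cobdy (toAddIdeal mR) q).comap (EM.cocyc (toAddIdeal mR) q).subtype).subtype.restrictScalars k)
    ((EM.toH (toAddIdeal mR) q).restrictScalars k)
    (by rw [LinearMap.ker_restrictScalars, LinearMap.range_restrictScalars, Submodule.ker_mkQ,
      Submodule.range_subtype]) L h0
  rw [← hw] at hL
  cases q with
  | zero =>
    refine (Submodule.mem_bot T).2 ((Zb hT EM 0).val_injective ?_)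
    rw [map_zero, ← hL, inclN, map_map', show ((EM.cocyc (toAddIdeal mR) 0).subtype.restrictScalars k) ∘ₗ
      (((EM.cobdy (toAddIdeal mR) 0).comap (EM.cocyc (toAddIdeal mR) 0).subtype).subtype.restrictScalars k) = 0 from
      LinearMap.ext fun x => (Submodule.mem_bot R).1 x.2, TensorProduct.map_zero_left, LinearMap.zero_apply]
  | succ q =>
    let b : GrLC.gam mR.toIdeal (EM.X q).carrier →ₗ[R]
        (EM.cobdy (toAddIdeal mR) (q + 1)).comap (EM.cocyc (toAddIdeal mR) (q + 1)).subtype :=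
      { toFun := fun x => ⟨⟨EM.d q x.1, map_gam (toAddIdeal mR) (EM.d q) x.2,
          LinearMap.congr_fun (d_comp_d EM q) x.1⟩, x.1, x.2, rfl⟩
        map_add' := fun x y => Subtype.ext (Subtype.ext (map_add (EM.d q) x.1 y.1))
        map_smul' := fun r x => Subtype.ext (Subtype.ext (map_smul (EM.d q) r x.1)) }
    have hb : Function.Surjective (b.restrictScalars k) := fun x => by
      obtain ⟨y, hy, hyx⟩ := x.2
      exact ⟨⟨y, hy⟩, Subtype.ext (Subtype.ext hyx)⟩
    obtain ⟨v, rfl⟩ := TensorProduct.map_surjective (g := b.restrictScalars k)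
      (g' := (LinearMap.id : N.carrier →ₗ[k] N.carrier)) hb Function.surjective_id w
    have hv : TensorProduct.map ((EM.d q).restrictScalars k) LinearMap.id
        (TensorProduct.map ((GrLC.gam mR.toIdeal (EM.X q).carrier).subtype.restrictScalars k) LinearMap.id v) =
        (Zb hT EM (q + 1)).val z :=
      (map_map_map_eq _ _ _ _ _ (fun x => rfl) v).symm.trans hL
    refine ((Zb hT EM q).exists_preimage (Zb hT EM (q + 1)) (EM.d_grHom q) hz _ hv).elim fun y hy => ?_
    refine ⟨y, (Zb_mem_gam_iff hT EM hmR hmT he hg hgN q y).2 ?_, hy.2.1⟩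
    rw [hy.2.2]
    generalize v = u
    induction u using TensorProduct.induction_on with
    | zero => simp
    | tmul a b =>
      rw [TensorProduct.map_tmul, dproj_tmul, TensorProduct.map_tmul]
      refine (congrArg (fun t => TensorProduct.tmul k t _) ((Submodule.Quotient.mk_eq_zero _).2 ?_)).trans
        (TensorProduct.zero_tmul _ _)
      exact gam_isHomogeneous (ℳ := (EM.X q).gr) (toAddIdeal mR) d a.2
    | add a b ha hb => simp only [map_add, ha, hb, add_zero]

include hmR hmT he hg hgN in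
theorem exists_cocycle_tmul {q : ℕ} {d : ℤ} (a : EM.cocyc (toAddIdeal mR) q) (ha : a.1 ∈ (EM.X q).gr d)
    {b : N.carrier} (hb : b ∈ N.gr d) :
    ∃ p, p ∈ (Zb (N := N) hT EM q).Z.gr d ∧
      p ∈ acCocyc (toAddIdeal mT).toIdeal (fun n => (Zb (N := N) hT EM n).Z.carrier) (Db hT EM) q ∧
      (Zb hT EM q).val p = a.1 ⊗ₜ b := by
  obtain ⟨p, hp, hpv⟩ := (Zb hT EM q).exists_eq_of_mem (tmul_mem_segrePiece (k := k) ha hb)
  refine ⟨p, hp, ⟨(Zb_mem_gam_iff hT EM hmR hmT he hg hgN q p).2 ?_,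
    LinearMap.mem_ker.2 ((Zb hT EM (q + 1)).val_injective ?_)⟩, hpv⟩
  · rw [hpv, TensorProduct.map_tmul, show ((GrLC.gam mR.toIdeal (EM.X q).carrier).mkQ.restrictScalars k) a.1 = 0 from
      (Submodule.Quotient.mk_eq_zero _).2 a.2.1, TensorProduct.zero_tmul]
  · rw [val_Db, hpv, map_zero, TensorProduct.map_tmul, show ((EM.d q).restrictScalars k) a.1 = 0 from a.2.2,
      TensorProduct.zero_tmul]

include hT hmR hmT he hg hgN in
/-- Local cohomology of the Segre product with such a module. -/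
theorem exists_segre_bij (F : GrLC.StarInjRes (toAdd 𝒯) s.Z.gr) (q : ℕ)
    [hdQ : DirectSum.Decomposition (F.Hgr (toAddIdeal mT) q)] :
    ∃ φ' : F.H (toAddIdeal mT) q →ₗ[k] EM.H (toAddIdeal mR) q ⊗[k] N.carrier,
      GrSeg.IsSegreMod ψ (EM.Hgr (toAddIdeal mR) q) N.gr (F.Hgr (toAddIdeal mT) q) φ' := by
  classical
  have hres := exists_coresolution (toAddIdeal mT) q s.Z F (fun n => (Zb (N := N) hT EM n).Z) (Db hT EM) (εb hT EM s)
    (fun n => (Zb hT EM n).map_grHom _ _ _) (s.map_grHom _ _ _) (εb_injective hT EM s)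
    (Db_exact₀ hT EM s) (Db_exact₁ hT EM) (van_Zb hT (N := N) EM hmR hmT he hg hgN)
  refine hres.elim fun φ hφ => (exists_cocyc_map hT EM hmR hmT he hg hgN q).elim fun L hL => ?_
  let Z := acCocyc (toAddIdeal mT).toIdeal (fun n => (Zb (N := N) hT EM n).Z.carrier) (Db hT EM) q
  have hZ : Z.IsHomogeneous (Zb (N := N) hT EM q).Z.gr :=
    inf_isHomogeneous _ (gam_isHomogeneous (ℳ := (Zb (N := N) hT EM q).Z.gr) (toAddIdeal mT))
      (ker_isHomogeneous ((Zb hT EM q).map_grHom _ _ _))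
  let _ := (subGr_isInternal Z hZ).chooseDecomposition
  refine exists_isSegreMod_of_descend (Y := N) (fun d (z : Z) => z.1 ∈ (Zb (N := N) hT EM q).Z.gr d)
    (fun r d x hx => (Hd F (toAddIdeal mT) q d).smul_mem r hx) φ hφ.1
    (clsN EM q ∘ₗ L) (fun z hz => class_eq_zero_of_cobdy hT EM hmR hmT he hg hgN z.1 (hφ.2.1.le hz) (L z) (hL z))
    (fun d z hz => hφ.2.2 d z hz) ?_ (fun d z hz => class_mem_piece hT EM hz (L z) (hL z))
    (fun d z hz h0 => hφ.2.1.ge (mem_cobdy_of_class_eq_zero hT EM hmR hmT he hg hgN hz (L z) (hL z) h0)) ?_ ?_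
  · intro d x hx
    refine (hφ.1 x).elim fun z hz => ?_
    refine ⟨pr (subGr Z (Zb (N := N) hT EM q).Z.gr) d z, pr_mem (subGr Z (Zb (N := N) hT EM q).Z.gr) d z, ?_⟩
    rw [map_pr (ℳ := subGr Z (Zb (N := N) hT EM q).Z.gr) (𝒩 := F.Hgr (toAddIdeal mT) q) (f := φ)
      (fun g v hv => hφ.2.2 g v hv), hz]
    exact pr_self _ hx
  · intro d h hh b hb
    refine hh.elim fun a ha => ?_
    refine (exists_cocycle_tmul hT EM hmR hmT he hg hgN a ha.1 hb).elim fun p hp => ?_
    refine ⟨⟨p, hp.2.1⟩, hp.1, ?_⟩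
    show clsN EM q (L ⟨p, hp.2.1⟩) = _
    rw [show L ⟨p, hp.2.1⟩ = a ⊗ₜ b from inclN_injective EM q ((hL _).trans hp.2.2), clsN, TensorProduct.map_tmul,
      ← ha.2]
    rfl
  · intro t z
    show clsN EM q (L (t • z)) = GrSeg.act k R S _ N.carrier (ψ t) (clsN EM q (L z))
    rw [show L (t • z) = GrSeg.act k R S _ N.carrier (ψ t) (L z) from inclN_injective EM q (by
      refine (hL _).trans ?_
      rw [show ((t • z : Z) : (Zb (N := N) hT EM q).Z.carrier) = t • z.1 from rfl, Seg.val_smul, ← hL z]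
      exact (map_act' (EM.cocyc (toAddIdeal mR) q).subtype (ψ t) (L z)).symm)]
    exact map_act' (EM.toH (toAddIdeal mR) q) (ψ t) (L z)

section Congr

variable {k : Type u} [Field k] {R S T : Type u} [CommRing R] [Algebra k R] [CommRing S] [Algebra k S]
  [CommRing T] [Algebra k T] {ψ : T →ₐ[k] R ⊗[k] S}
  {H H' Y Y' P P' : Type u} [AddCommGroup H] [Module R H] [Module k H] [IsScalarTower k R H]
  [AddCommGroup H'] [Module R H'] [Module k H'] [IsScalarTower k R H']
  [AddCommGroup Y] [Module S Y] [Module k Y] [IsScalarTower k S Y]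
  [AddCommGroup Y'] [Module S Y'] [Module k Y'] [IsScalarTower k S Y']
  [AddCommGroup P] [Module T P] [Module k P] [IsScalarTower k T P]
  [AddCommGroup P'] [Module T P'] [Module k P'] [IsScalarTower k T P']
  {τH τH' τY τY' τP τP' : Type u} [SetLike τH H] [AddSubgroupClass τH H] [SetLike τH' H'] [AddSubgroupClass τH' H']
  [SetLike τY Y] [AddSubgroupClass τY Y] [SetLike τY' Y'] [AddSubgroupClass τY' Y']
  [SetLike τP P] [AddSubgroupClass τP P] [SetLike τP' P'] [AddSubgroupClass τP' P']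
  {ℋ : ℤ → τH} {ℋ' : ℤ → τH'} {𝒩 : ℤ → τY} {𝒩' : ℤ → τY'} {𝒬 : ℤ → τP} {𝒬' : ℤ → τP'}
  [DirectSum.Decomposition 𝒬] [DirectSum.Decomposition 𝒬']

/-- Segre products transfer along isomorphisms. -/
theorem isSegreMod_congr (e1 : P ≃ₗ[k] P') (e2 : H ≃ₗ[k] H') (e3 : Y ≃ₗ[k] Y')
    (h1 : ∀ (t : T) x, e1 (t • x) = t • e1 x) (h2 : ∀ (r : R) x, e2 (r • x) = r • e2 x)
    (h3 : ∀ (r : S) x, e3 (r • x) = r • e3 x) (g1 : ∀ d x, x ∈ 𝒬 d ↔ e1 x ∈ 𝒬' d)
    (g2 : ∀ d x, x ∈ ℋ d ↔ e2 x ∈ ℋ' d) (g3 : ∀ d x, x ∈ 𝒩 d ↔ e3 x ∈ 𝒩' d)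
    {φ' : P' →ₗ[k] H' ⊗[k] Y'} (hφ' : GrSeg.IsSegreMod ψ ℋ' 𝒩' 𝒬' φ') :
    GrSeg.IsSegreMod ψ ℋ 𝒩 𝒬 ((TensorProduct.congr e2 e3).symm.toLinearMap ∘ₗ φ' ∘ₗ e1.toLinearMap) := by
  have h2' : ∀ (r : R) x, e2.symm (r • x) = r • e2.symm x := fun r x =>
    e2.injective (by rw [h2, e2.apply_symm_apply, e2.apply_symm_apply])
  have h3' : ∀ (r : S) x, e3.symm (r • x) = r • e3.symm x := fun r x =>
    e3.injective (by rw [h3, e3.apply_symm_apply, e3.apply_symm_apply])
  have hc : ∀ v, (TensorProduct.congr e2 e3).symm v = TensorProduct.map e2.symm.toLinearMap e3.symm.toLinearMap v :=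
    fun _ => rfl
  refine ⟨(TensorProduct.congr e2 e3).symm.injective.comp (hφ'.injective.comp e1.injective),
    fun n => Set.ext fun x => ⟨?_, fun hx => ?_⟩, fun t p => ?_⟩
  · rintro ⟨p, hp, rfl⟩
    show (TensorProduct.congr e2 e3).symm (φ' (e1 p)) ∈ _
    rw [hc]
    exact map_mem_segrePiece (fun a ha => (g2 _ _).2 ((e2.apply_symm_apply a).symm ▸ ha))
      (fun b hb => (g3 _ _).2 ((e3.apply_symm_apply b).symm ▸ hb))
      ((Set.ext_iff.1 (hφ'.image_piece n) _).1 ⟨e1 p, (g1 n p).1 hp, rfl⟩)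
  · have h : TensorProduct.congr e2 e3 x ∈ GrSeg.segrePiece k ℋ' 𝒩' n :=
      map_mem_segrePiece (fun a ha => (g2 _ _).1 ha) (fun b hb => (g3 _ _).1 hb) hx
    obtain ⟨p, hp, hpe⟩ := (Set.ext_iff.1 (hφ'.image_piece n) _).2 h
    refine ⟨e1.symm p, (g1 n _).2 ((e1.apply_symm_apply p).symm ▸ hp), ?_⟩
    show (TensorProduct.congr e2 e3).symm (φ' (e1 (e1.symm p))) = x
    rw [e1.apply_symm_apply, hpe, LinearEquiv.symm_apply_apply]
  · show (TensorProduct.congr e2 e3).symm (φ' (e1 (t • p))) =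
      GrSeg.act k R S H Y (ψ t) ((TensorProduct.congr e2 e3).symm (φ' (e1 p)))
    rw [h1, hφ'.map_smul, hc, hc]
    generalize ψ t = w
    generalize φ' (e1 p) = v
    induction w using TensorProduct.induction_on with
    | zero => simp
    | add a b ha hb => simp only [map_add, LinearMap.add_apply, ha, hb]
    | tmul r s =>
      induction v using TensorProduct.induction_on with
      | zero => simp
      | add a b ha hb => simp only [map_add, ha, hb]
      | tmul m n => simp [GrSeg.act_tmul, h2', h3']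

end Congr

omit [IsNoetherianRing R] in
theorem kmod_smul {M : Type u} [AddCommGroup M] [Module R M] [mk : Module k M] [tk : IsScalarTower k R M] (c : k)
    (x : M) : c • x = algebraMap k R c • x := (IsScalarTower.algebraMap_smul R c x).symm

omit [IsNoetherianRing R] in
/-- The action of the base field on a module over an algebra is determined. -/
theorem kmod_eq {M : Type u} [AddCommGroup M] [Module R M] {m m' : Module k M}
    (h : @IsScalarTower k R M _ _ m.toSMul) (h' : @IsScalarTower k R M _ _ m'.toSMul) : m = m' :=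
  Module.ext' _ _ fun c x => (kmod_smul (mk := m) (tk := h) c x).trans (kmod_smul (mk := m') (tk := h') c x).symm

section Change

variable {k : Type u} [Field k] {R S T : Type u} [CommRing R] [Algebra k R] [CommRing S] [Algebra k S]
  [CommRing T] [Algebra k T] {ψ : T →ₐ[k] R ⊗[k] S}

/-- Segre products do not depend on the choice of the actions of the base field. -/
theorem exists_isSegreMod_change {H Y P : Type u} [AddCommGroup H] [Module R H] [AddCommGroup Y] [Module S Y]
    [AddCommGroup P] [Module T P] {mH mH' : Module k H} {mY mY' : Module k Y} {mP mP' : Module k P}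
    (tH : @IsScalarTower k R H _ _ mH.toSMul) (tH' : @IsScalarTower k R H _ _ mH'.toSMul)
    (tY : @IsScalarTower k S Y _ _ mY.toSMul) (tY' : @IsScalarTower k S Y _ _ mY'.toSMul)
    (tP : @IsScalarTower k T P _ _ mP.toSMul) (tP' : @IsScalarTower k T P _ _ mP'.toSMul)
    {τH τY τP : Type u} [SetLike τH H] [AddSubgroupClass τH H] [SetLike τY Y] [AddSubgroupClass τY Y]
    [SetLike τP P] [AddSubgroupClass τP P] {ℋ : ℤ → τH} {𝒩 : ℤ → τY} {𝒬 : ℤ → τP} [DirectSum.Decomposition 𝒬]
    (h : letI := mH'; letI := mY'; letI := mP'; haveI := tH'; haveI := tY'; haveI := tP';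
      ∃ φ' : P →ₗ[k] H ⊗[k] Y, GrSeg.IsSegreMod ψ ℋ 𝒩 𝒬 φ') :
    letI := mH; letI := mY; letI := mP; haveI := tH; haveI := tY; haveI := tP;
    ∃ φ' : P →ₗ[k] H ⊗[k] Y, GrSeg.IsSegreMod ψ ℋ 𝒩 𝒬 φ' := by
  obtain rfl : mH = mH' := kmod_eq tH tH'
  obtain rfl : mY = mY' := kmod_eq tY tY'
  obtain rfl : mP = mP' := kmod_eq tP tP'
  exact h

end Change

end SegreLC
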