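import Groth.Agent.SegreLC.PolyShift
import Groth.Agent.SegreLC.RingCase
import Mathlib

/-! Depth of Segre products of shifted polynomial rings. -/

set_option autoImplicit false
set_option maxHeartbeats 1000000
universe u
attribute [local instance] MvPolynomial.weightedGradedAlgebra

open scoped TensorProduct
open DirectSum GrModLib MvPolynomial

namespace SegreLC

variable (k : Type u) [Field k]

theorem kpiece_shift_iff (N : ℕ) (a : ℤ) [DirectSum.Decomposition fun n : ℤ => stdGr k (N + 1) (n + a)]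
    [SetLike.GradedSMul (stdGr k (N + 1)) fun n : ℤ => stdGr k (N + 1) (n + a)] (d : ℤ) :
    Subsingleton (kpiece (ofG (stdGr k (N + 1)) (MvPolynomial (Fin (N + 1)) k)
      (fun n : ℤ => stdGr k (N + 1) (n + a))) d) ↔ d + a < 0 := by
  rw [← stdGr_eq_bot_iff k (N + 1)]
  exact ⟨fun h => (Submodule.eq_bot_iff _).2 fun x hx => congrArg Subtype.val (@Subsingleton.elim _ h ⟨x, hx⟩ 0),
    fun h => ⟨fun x y => Subtype.ext (((Submodule.eq_bot_iff _).1 h x.1 x.2).trans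
      ((Submodule.eq_bot_iff _).1 h y.1 y.2).symm)⟩⟩

theorem dim_poly (N : ℕ) :
    Module.supportDim (MvPolynomial (Fin N) k) (MvPolynomial (Fin N) k) = (N : WithBot ℕ∞) :=
  (Module.supportDim_self_eq_ringKrullDim (R := MvPolynomial (Fin N) k)).trans (dim_mvPolynomial k)

theorem cmMod_poly (N : ℕ) : IsCMMod (MvPolynomial (Fin N) k) (MvPolynomial (Fin N) k) :=
  (isCMMod_self_iff _).2 (isCM_mvPolynomial k (N := N))

variable {T : Type u} [CommRing T] [Algebra k T] {𝒯 : ℤ → Submodule k T} [GradedAlgebra 𝒯] {r s : ℕ}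
  {ψ : T →ₐ[k] MvPolynomial (Fin (r + 1)) k ⊗[k] MvPolynomial (Fin (s + 1)) k}
  {a b : ℤ} {P : Type u} [AddCommGroup P] [Module T P] [Module k P] [IsScalarTower k T P]
  {𝒬 : ℤ → AddSubgroup P} [DirectSum.Decomposition 𝒬]
  {φ : P →ₗ[k] MvPolynomial (Fin (r + 1)) k ⊗[k] MvPolynomial (Fin (s + 1)) k}

theorem nontrivial_polySegre (hP : GrSeg.IsSegreMod ψ (fun n : ℤ => stdGr k (r + 1) (n + a))
    (fun n : ℤ => stdGr k (s + 1) (n + b)) 𝒬 φ) : Nontrivial P := by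
  let d := max (-a) (-b)
  obtain ⟨x, hx, hx0⟩ := Submodule.exists_mem_ne_zero_of_ne_bot
    (show stdGr k (r + 1) (d + a) ≠ ⊥ from fun h => absurd ((stdGr_eq_bot_iff k (r + 1) _).1 h) (by omega))
  obtain ⟨y, hy, hy0⟩ := Submodule.exists_mem_ne_zero_of_ne_bot
    (show stdGr k (s + 1) (d + b) ≠ ⊥ from fun h => absurd ((stdGr_eq_bot_iff k (s + 1) _).1 h) (by omega))
  obtain ⟨p, -, hp⟩ := (Set.ext_iff.1 (hP.image_piece d) (x ⊗ₜ[k] y)).2 (Submodule.subset_span ⟨x, hx, y, hy, rfl⟩)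
  refine ⟨p, 0, fun h => ?_⟩
  rw [h, map_zero] at hp
  obtain ⟨f, hf⟩ := Module.Projective.exists_dual_ne_zero k hy0
  have h2 := congrArg (fun z => TensorProduct.rid k (MvPolynomial (Fin (r + 1)) k) (TensorProduct.map LinearMap.id f z)) hp
  simp only [map_zero, TensorProduct.map_tmul, TensorProduct.rid_tmul, LinearMap.id_apply] at h2
  exact (smul_ne_zero hf hx0) h2.symm

/-- The data of the two factors. -/
theorem polySegre_two {r s : ℕ} {ψ : T →ₐ[k] MvPolynomial (Fin (r + 2)) k ⊗[k] MvPolynomial (Fin (s + 2)) k}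
    (hT : GrSeg.IsSegreRing (stdGr k (r + 2)) (stdGr k (s + 2)) 𝒯 ψ) {mT : HomogeneousIdeal 𝒯}
    (hmT : mT.toIdeal = Ideal.span (⋃ n ∈ Set.Ioi (0 : ℤ), (𝒯 n : Set T)))
    {φ : P →ₗ[k] MvPolynomial (Fin (r + 2)) k ⊗[k] MvPolynomial (Fin (s + 2)) k}
    (hP : GrSeg.IsSegreMod ψ (fun n : ℤ => stdGr k (r + 2) (n + a)) (fun n : ℤ => stdGr k (s + 2) (n + b)) 𝒬 φ) :
    (IsCMMod T P ↔ (a - b < ((s + 2 : ℕ) : ℤ) ∧ -((r + 2 : ℕ) : ℤ) < a - b)) ∧
      ∀ q : ℕ, q + 1 < r + 2 + (s + 2) → (Subsingleton (LocCoh.H mT.toIdeal q P) ↔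
        (q = s + 2 → a - b < ((s + 2 : ℕ) : ℤ)) ∧ (q = r + 2 → -((r + 2 : ℕ) : ℤ) < a - b)) := by
  letI := shiftDec (stdGr k (r + 2)) a
  letI := shiftDec (stdGr k (s + 2)) b
  haveI := shift_gradedSMul (stdGr k (r + 2)) a
  haveI := shift_gradedSMul (stdGr k (s + 2)) b
  let X := ofG (stdGr k (r + 2)) (MvPolynomial (Fin (r + 2)) k) (fun n : ℤ => stdGr k (r + 2) (n + a))
  let Y := ofG (stdGr k (s + 2)) (MvPolynomial (Fin (s + 2)) k) (fun n : ℤ => stdGr k (s + 2) (n + b))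
  obtain ⟨EM⟩ := nonempty_resG X
  obtain ⟨EN⟩ := nonempty_resG Y
  haveI := nontrivial_polySegre k (r := r + 1) (s := s + 1) hP
  have hposR := stdGr_pos k (r + 2)
  have hposS := stdGr_pos k (s + 2)
  have h0R := stdGr_zero k (r + 2)
  have h0S := stdGr_zero k (s + 2)
  have hmR : (posIdeal' (stdGr k (r + 2))).toIdeal = Ideal.span (⋃ n ∈ Set.Ioi (0 : ℤ),
    (stdGr k (r + 2) n : Set (MvPolynomial (Fin (r + 2)) k))) := rfl
  have hmS : (posIdeal' (stdGr k (s + 2))).toIdeal = Ideal.span (⋃ n ∈ Set.Ioi (0 : ℤ),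
    (stdGr k (s + 2) n : Set (MvPolynomial (Fin (s + 2)) k))) := rfl
  have eR := fun d => Hd_shift_iff k (r + 1) a (X := X) (LinearEquiv.refl _ _) (fun _ _ => Iff.rfl) EM hmR d
  have eS := fun d => Hd_shift_iff k (s + 1) b (X := Y) (LinearEquiv.refl _ _) (fun _ _ => Iff.rfl) EN hmS d
  have hA : (∀ d, Subsingleton (kpiece X d) ∨
      Subsingleton (Hd EN (toAddIdeal (posIdeal' (stdGr k (s + 2)))) (s + 2) d)) ↔ a - b < ((s + 2 : ℕ) : ℤ) := by
    simp only [eS, X, kpiece_shift_iff k (r + 1) a]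
    refine ⟨fun h => ?_, fun h d => by omega⟩
    have := h (-a)
    omega
  have hB : (∀ d, Subsingleton (Hd EM (toAddIdeal (posIdeal' (stdGr k (r + 2)))) (r + 2) d) ∨
      Subsingleton (kpiece Y d)) ↔ -((r + 2 : ℕ) : ℤ) < a - b := by
    simp only [eR, Y, kpiece_shift_iff k (s + 1) b]
    refine ⟨fun h => ?_, fun h d => by omega⟩
    have := h (-b)
    omega
  refine ⟨(cm_segre_iff hposR h0R hposS h0S hT hP (dim_poly k _) (dim_poly k _) (cmMod_poly k _) (cmMod_poly k _)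
    hmR hmS EM EN).trans (and_congr hA hB), fun q hq => ?_⟩
  haveI := isNoetherianRing_T hT
  haveI := gradedSMul_of_isSegreMod hT _ _ 𝒬 hP
  let s₀ : Seg 𝒯 ψ X Y := segOf _ _ 𝒬 hP
  haveI hfin : Module.Finite T P := finite_P hT hP
  haveI : Module.Finite T s₀.Z.carrier := hfin
  haveI : Module.Finite (MvPolynomial (Fin (r + 2)) k) X.carrier := Module.Finite.self _
  haveI : Module.Finite (MvPolynomial (Fin (s + 2)) k) Y.carrier := Module.Finite.self _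
  refine (segre_vanish_iff hmR hmS hmT hposR h0R hposS h0S hT s₀ (pos_T hT hposR) (exists_scalar_T hT h0R h0S)
    EM EN (r := r) (s := s)
    (fun i hi => subsingleton_H_ne (𝒜 := stdGr k (r + 2)) (fun n : ℤ => stdGr k (r + 2) (n + a)) hposR h0R
      (dim_poly k _) (cmMod_poly k _) hmR hi)
    (fun i hi => subsingleton_H_ne (𝒜 := stdGr k (s + 2)) (fun n : ℤ => stdGr k (s + 2) (n + b)) hposS h0S
      (dim_poly k _) (cmMod_poly k _) hmS hi) q).trans ?_
  refine ⟨fun h => ⟨fun hs => hA.1 fun d => (h d).1 hs, fun hr => hB.1 fun d => (h d).2.1 hr⟩,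
    fun h d => ⟨fun hs => hA.2 (h.1 hs) d, fun hr => hB.2 (h.2 hr) d, fun e => by omega⟩⟩

/-- A line as one factor. -/
theorem polySegre_one {s : ℕ} {ψ : T →ₐ[k] MvPolynomial (Fin (0 + 1)) k ⊗[k] MvPolynomial (Fin (s + 2)) k}
    (hT : GrSeg.IsSegreRing (stdGr k (0 + 1)) (stdGr k (s + 2)) 𝒯 ψ) {mT : HomogeneousIdeal 𝒯}
    (hmT : mT.toIdeal = Ideal.span (⋃ n ∈ Set.Ioi (0 : ℤ), (𝒯 n : Set T)))
    {φ : P →ₗ[k] MvPolynomial (Fin (0 + 1)) k ⊗[k] MvPolynomial (Fin (s + 2)) k}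
    (hP : GrSeg.IsSegreMod ψ (fun n : ℤ => stdGr k (0 + 1) (n + a)) (fun n : ℤ => stdGr k (s + 2) (n + b)) 𝒬 φ) :
    (IsCMMod T P ↔ b ≤ a) ∧ Subsingleton (LocCoh.H mT.toIdeal 0 P) ∧
      (Subsingleton (LocCoh.H mT.toIdeal 1 P) ↔ b ≤ a) := by
  letI := shiftDec (stdGr k (0 + 1)) a
  letI := shiftDec (stdGr k (s + 2)) b
  haveI := shift_gradedSMul (stdGr k (0 + 1)) a
  haveI := shift_gradedSMul (stdGr k (s + 2)) b
  let X := ofG (stdGr k (0 + 1)) (MvPolynomial (Fin (0 + 1)) k) (fun n : ℤ => stdGr k (0 + 1) (n + a))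
  let Y := ofG (stdGr k (s + 2)) (MvPolynomial (Fin (s + 2)) k) (fun n : ℤ => stdGr k (s + 2) (n + b))
  obtain ⟨EM⟩ := nonempty_resG X
  haveI := nontrivial_polySegre k (r := 0) (s := s + 1) hP
  have hposR := stdGr_pos k (0 + 1)
  have hposS := stdGr_pos k (s + 2)
  have h0R := stdGr_zero k (0 + 1)
  have h0S := stdGr_zero k (s + 2)
  have hmR : (posIdeal' (stdGr k (0 + 1))).toIdeal = Ideal.span (⋃ n ∈ Set.Ioi (0 : ℤ),
    (stdGr k (0 + 1) n : Set (MvPolynomial (Fin (0 + 1)) k))) := rfl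
  have hmS : (posIdeal' (stdGr k (s + 2))).toIdeal = Ideal.span (⋃ n ∈ Set.Ioi (0 : ℤ),
    (stdGr k (s + 2) n : Set (MvPolynomial (Fin (s + 2)) k))) := rfl
  have eR := fun d => Hd_shift_iff k 0 a (X := X) (LinearEquiv.refl _ _) (fun _ _ => Iff.rfl) EM hmR d
  have hB : (∀ d, Subsingleton (Hd EM (toAddIdeal (posIdeal' (stdGr k (0 + 1)))) (0 + 1) d) ∨
      Subsingleton (kpiece Y d)) ↔ b ≤ a := by
    simp only [eR, Y, kpiece_shift_iff k (s + 1) b]
    refine ⟨fun h => ?_, fun h d => by omega⟩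
    have := h (-b)
    omega
  haveI := isNoetherianRing_T hT
  haveI := gradedSMul_of_isSegreMod hT _ _ 𝒬 hP
  let s₀ : Seg 𝒯 ψ X Y := segOf _ _ 𝒬 hP
  have hM := fun (i : ℕ) (hi : i ≠ 0 + 1) => subsingleton_H_ne (𝒜 := stdGr k (0 + 1))
    (fun n : ℤ => stdGr k (0 + 1) (n + a)) hposR h0R (dim_poly k _) (cmMod_poly k _) hmR hi
  have hN := fun (i : ℕ) (hi : i ≠ s + 2) => subsingleton_H_ne (𝒜 := stdGr k (s + 2))
    (fun n : ℤ => stdGr k (s + 2) (n + b)) hposS h0S (dim_poly k _) (cmMod_poly k _) hmS hi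
  refine ⟨(cm_segre_one hmR hT hposR h0R hposS h0S hP (s := s + 1) (dim_poly k _) (dim_poly k _) (cmMod_poly k _)
    (cmMod_poly k _) EM).trans ⟨fun h => hB.1 (h (by omega)), fun h _ => hB.2 h⟩,
    subsingleton_H_zero_segre hmR hmS hmT s₀ hT (hM 0 (by omega)) (hN 0 (by omega)),
    (subsingleton_H_one_segre_iff hmR hmS hmT s₀ EM hT (hM 0 (by omega)) (hN 0 (by omega)) (hN 1 (by omega))).trans
      hB⟩

/-- The depth from vanishing. -/
theorem idealDepth_eq_of_H {A : Type u} [CommRing A] [IsNoetherianRing A] {I : Ideal A} {X : Type u}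
    [AddCommGroup X] [Module A X] [Module.Finite A X] {n : ℕ}
    (hlt : ∀ i < n, Subsingleton (LocCoh.H I i X)) (hn : ¬ Subsingleton (LocCoh.H I n X)) :
    LocCoh.idealDepth I X = (n : ℕ∞) := by
  have h1 := (LocCohLib.le_idealDepth_iff_subsingleton_H (I := I) X n).2 hlt
  refine le_antisymm (ENat.forall_natCast_le_iff_le.1 fun j hj => ?_) h1
  have h2 := (LocCohLib.le_idealDepth_iff_subsingleton_H (I := I) X j).1 hj
  by_contra hjn
  exact hn (h2 n (by exact_mod_cast not_le.1 hjn))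

end SegreLC
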