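import Mathlib

/-! Tensor products of complexes of vector spaces, through splittings. -/

set_option autoImplicit false
universe u

open TensorProduct

namespace SegreLC

variable {k : Type u} [Field k]
  {X : ℕ → Type u} [∀ n, AddCommGroup (X n)] [∀ n, Module k (X n)]
  {Y : ℕ → Type u} [∀ n, AddCommGroup (Y n)] [∀ n, Module k (Y n)]

/-- A splitting of a cochain complex of vector spaces. -/
structure Split (d : ∀ n, X n →ₗ[k] X (n + 1)) where
  /-- the projection onto representatives of cohomology -/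
  e : ∀ n, X n →ₗ[k] X n
  /-- the contracting homotopy -/
  h : ∀ n, X (n + 1) →ₗ[k] X n
  de : ∀ n, d n ∘ₗ e n = 0
  ed : ∀ n, e (n + 1) ∘ₗ d n = 0
  ee : ∀ n, e n ∘ₗ e n = e n
  hd_zero : h 0 ∘ₗ d 0 = LinearMap.id - e 0
  hd_succ : ∀ n, h (n + 1) ∘ₗ d (n + 1) + d n ∘ₗ h n = LinearMap.id - e (n + 1)

/-- Coboundaries, with nothing in degree zero. -/
def bdy (d : ∀ n, X n →ₗ[k] X (n + 1)) : (n : ℕ) → Submodule k (X n)
  | 0 => ⊥
  | n + 1 => LinearMap.range (d n)

theorem nonempty_split (d : ∀ n, X n →ₗ[k] X (n + 1)) (hd : ∀ n, d (n + 1) ∘ₗ d n = 0) : Nonempty (Split d) := by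
  have hP : ∀ (n : ℕ) (S : Submodule k (X n)), ∃ f : X n →ₗ[k] X n, (∀ x, f x ∈ S) ∧ ∀ x ∈ S, f x = x := fun n S => by
    obtain ⟨r, hr⟩ := S.subtype.exists_leftInverse_of_injective S.ker_subtype
    exact ⟨S.subtype ∘ₗ r, fun x => (r x).2, fun x hx => congrArg Subtype.val (LinearMap.congr_fun hr ⟨x, hx⟩)⟩
  choose P hPm hPf using hP
  have hsec : ∀ n, ∃ s : X (n + 1) →ₗ[k] X n, ∀ y ∈ LinearMap.range (d n), d n (s y) = y := fun n => by
    obtain ⟨s, hs⟩ := (d n).rangeRestrict.exists_rightInverse_of_surjective (d n).range_rangeRestrict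
    obtain ⟨r, hr⟩ := (LinearMap.range (d n)).subtype.exists_leftInverse_of_injective (Submodule.ker_subtype _)
    refine ⟨s ∘ₗ r, fun y hy => ?_⟩
    show d n (s (r y)) = y
    rw [show r y = ⟨y, hy⟩ from LinearMap.congr_fun hr ⟨y, hy⟩]
    exact congrArg Subtype.val (LinearMap.congr_fun hs ⟨y, hy⟩)
  choose s hs using hsec
  let pZ : ∀ n, X n →ₗ[k] X n := fun n => P n (LinearMap.ker (d n))
  let pB : ∀ n, X n →ₗ[k] X n := fun n => P n (bdy d n) ∘ₗ pZ n
  have hBZ : ∀ n, bdy d n ≤ LinearMap.ker (d n) := fun n => by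
    cases n with
    | zero => exact bot_le
    | succ n => rintro _ ⟨x, rfl⟩; exact LinearMap.congr_fun (hd n) x
  have hpBB : ∀ n, ∀ x ∈ bdy d n, pB n x = x := fun n x hx => by
    show P n (bdy d n) (P n (LinearMap.ker (d n)) x) = x
    rw [hPf n _ x (hBZ n hx), hPf n _ x hx]
  have hsd : ∀ n (x : X n), x - s n (d n x) ∈ LinearMap.ker (d n) := fun n x => by
    rw [LinearMap.mem_ker, map_sub, hs n _ ⟨x, rfl⟩, sub_self]
  let h : ∀ n, X (n + 1) →ₗ[k] X n := fun n => (LinearMap.id - pZ n) ∘ₗ s n ∘ₗ pB (n + 1)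
  have hhd : ∀ n x, h n (d n x) = x - pZ n x := fun n x => by
    show (LinearMap.id - pZ n : X n →ₗ[k] X n) (s n (pB (n + 1) (d n x))) = _
    rw [hpBB (n + 1) _ ⟨x, rfl⟩, LinearMap.sub_apply, LinearMap.id_apply]
    have h1 : pZ n (x - s n (d n x)) = x - s n (d n x) := hPf n _ _ (hsd n x)
    rw [map_sub] at h1
    linear_combination (norm := abel) h1
  refine ⟨{ e := fun n => pZ n - pB n, h := h, de := fun n => ?_, ed := fun n => ?_, ee := fun n => ?_,
            hd_zero := ?_, hd_succ := fun n => ?_ }⟩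
  · refine LinearMap.ext fun x => ?_
    show d n (pZ n x - pB n x) = 0
    rw [map_sub, show d n (pZ n x) = 0 from LinearMap.mem_ker.1 (hPm n _ x), show d n (pB n x) = 0 from LinearMap.mem_ker.1 (hBZ n (hPm n _ _)), sub_zero]
  · refine LinearMap.ext fun x => ?_
    show pZ (n + 1) (d n x) - pB (n + 1) (d n x) = 0
    rw [hpBB (n + 1) _ ⟨x, rfl⟩, show pZ (n + 1) (d n x) = d n x from hPf _ _ _ (hBZ (n + 1) ⟨x, rfl⟩), sub_self]
  · refine LinearMap.ext fun x => ?_
    show pZ n (pZ n x - pB n x) - pB n (pZ n x - pB n x) = pZ n x - pB n x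
    have h1 : pZ n (pZ n x - pB n x) = pZ n x - pB n x :=
      hPf n _ _ (sub_mem (hPm n _ x) (hBZ n (hPm n _ _)))
    have h2 : pB n (pZ n x - pB n x) = 0 := by
      show P n (bdy d n) (pZ n (pZ n x - pB n x)) = 0
      rw [h1, map_sub, hPf n (bdy d n) (pB n x) (hPm n _ _)]
      exact sub_self _
    rw [h1, h2, sub_zero]
  · refine LinearMap.ext fun x => ?_
    show h 0 (d 0 x) = x - (pZ 0 x - pB 0 x)
    rw [hhd, show pB 0 x = 0 from (Submodule.mem_bot k).1 (hPm 0 (bdy d 0) _), sub_zero]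
  · refine LinearMap.ext fun x => ?_
    show h (n + 1) (d (n + 1) x) + d n (h n x) = x - (pZ (n + 1) x - pB (n + 1) x)
    rw [hhd]
    show _ + d n ((LinearMap.id - pZ n : X n →ₗ[k] X n) (s n (pB (n + 1) x))) = _
    rw [LinearMap.sub_apply, map_sub, LinearMap.id_apply, hs n (pB (n + 1) x) (hPm (n + 1) (bdy d (n + 1)) _),
      show d n (pZ n (s n (pB (n + 1) x))) = 0 from LinearMap.mem_ker.1 (hPm n _ _), sub_zero]
    abel

/-- The sign of the first degree. -/
def sgn (p : ℕ) : k := (-1) ^ p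

theorem sgn_zero : (sgn 0 : k) = 1 := pow_zero _

theorem map_sub_left' {A A' B B' : Type u} [AddCommGroup A] [Module k A] [AddCommGroup A'] [Module k A']
    [AddCommGroup B] [Module k B] [AddCommGroup B'] [Module k B'] (f f' : A →ₗ[k] A') (g : B →ₗ[k] B') :
    TensorProduct.map (f - f') g = TensorProduct.map f g - TensorProduct.map f' g :=
  TensorProduct.ext' fun a b => by simp [TensorProduct.sub_tmul]

theorem map_sub_right' {A A' B B' : Type u} [AddCommGroup A] [Module k A] [AddCommGroup A'] [Module k A']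
    [AddCommGroup B] [Module k B] [AddCommGroup B'] [Module k B'] (f : A →ₗ[k] A') (g g' : B →ₗ[k] B') :
    TensorProduct.map f (g - g') = TensorProduct.map f g - TensorProduct.map f g' :=
  TensorProduct.ext' fun a b => by simp [TensorProduct.tmul_sub]

theorem sgn_succ (p : ℕ) : (sgn (p + 1) : k) = - sgn p := by rw [sgn, sgn, pow_succ, mul_neg_one]

theorem sgn_mul_self (p : ℕ) : (sgn p : k) * sgn p = 1 := by rw [sgn, ← mul_pow, neg_one_mul, neg_neg, one_pow]

variable (X Y) in
/-- Families indexed by bidegrees. -/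
abbrev Bi (k : Type u) [Field k] [∀ n, Module k (X n)] [∀ n, Module k (Y n)] : Type u := ∀ p q, X p ⊗[k] Y q

variable (dX : ∀ n, X n →ₗ[k] X (n + 1)) (dY : ∀ n, Y n →ₗ[k] Y (n + 1))

/-- The first differential. -/
noncomputable def D₁ : Bi X Y k →ₗ[k] Bi X Y k :=
  LinearMap.pi fun p => LinearMap.pi fun q => match p with
    | 0 => 0
    | p + 1 => TensorProduct.map (dX p) LinearMap.id ∘ₗ (LinearMap.proj q ∘ₗ LinearMap.proj p)

/-- The second differential. -/
noncomputable def D₂ : Bi X Y k →ₗ[k] Bi X Y k :=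
  LinearMap.pi fun p => LinearMap.pi fun q => match q with
    | 0 => 0
    | q + 1 => (sgn p : k) • (TensorProduct.map LinearMap.id (dY q) ∘ₗ (LinearMap.proj q ∘ₗ LinearMap.proj p))

/-- The total differential. -/
noncomputable def D : Bi X Y k →ₗ[k] Bi X Y k := D₁ (Y := Y) dX + D₂ (X := X) dY

theorem D_zero_zero (v : Bi X Y k) : D dX dY v 0 0 = 0 := add_zero (0 : X 0 ⊗[k] Y 0)

theorem D_succ_zero (v : Bi X Y k) (p : ℕ) :
    D dX dY v (p + 1) 0 = TensorProduct.map (dX p) LinearMap.id (v p 0) := add_zero _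

theorem D_zero_succ (v : Bi X Y k) (q : ℕ) :
    D dX dY v 0 (q + 1) = TensorProduct.map LinearMap.id (dY q) (v 0 q) :=
  (zero_add _).trans ((congrArg (· • TensorProduct.map LinearMap.id (dY q) (v 0 q)) (sgn_zero (k := k))).trans (one_smul k _))

theorem D_succ_succ (v : Bi X Y k) (p q : ℕ) :
    D dX dY v (p + 1) (q + 1) = TensorProduct.map (dX p) LinearMap.id (v p (q + 1)) +
      (sgn (p + 1) : k) • TensorProduct.map LinearMap.id (dY q) (v (p + 1) q) := rfl

variable {dX dY} (sX : Split dX) (sY : Split dY)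

/-- The homotopy. -/
noncomputable def Hh : Bi X Y k →ₗ[k] Bi X Y k :=
  LinearMap.pi fun p => LinearMap.pi fun q =>
    TensorProduct.map (sX.h p) LinearMap.id ∘ₗ (LinearMap.proj q ∘ₗ LinearMap.proj (p + 1)) +
      (sgn p : k) • (TensorProduct.map (sX.e p) (sY.h q) ∘ₗ (LinearMap.proj (q + 1) ∘ₗ LinearMap.proj p))

theorem Hh_apply (v : Bi X Y k) (p q : ℕ) : Hh sX sY v p q =
    TensorProduct.map (sX.h p) LinearMap.id (v (p + 1) q) +
      (sgn p : k) • TensorProduct.map (sX.e p) (sY.h q) (v p (q + 1)) := rfl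

/-- The projection. -/
noncomputable def Ee : Bi X Y k →ₗ[k] Bi X Y k :=
  LinearMap.pi fun p => LinearMap.pi fun q =>
    TensorProduct.map (sX.e p) (sY.e q) ∘ₗ (LinearMap.proj q ∘ₗ LinearMap.proj p)

theorem Ee_apply (v : Bi X Y k) (p q : ℕ) : Ee sX sY v p q = TensorProduct.map (sX.e p) (sY.e q) (v p q) := rfl

theorem map_map' {A A' A'' B B' B'' : Type u} [AddCommGroup A] [Module k A] [AddCommGroup A'] [Module k A']
    [AddCommGroup A''] [Module k A''] [AddCommGroup B] [Module k B] [AddCommGroup B'] [Module k B']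
    [AddCommGroup B''] [Module k B''] (f : A' →ₗ[k] A'') (g : B' →ₗ[k] B'') (f' : A →ₗ[k] A') (g' : B →ₗ[k] B')
    (x : A ⊗[k] B) :
    TensorProduct.map f g (TensorProduct.map f' g' x) = TensorProduct.map (f ∘ₗ f') (g ∘ₗ g') x := by
  rw [TensorProduct.map_comp, LinearMap.comp_apply]

theorem homotopy (v : Bi X Y k) : D dX dY (Hh sX sY v) + Hh sX sY (D dX dY v) = v - Ee sX sY v := by
  funext p q
  cases p with
  | zero =>
    cases q with
    | zero =>
      simp only [Pi.add_apply, Pi.sub_apply, D_zero_zero, Hh_apply, Ee_apply, D_succ_zero, D_zero_succ, map_map',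
        LinearMap.id_comp, LinearMap.comp_id, sX.hd_zero, sY.hd_zero, sgn_zero, one_smul, zero_add,
        map_sub_left', map_sub_right', LinearMap.sub_apply, TensorProduct.map_id,
        LinearMap.id_apply]
      abel
    | succ q =>
      simp only [Pi.add_apply, Pi.sub_apply, D_zero_succ, Hh_apply, Ee_apply, D_succ_succ, map_add, map_smul,
        map_map', LinearMap.id_comp, LinearMap.comp_id, sgn_succ, smul_add, smul_smul, sgn_zero, one_mul,
        mul_neg, neg_smul, one_smul, map_neg]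
      have h1 : TensorProduct.map (sX.h 0 ∘ₗ dX 0) LinearMap.id (v 0 (q + 1)) =
          v 0 (q + 1) - TensorProduct.map (sX.e 0) LinearMap.id (v 0 (q + 1)) := by
        rw [sX.hd_zero, map_sub_left', TensorProduct.map_id]; rfl
      have h2 : TensorProduct.map (sX.e 0) (dY q ∘ₗ sY.h q) (v 0 (q + 1)) +
          TensorProduct.map (sX.e 0) (sY.h (q + 1) ∘ₗ dY (q + 1)) (v 0 (q + 1)) =
          TensorProduct.map (sX.e 0) LinearMap.id (v 0 (q + 1)) -
            TensorProduct.map (sX.e 0) (sY.e (q + 1)) (v 0 (q + 1)) := by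
        rw [← LinearMap.add_apply, ← TensorProduct.map_add_right, add_comm (dY q ∘ₗ sY.h q), sY.hd_succ,
          map_sub_right', LinearMap.sub_apply]
      linear_combination (norm := abel) h1 + h2
  | succ p =>
    cases q with
    | zero =>
      simp only [Pi.add_apply, Pi.sub_apply, D_succ_zero, Hh_apply, Ee_apply, D_succ_succ, map_add, map_smul,
        map_map', LinearMap.id_comp, LinearMap.comp_id, sX.de, TensorProduct.map_zero_left, LinearMap.zero_apply,
        smul_zero, add_zero, smul_add, smul_smul, sgn_mul_self, one_smul, sX.ed, zero_add]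
      have h1 : TensorProduct.map (dX p ∘ₗ sX.h p) LinearMap.id (v (p + 1) 0) +
          TensorProduct.map (sX.h (p + 1) ∘ₗ dX (p + 1)) LinearMap.id (v (p + 1) 0) =
          v (p + 1) 0 - TensorProduct.map (sX.e (p + 1)) LinearMap.id (v (p + 1) 0) := by
        rw [← LinearMap.add_apply, ← TensorProduct.map_add_left, add_comm (dX p ∘ₗ sX.h p), sX.hd_succ,
          map_sub_left', TensorProduct.map_id]
        rfl
      have h2 : TensorProduct.map (sX.e (p + 1)) (sY.h 0 ∘ₗ dY 0) (v (p + 1) 0) =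
          TensorProduct.map (sX.e (p + 1)) LinearMap.id (v (p + 1) 0) -
            TensorProduct.map (sX.e (p + 1)) (sY.e 0) (v (p + 1) 0) := by
        rw [sY.hd_zero, map_sub_right', LinearMap.sub_apply]
      linear_combination (norm := abel) h1 + h2
    | succ q =>
      simp only [Pi.add_apply, Pi.sub_apply, Hh_apply, Ee_apply, D_succ_succ, map_add, map_smul,
        map_map', LinearMap.id_comp, LinearMap.comp_id, sX.de, sX.ed, TensorProduct.map_zero_left,
        LinearMap.zero_apply, smul_zero, add_zero, zero_add, smul_add, smul_smul, sgn_mul_self, one_smul,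
        sgn_succ (p + 1), neg_smul, map_neg]
      have h1 : TensorProduct.map (dX p ∘ₗ sX.h p) LinearMap.id (v (p + 1) (q + 1)) +
          TensorProduct.map (sX.h (p + 1) ∘ₗ dX (p + 1)) LinearMap.id (v (p + 1) (q + 1)) =
          v (p + 1) (q + 1) - TensorProduct.map (sX.e (p + 1)) LinearMap.id (v (p + 1) (q + 1)) := by
        rw [← LinearMap.add_apply, ← TensorProduct.map_add_left, add_comm (dX p ∘ₗ sX.h p), sX.hd_succ,
          map_sub_left', TensorProduct.map_id]
        rfl
      have h2 : TensorProduct.map (sX.e (p + 1)) (dY q ∘ₗ sY.h q) (v (p + 1) (q + 1)) +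
          TensorProduct.map (sX.e (p + 1)) (sY.h (q + 1) ∘ₗ dY (q + 1)) (v (p + 1) (q + 1)) =
          TensorProduct.map (sX.e (p + 1)) LinearMap.id (v (p + 1) (q + 1)) -
            TensorProduct.map (sX.e (p + 1)) (sY.e (q + 1)) (v (p + 1) (q + 1)) := by
        rw [← LinearMap.add_apply, ← TensorProduct.map_add_right, add_comm (dY q ∘ₗ sY.h q), sY.hd_succ,
          map_sub_right', LinearMap.sub_apply]
      linear_combination (norm := abel) h1 + h2

theorem Ee_D (v : Bi X Y k) : Ee sX sY (D dX dY v) = 0 := by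
  funext p q
  cases p <;> cases q <;>
    simp [Ee_apply, D_zero_zero, D_succ_zero, D_zero_succ, D_succ_succ, map_map', sX.ed, sY.ed,
      TensorProduct.map_zero_left, TensorProduct.map_zero_right]

theorem D_Ee (v : Bi X Y k) : D dX dY (Ee sX sY v) = 0 := by
  funext p q
  cases p <;> cases q <;>
    simp [Ee_apply, D_zero_zero, D_succ_zero, D_zero_succ, D_succ_succ, map_map', sX.de, sY.de,
      TensorProduct.map_zero_left, TensorProduct.map_zero_right]

theorem Ee_Ee (v : Bi X Y k) : Ee sX sY (Ee sX sY v) = Ee sX sY v := by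
  funext p q
  simp only [Ee_apply, map_map', sX.ee, sY.ee]

/-- A cocycle is its harmonic part up to a coboundary. -/
theorem eq_D_add_Ee {z : Bi X Y k} (hz : D dX dY z = 0) : z = D dX dY (Hh sX sY z) + Ee sX sY z := by
  have h1 := homotopy sX sY z
  rw [hz, map_zero, add_zero] at h1
  rw [h1, sub_add_cancel]

/-- Families supported in one total degree. -/
def dtot (A : Type u) [CommRing A] (Z : ℕ → ℕ → Type u) [∀ p q, AddCommGroup (Z p q)] [∀ p q, Module A (Z p q)]
    (n : ℕ) : Submodule A (∀ p q, Z p q) where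
  carrier := {v | ∀ p q, p + q ≠ n → v p q = 0}
  zero_mem' := fun _ _ _ => rfl
  add_mem' := fun ha hb p q h => by rw [Pi.add_apply, Pi.add_apply, ha p q h, hb p q h, add_zero]
  smul_mem' := fun c a ha p q h => by rw [Pi.smul_apply, Pi.smul_apply, ha p q h, smul_zero]

section DTot

variable {A : Type u} [CommRing A] {Z : ℕ → ℕ → Type u} [∀ p q, AddCommGroup (Z p q)] [∀ p q, Module A (Z p q)]

/-- The entries of a family supported in degree `n`. -/
def dtotEval (n : ℕ) : dtot A Z n →ₗ[A] ∀ p : Fin (n + 1), Z p (n - p) :=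
  LinearMap.pi fun p => LinearMap.proj (n - (p : ℕ)) ∘ₗ LinearMap.proj (p : ℕ) ∘ₗ (dtot A Z n).subtype

theorem dtotEval_apply (n : ℕ) (v : dtot A Z n) (p : Fin (n + 1)) : dtotEval n v p = v.1 p (n - p) := rfl

theorem dtotEval_bijective (n : ℕ) : Function.Bijective (dtotEval (A := A) (Z := Z) n) := by
  classical
  refine ⟨fun v w h => Subtype.ext (funext fun p => funext fun q => ?_), fun w => ?_⟩
  · by_cases hpq : p + q = n
    · obtain rfl : q = n - p := by omega
      exact congrFun h ⟨p, by omega⟩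
    · rw [v.2 p q hpq, w.2 p q hpq]
  · let v : ∀ p q, Z p q := fun p => if hp : p < n + 1 then Pi.single (n - p) (w ⟨p, hp⟩) else 0
    refine ⟨⟨v, fun p q hpq => ?_⟩, funext fun p => ?_⟩
    · by_cases hp : p < n + 1
      · simp only [v, dif_pos hp]
        exact Pi.single_eq_of_ne (by omega) _
      · simp only [v, dif_neg hp]; rfl
    · rw [dtotEval_apply]
      simp only [v, dif_pos p.2]
      exact Pi.single_eq_same _ _

theorem dtot_pow_smul_eq_zero {n : ℕ} (t : A) (v : dtot A Z n)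
    (h : ∀ p : Fin (n + 1), ∃ N : ℕ, t ^ N • v.1 p (n - p) = 0) : ∃ N : ℕ, t ^ N • v = 0 := by
  choose N hN using h
  refine ⟨∑ p, N p, (dtotEval_bijective n).1 (funext fun p => ?_)⟩
  rw [map_smul, map_zero, Pi.smul_apply, Pi.zero_apply, dtotEval_apply]
  obtain ⟨c, hc⟩ := Nat.exists_eq_add_of_le
    (Finset.single_le_sum (f := N) (fun _ _ => Nat.zero_le _) (Finset.mem_univ p))
  rw [hc, add_comm (N p) c, pow_add, mul_smul, hN p, smul_zero]

end DTot

/-- Tensors supported in one total degree. -/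
abbrev tot (X Y : ℕ → Type u) [∀ n, AddCommGroup (X n)] [∀ n, Module k (X n)] [∀ n, AddCommGroup (Y n)]
    [∀ n, Module k (Y n)] (n : ℕ) : Submodule k (Bi X Y k) :=
  dtot k (fun p q => X p ⊗[k] Y q) n

variable (dX dY) in
theorem D_mem_tot {n : ℕ} {v : Bi X Y k} (hv : v ∈ tot (k := k) X Y n) : D dX dY v ∈ tot (k := k) X Y (n + 1) :=
  fun p q h => by
    cases p <;> cases q <;> simp only [D_zero_zero, D_succ_zero, D_zero_succ, D_succ_succ] <;>
      first
        | rfl
        | (rw [hv _ _ (by omega), map_zero, hv _ _ (by omega), map_zero, smul_zero, add_zero])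
        | (rw [hv _ _ (by omega), map_zero])

theorem Hh_mem_tot {n : ℕ} {v : Bi X Y k} (hv : v ∈ tot (k := k) X Y (n + 1)) :
    Hh sX sY v ∈ tot (k := k) X Y n := fun p q h => by
  rw [Hh_apply, hv _ _ (by omega), map_zero, hv _ _ (by omega), map_zero, smul_zero, add_zero]

theorem Hh_eq_zero {v : Bi X Y k} (hv : v ∈ tot (k := k) X Y 0) : Hh sX sY v = 0 := by
  funext p q
  rw [Hh_apply, hv _ _ (by omega), map_zero, hv _ _ (by omega), map_zero, smul_zero, add_zero]
  rfl

theorem Ee_mem_tot {n : ℕ} {v : Bi X Y k} (hv : v ∈ tot (k := k) X Y n) : Ee sX sY v ∈ tot (k := k) X Y n :=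
  fun p q h => by rw [Ee_apply, hv p q h, map_zero]

end SegreLC
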