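import Groth.Agent.GrModLib.Prime
import Groth.Agent.GrModLib.Graded

/-! A *injective module splits into its torsion and divisible parts for a homogeneous element. -/

set_option autoImplicit false
universe u

open DirectSum GrModLib

namespace SegreLC

variable {ι : Type} [AddCommGroup ι] [DecidableEq ι] {R : Type u} [CommRing R] {𝒜 : ι → AddSubgroup R}
  [GradedRing 𝒜] [IsNoetherianRing R]
  {I : Type u} [AddCommGroup I] [Module R I] {ℐ : ι → AddSubgroup I} [DirectSum.Decomposition ℐ]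
  [SetLike.GradedSMul 𝒜 ℐ]

omit [IsNoetherianRing R] in
theorem mem_gam_singleton {M : Type u} [AddCommGroup M] [Module R M] {x : R} {y : M} :
    y ∈ GrLC.gam (Ideal.span {x}) M ↔ ∃ n : ℕ, x ^ n • y = 0 := by
  constructor
  · rintro ⟨n, hn⟩
    exact ⟨n, hn _ (Ideal.pow_mem_pow (Ideal.mem_span_singleton_self x) n)⟩
  · rintro ⟨n, hn⟩
    refine ⟨n, fun r hr => ?_⟩
    rw [Ideal.span_singleton_pow, Ideal.mem_span_singleton] at hr
    obtain ⟨c, rfl⟩ := hr
    rw [mul_comm, mul_smul, hn, smul_zero]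

/-- The splitting. -/
theorem exists_torsion_split (hI : GrLC.IsStarInj 𝒜 ℐ) {h : ι} {x : R} (hx : x ∈ 𝒜 h) :
    ∃ B : Submodule R I, B.IsHomogeneous ℐ ∧ IsCompl (GrLC.gam (Ideal.span {x}) I) B ∧
      (∀ b ∈ B, x • b = 0 → b = 0) ∧ ∀ b ∈ B, ∃ c ∈ B, x • c = b := by
  let a : HomogeneousIdeal 𝒜 :=
    ⟨Ideal.span {x}, Ideal.homogeneous_span 𝒜 _ fun z hz => ⟨h, (Set.mem_singleton_iff.1 hz) ▸ hx⟩⟩
  let A := GrLC.gam (Ideal.span {x}) I
  have hA : A.IsHomogeneous ℐ := gam_isHomogeneous (ℳ := ℐ) a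
  letI := (subGr_isInternal A hA).chooseDecomposition
  haveI : SetLike.GradedSMul 𝒜 (subGr A ℐ) := ⟨fun {h g r m} hr hm => smul_mem 𝒜 ℐ hr hm⟩
  obtain ⟨X, f, j, hf, hj, hji, hjf⟩ := exists_hull_in (𝒜 := 𝒜) (ℳ := subGr A ℐ) hI
    A.subtype (fun g m hm => hm) (Submodule.subtype_injective A)
  have hjA : ∀ y : X.carrier, j y ∈ A := fun y => by
    induction y using induction X.gr with
    | h0 => rw [map_zero]; exact A.zero_mem
    | hadd u v hu hv => rw [map_add]; exact A.add_mem hu hv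
    | hmem g y hy =>
      obtain ⟨n, hn⟩ : ∃ n : ℕ, ∀ m, n ≤ m → (R ∙ (x ^ n • y)).annihilator = (R ∙ (x ^ m • y)).annihilator := by
        obtain ⟨n, hn⟩ := monotone_stabilizes_iff_noetherian.2 (inferInstanceAs (IsNoetherian R R))
          ⟨fun n => (R ∙ (x ^ n • y)).annihilator, monotone_nat_of_le_succ fun n r hr => by
            rw [Submodule.mem_annihilator_span_singleton] at hr ⊢
            rw [pow_succ', mul_smul, smul_comm, hr, smul_zero]⟩
        exact ⟨n, hn⟩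
      rw [mem_gam_singleton]
      refine ⟨n, ?_⟩
      rw [← map_smul]
      by_contra hne
      have hz : x ^ n • y ∈ X.gr (n • h + g) := smul_mem 𝒜 X.gr (SetLike.pow_mem_graded n hx) hy
      obtain ⟨-, r, -, ⟨w, hw⟩, hne'⟩ := exists_homogeneous_smul (𝒜 := 𝒜) (ℳ := subGr A ℐ) hf.toIsStarEss hz
        (fun e => hne (by rw [e, map_zero]))
      obtain ⟨m, hm⟩ : ∃ m : ℕ, x ^ m • (r • (x ^ n • y)) = 0 := by
        obtain ⟨m, hm⟩ := mem_gam_singleton.1 w.2
        exact ⟨m, by rw [← hw, ← map_smul, show x ^ m • w = 0 from Subtype.ext hm, map_zero]⟩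
      refine hne' ((Submodule.mem_annihilator_span_singleton (R := R) _ r).1 ?_)
      rw [hn (m + n) (Nat.le_add_left n m), Submodule.mem_annihilator_span_singleton, pow_add, mul_smul,
        smul_comm, hm]
  obtain ⟨r, hr, hrj⟩ := extend hf.starInj X.gr ℐ j hj hji LinearMap.id (fun g v hv => hv)
  let B := LinearMap.ker r
  have hdisj : ∀ b ∈ A, b ∈ B → b = 0 := fun b hbA hbB => by
    have h1 : j (f ⟨b, hbA⟩) = b := LinearMap.congr_fun hjf ⟨b, hbA⟩
    have h2 : f ⟨b, hbA⟩ = 0 := by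
      rw [← LinearMap.id_apply (R := R) (f ⟨b, hbA⟩), ← hrj]
      show r (j (f ⟨b, hbA⟩)) = 0
      rw [h1]; exact hbB
    rw [← h1, h2, map_zero]
  have hcompl : IsCompl A B := by
    refine ⟨Submodule.disjoint_def.2 hdisj, codisjoint_iff.2 (eq_top_iff.2 fun v _ => ?_)⟩
    refine Submodule.mem_sup.2 ⟨j (r v), hjA _, v - j (r v), ?_, add_sub_cancel _ _⟩
    rw [LinearMap.mem_ker, map_sub, show r (j (r v)) = r v from LinearMap.congr_fun hrj (r v), sub_self]
  have hinj : ∀ b ∈ B, x • b = 0 → b = 0 := fun b hb h0 =>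
    hdisj b (mem_gam_singleton.2 ⟨1, by rw [pow_one]; exact h0⟩) hb
  have hB : B.IsHomogeneous ℐ := ker_isHomogeneous hr
  refine ⟨B, hB, hcompl, hinj, fun b hb => ?_⟩
  let BG := subG 𝒜 (ℳ := ℐ) B hB
  let B' := shiftG 𝒜 BG.gr (-h)
  let μ : B'.carrier →ₗ[R] BG.carrier := (x • LinearMap.id : BG.carrier →ₗ[R] BG.carrier)
  obtain ⟨h', -, hh'⟩ := extend_deg hI B'.gr BG.gr μ
    (fun i v hv => by
      show x • v ∈ BG.gr i
      have := smul_mem 𝒜 BG.gr hx (show v ∈ BG.gr (i + -h) from hv)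
      rwa [add_comm h, neg_add_cancel_right] at this)
    (fun u v e => by
      have h1 : x • (u.1 - v.1) = 0 := by
        rw [smul_sub, sub_eq_zero]; exact congrArg Subtype.val e
      exact Subtype.ext (sub_eq_zero.1 (hinj _ (B.sub_mem u.2 v.2) h1)))
    (B.subtype : BG.carrier →ₗ[R] I) (-h) (fun i v hv => hv)
  have hxb : x • h' ⟨b, hb⟩ = b := by
    rw [← map_smul]
    exact LinearMap.congr_fun hh' ⟨b, hb⟩
  obtain ⟨a', ha', c, hc, hac⟩ := Submodule.mem_sup.1
    (hcompl.codisjoint.eq_top.ge (Submodule.mem_top : h' ⟨b, hb⟩ ∈ ⊤))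
  refine ⟨c, hc, ?_⟩
  have h1 : x • a' = 0 := hdisj _ (A.smul_mem x ha') (by
    have h2 : x • a' = b - x • c := by rw [eq_sub_iff_add_eq, ← smul_add, hac, hxb]
    rw [h2]; exact B.sub_mem hb (B.smul_mem x hc))
  rw [← hxb, ← hac, smul_add, h1, zero_add]

end SegreLC
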