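import Groth.Agent.SegreLC.Mod
import Groth.Agent.SegreLC.Kun
import Groth.Agent.SegreLC.Summand
import Groth.Agent.LocCohLib.CohDim
import Groth.Agent.GrModLib.Graded

/-! Segre products of *injective modules are acyclic for the irrelevant ideal. -/

set_option autoImplicit false
universe u

open scoped TensorProduct
open DirectSum GrModLib

namespace SegreLC

section Retract

variable {ι : Type} [AddCommGroup ι] [DecidableEq ι] {R : Type u} [CommRing R] {𝒜' : ι → AddSubgroup R}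
  [GradedRing 𝒜']

theorem starInj_retract {X Z : GrLC.GMod.{u} 𝒜'} (hX : GrLC.IsStarInj 𝒜' X.gr)
    (i : Z.carrier →ₗ[R] X.carrier) (p : X.carrier →ₗ[R] Z.carrier) (hi : GrLC.IsGrHom Z.gr X.gr i)
    (hp : GrLC.IsGrHom X.gr Z.gr p) (hpi : ∀ z, p (i z) = z) : GrLC.IsStarInj 𝒜' Z.gr := by
  intro A B f hf hfi g hg
  obtain ⟨h, hh, hhf⟩ := hX A B f hf hfi (i ∘ₗ g) (fun j m hm => hi j _ (hg j m hm))
  refine ⟨p ∘ₗ h, fun j m hm => hp j _ (hh j m hm), LinearMap.ext fun a => ?_⟩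
  show p (h (f a)) = g a
  rw [show h (f a) = i (g a) from LinearMap.congr_fun hhf a, hpi]

/-- The two parts of a *injective module. -/
theorem exists_split [IsNoetherianRing R] {I : GrLC.GMod.{u} 𝒜'} (hI : GrLC.IsStarInj 𝒜' I.gr) {h : ι} {x : R}
    (hx : x ∈ 𝒜' h) :
    ∃ (A B : GrLC.GMod.{u} 𝒜') (iA : A.carrier →ₗ[R] I.carrier) (pA : I.carrier →ₗ[R] A.carrier)
      (iB : B.carrier →ₗ[R] I.carrier) (pB : I.carrier →ₗ[R] B.carrier),
      GrLC.IsGrHom A.gr I.gr iA ∧ GrLC.IsGrHom I.gr A.gr pA ∧ GrLC.IsGrHom B.gr I.gr iB ∧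
      GrLC.IsGrHom I.gr B.gr pB ∧ GrLC.IsStarInj 𝒜' A.gr ∧ GrLC.IsStarInj 𝒜' B.gr ∧
      pA ∘ₗ iA = LinearMap.id ∧ pB ∘ₗ iB = LinearMap.id ∧ pB ∘ₗ iA = 0 ∧
      iA ∘ₗ pA + iB ∘ₗ pB = LinearMap.id ∧
      (∀ a : A.carrier, ∃ n : ℕ, x ^ n • a = 0) ∧ Function.Bijective (fun b : B.carrier => x • b) := by
  obtain ⟨B, hB, hc, hinj, hdiv⟩ := exists_torsion_split hI hx
  let a : HomogeneousIdeal 𝒜' :=
    ⟨Ideal.span {x}, Ideal.homogeneous_span 𝒜' _ fun z hz => ⟨h, (Set.mem_singleton_iff.1 hz) ▸ hx⟩⟩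
  let A := GrLC.gam (Ideal.span {x}) I.carrier
  have hA : A.IsHomogeneous I.gr := gam_isHomogeneous (ℳ := I.gr) a
  let AG := subG 𝒜' (ℳ := I.gr) A hA
  let BG := subG 𝒜' (ℳ := I.gr) B hB
  let pA : I.carrier →ₗ[R] AG.carrier := A.projectionOnto B hc
  let pB : I.carrier →ₗ[R] BG.carrier := B.projectionOnto A hc.symm
  have hsum : ∀ v, (A.projectionOnto B hc v : I.carrier) + (B.projectionOnto A hc.symm v : I.carrier) = v :=
    fun v => Submodule.projection_add_projection_eq_self hc v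
  have hdec : ∀ g, ∀ v ∈ I.gr g, (A.projectionOnto B hc v : I.carrier) ∈ I.gr g := fun g v hv => by
    have h1 := congrArg (pr I.gr g) (hsum v)
    rw [map_add, pr_self I.gr hv] at h1
    have h2 : (A.projectionOnto B hc v : I.carrier) = pr I.gr g (A.projectionOnto B hc v : I.carrier) := by
      conv_lhs => rw [← h1]
      rw [map_add]
      show (A.projectionOnto B hc (pr I.gr g (A.projectionOnto B hc v : I.carrier)) : I.carrier) +
        (A.projectionOnto B hc (pr I.gr g (B.projectionOnto A hc.symm v : I.carrier)) : I.carrier) = _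
      rw [show A.projectionOnto B hc (pr I.gr g (A.projectionOnto B hc v : I.carrier)) =
          ⟨pr I.gr g (A.projectionOnto B hc v : I.carrier), hA g (A.projectionOnto B hc v).2⟩ from
          Submodule.projectionOnto_apply_left hc ⟨_, hA g (A.projectionOnto B hc v).2⟩,
        show A.projectionOnto B hc (pr I.gr g (B.projectionOnto A hc.symm v : I.carrier)) = 0 from
          (Submodule.projectionOnto_apply_eq_zero_iff hc).2 (hB g (B.projectionOnto A hc.symm v).2)]
      exact add_zero _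
    rw [h2]; exact pr_mem I.gr g _
  have hiA : GrLC.IsGrHom AG.gr I.gr (A.subtype : AG.carrier →ₗ[R] I.carrier) := fun g v hv => hv
  have hiB : GrLC.IsGrHom BG.gr I.gr (B.subtype : BG.carrier →ₗ[R] I.carrier) := fun g v hv => hv
  have hpA : GrLC.IsGrHom I.gr AG.gr pA := hdec
  have hpB : GrLC.IsGrHom I.gr BG.gr pB := fun g v hv => by
    show (B.projectionOnto A hc.symm v : I.carrier) ∈ I.gr g
    rw [show (B.projectionOnto A hc.symm v : I.carrier) = v - (A.projectionOnto B hc v : I.carrier) from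
      (sub_eq_of_eq_add' (hsum v).symm).symm]
    exact sub_mem hv (hdec g v hv)
  refine ⟨AG, BG, A.subtype, pA, B.subtype, pB, hiA, hpA, hiB, hpB,
    starInj_retract hI (A.subtype : AG.carrier →ₗ[R] I.carrier) pA hiA hpA
      (fun z => Submodule.projectionOnto_apply_left hc z),
    starInj_retract hI (B.subtype : BG.carrier →ₗ[R] I.carrier) pB hiB hpB
      (fun z => Submodule.projectionOnto_apply_left hc.symm z),
    LinearMap.ext fun z => Submodule.projectionOnto_apply_left hc z,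
    LinearMap.ext fun z => Submodule.projectionOnto_apply_left hc.symm z,
    LinearMap.ext fun z => (Submodule.projectionOnto_apply_eq_zero_iff hc.symm).2 z.2,
    LinearMap.ext hsum, fun z => ?_, ⟨fun u v e => Subtype.ext ?_, fun b => ?_⟩⟩
  · obtain ⟨n, hn⟩ := mem_gam_singleton.1 z.2
    exact ⟨n, Subtype.ext hn⟩
  · refine sub_eq_zero.1 (hinj _ (B.sub_mem u.2 v.2) ?_)
    rw [smul_sub, sub_eq_zero]
    exact congrArg Subtype.val e
  · obtain ⟨c, hc', hxc⟩ := hdiv b.1 b.2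
    exact ⟨⟨c, hc'⟩, Subtype.ext hxc⟩

end Retract

section Field

variable {k : Type u} [Field k] {A B C D : Type u} [AddCommGroup A] [Module k A] [AddCommGroup B] [Module k B]
  [AddCommGroup C] [Module k C] [AddCommGroup D] [Module k D]

theorem exists_comp_eq_of_ker_le (f : A →ₗ[k] B) (q : A →ₗ[k] C) (h : LinearMap.ker f ≤ LinearMap.ker q) :
    ∃ g : B →ₗ[k] C, g ∘ₗ f = q := by
  obtain ⟨g, hg⟩ := LinearMap.exists_extend (((LinearMap.ker f).liftQ q h) ∘ₗ f.quotKerEquivRange.symm.toLinearMap)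
  refine ⟨g, LinearMap.ext fun a => ?_⟩
  have h1 := LinearMap.congr_fun hg ⟨f a, LinearMap.mem_range_self f a⟩
  simp only [LinearMap.comp_apply, Submodule.subtype_apply, LinearEquiv.coe_coe] at h1
  rw [LinearMap.comp_apply, h1, LinearMap.quotKerEquivRange_symm_apply_image f a, Submodule.mkQ_apply,
    Submodule.liftQ_apply]

theorem tensor_eq_zero_left {ι : Sort*} {A' : ι → Type u} [∀ i, AddCommGroup (A' i)] [∀ i, Module k (A' i)]
    (f : ∀ i, A →ₗ[k] A' i) (hf : ∀ a, (∀ i, f i a = 0) → a = 0) (w : A ⊗[k] B)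
    (hw : ∀ i, TensorProduct.map (f i) LinearMap.id w = 0) : w = 0 := by
  classical
  let b := Module.Basis.ofVectorSpace k B
  have key : ∀ i (u : A ⊗[k] B) j, TensorProduct.equivFinsuppOfBasisRight b
      (TensorProduct.map (f i) LinearMap.id u) j = f i (TensorProduct.equivFinsuppOfBasisRight b u j) := fun i u j => by
    induction u using TensorProduct.induction_on with
    | zero => simp
    | add u v hu hv => simp only [map_add, Finsupp.add_apply, hu, hv]
    | tmul a c =>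
      rw [TensorProduct.map_tmul, TensorProduct.equivFinsuppOfBasisRight_apply_tmul_apply,
        TensorProduct.equivFinsuppOfBasisRight_apply_tmul_apply, map_smul, LinearMap.id_apply]
  refine (TensorProduct.equivFinsuppOfBasisRight b).injective (Finsupp.ext fun j => ?_)
  rw [map_zero, Finsupp.zero_apply]
  exact hf _ fun i => by rw [← key, hw i, map_zero, Finsupp.zero_apply]

theorem tensor_eq_zero_right {ι : Sort*} {B' : ι → Type u} [∀ i, AddCommGroup (B' i)] [∀ i, Module k (B' i)]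
    (g : ∀ i, B →ₗ[k] B' i) (hg : ∀ b, (∀ i, g i b = 0) → b = 0) (w : A ⊗[k] B)
    (hw : ∀ i, TensorProduct.map LinearMap.id (g i) w = 0) : w = 0 := by
  refine (TensorProduct.comm k A B).injective ?_
  rw [map_zero]
  refine tensor_eq_zero_left g hg _ fun i => ?_
  have h : ∀ u : A ⊗[k] B, TensorProduct.map (g i) LinearMap.id (TensorProduct.comm k A B u) =
      TensorProduct.comm k A (B' i) (TensorProduct.map LinearMap.id (g i) u) := fun u => by
    induction u using TensorProduct.induction_on with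
    | zero => simp
    | add u v hu hv => simp only [map_add, hu, hv]
    | tmul a c => rfl
  rw [h, hw i, map_zero]

end Field

section Alg

variable {R : Type u} [CommRing R] {M : Type u} [AddCommGroup M] [Module R M]

theorem mem_gam_of_forall [IsNoetherianRing R] {E : Set R} {I : Ideal R} (hE : Ideal.span E = I) {v : M}
    (h : ∀ x ∈ E, ∃ n : ℕ, x ^ n • v = 0) : v ∈ GrLC.gam I M := by
  have hle : I ≤ ((R ∙ v).annihilator).radical := by
    rw [← hE, Ideal.span_le]
    intro x hx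
    obtain ⟨n, hn⟩ := h x hx
    exact ⟨n, (Submodule.mem_annihilator_span_singleton (R := R) v _).2 hn⟩
  obtain ⟨n, hn⟩ := Ideal.exists_pow_le_of_le_radical_of_fg hle (IsNoetherian.noetherian I)
  exact ⟨n, fun r hr => (Submodule.mem_annihilator_span_singleton (R := R) v r).1 (hn hr)⟩

/-- An element of the ideal acting bijectively kills all local cohomology. -/
theorem subsingleton_H_of_bijective [IsNoetherianRing R] (I : Ideal R) {f : R} (hf : f ∈ I)
    (hbij : Function.Bijective (fun x : M => f • x)) (q : ℕ) : Subsingleton (LocCoh.H I q M) := by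
  let F : ModuleCat.of R M ≅ ModuleCat.of R M :=
    (LinearEquiv.ofBijective (f • LinearMap.id : M →ₗ[R] M) hbij).toModuleIso
  have hinj : Function.Injective fun y : LocCoh.H I q M => f • y := by
    have h1 : ((localCohomology I q).mapIso F).hom = f • CategoryTheory.CategoryStruct.id _ :=
      LocCohLib.map_smul_id I f q (ModuleCat.of R M)
    intro y z hyz
    refine (((localCohomology I q).mapIso F).toLinearEquiv).injective ?_
    have h2 : ∀ w, ((localCohomology I q).mapIso F).toLinearEquiv w = f • w := fun w =>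
      congrArg (fun φ : (localCohomology I q).obj (ModuleCat.of R M) ⟶ (localCohomology I q).obj (ModuleCat.of R M) =>
        φ.hom w) h1
    rw [h2, h2]; exact hyz
  refine subsingleton_of_forall_eq 0 fun y => ?_
  obtain ⟨n, hn⟩ := LocCohLib.isPowerTorsion_H I q M y
  have key : ∀ (j : ℕ) (w : LocCoh.H I q M), f ^ j • w = 0 → w = 0 := by
    intro j
    induction j with
    | zero => intro w hw; rwa [pow_zero, one_smul] at hw
    | succ j ih =>
      intro w hw
      rw [pow_succ, mul_smul] at hw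
      exact hinj (show f • w = f • (0 : LocCoh.H I q M) by rw [ih _ hw, smul_zero])
  exact key n y (hn _ (Ideal.pow_mem_pow hf n))

theorem subsingleton_H_split (I : Ideal R) {M₁ M₂ : Type u} [AddCommGroup M₁] [Module R M₁] [AddCommGroup M₂]
    [Module R M₂] (i₁ : M₁ →ₗ[R] M) (p₁ : M →ₗ[R] M₁) (i₂ : M₂ →ₗ[R] M) (p₂ : M →ₗ[R] M₂)
    (h11 : ∀ z, p₁ (i₁ z) = z) (h22 : ∀ z, p₂ (i₂ z) = z) (h21 : ∀ z, p₂ (i₁ z) = 0)
    (hsum : ∀ v, i₁ (p₁ v) + i₂ (p₂ v) = v) (n : ℕ) (H₁ : Subsingleton (LocCoh.H I n M₁))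
    (H₂ : Subsingleton (LocCoh.H I n M₂)) : Subsingleton (LocCoh.H I n M) :=
  LocCohLib.subsingleton_H_mid i₁ p₂ (Function.LeftInverse.injective h11)
    (fun v => ⟨fun hv => ⟨p₁ v, by rw [← hsum v, hv, map_zero, add_zero, h11]⟩, by rintro ⟨z, rfl⟩; exact h21 z⟩)
    (Function.RightInverse.surjective h22) n H₁ H₂

end Alg

variable {k : Type u} [Field k] {R S T : Type u} [CommRing R] [Algebra k R] [CommRing S] [Algebra k S]
  [CommRing T] [Algebra k T] {𝒜 : ℤ → Submodule k R} [GradedAlgebra 𝒜] {ℬ : ℤ → Submodule k S} [GradedAlgebra ℬ]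
  {𝒯 : ℤ → Submodule k T} [GradedAlgebra 𝒯] {ψ : T →ₐ[k] R ⊗[k] S}

variable (𝒜 ℬ ψ) in
/-- The preimages of elementary tensors of positive degree. -/
def elemSet : Set T := {t | ∃ (n : ℤ) (a : R) (b : S), 0 < n ∧ a ∈ 𝒜 n ∧ b ∈ ℬ n ∧ ψ t = a ⊗ₜ[k] b}

theorem mem_of_psi (hT : GrSeg.IsSegreRing 𝒜 ℬ 𝒯 ψ) {n : ℤ} {t : T}
    (ht : ψ t ∈ GrSeg.segrePiece k 𝒜 ℬ n) : t ∈ 𝒯 n := by
  rw [← hT.2 n] at ht
  obtain ⟨s, hs, hst⟩ := ht
  exact hT.1 hst ▸ hs

theorem exists_psi_eq (hT : GrSeg.IsSegreRing 𝒜 ℬ 𝒯 ψ) {n : ℤ} {w : R ⊗[k] S}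
    (hw : w ∈ GrSeg.segrePiece k 𝒜 ℬ n) : ∃ t ∈ 𝒯 n, ψ t = w := by
  rw [← hT.2 n] at hw
  obtain ⟨s, hs, hst⟩ := hw
  exact ⟨s, hs, hst⟩

theorem span_elemSet (hT : GrSeg.IsSegreRing 𝒜 ℬ 𝒯 ψ) :
    Ideal.span (elemSet 𝒜 ℬ ψ) = Ideal.span (⋃ n ∈ Set.Ioi (0 : ℤ), (𝒯 n : Set T)) := by
  refine le_antisymm (Ideal.span_mono ?_) (Ideal.span_le.2 ?_)
  · rintro t ⟨n, a, b, hn, ha, hb, hab⟩
    exact Set.mem_iUnion₂.2 ⟨n, hn, mem_of_psi hT (hab ▸ tmul_mem_segrePiece ha hb)⟩
  · intro t ht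
    obtain ⟨n, hn, ht⟩ := Set.mem_iUnion₂.1 ht
    suffices h : ∀ w ∈ GrSeg.segrePiece k 𝒜 ℬ n, ∀ u : T, ψ u = w → u ∈ Ideal.span (elemSet 𝒜 ℬ ψ) from
      h _ (psi_mem hT ht) t rfl
    intro w hw
    induction hw using Submodule.span_induction with
    | mem x hx =>
      obtain ⟨a, ha, b, hb, rfl⟩ := hx
      exact fun u hu => Ideal.subset_span ⟨n, a, b, hn, ha, hb, hu⟩
    | zero =>
      intro u hu
      rw [show u = 0 from hT.1 (hu.trans (map_zero ψ).symm)]
      exact zero_mem _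
    | add x y hx hy ihx ihy =>
      intro u hu
      obtain ⟨ux, -, hux⟩ := exists_psi_eq hT hx
      obtain ⟨uy, -, huy⟩ := exists_psi_eq hT hy
      rw [show u = ux + uy from hT.1 (by rw [hu, map_add, hux, huy])]
      exact add_mem (ihx ux hux) (ihy uy huy)
    | smul c x hx ih =>
      intro u hu
      obtain ⟨ux, -, hux⟩ := exists_psi_eq hT hx
      rw [show u = algebraMap k T c * ux from hT.1 (by rw [hu, map_mul, AlgHom.commutes, hux, Algebra.smul_def])]
      exact Ideal.mul_mem_left _ _ (ih ux hux)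

variable {X X' X'' : GrLC.GMod.{u} (toAdd 𝒜)} {Y Y' Y'' : GrLC.GMod.{u} (toAdd ℬ)}

theorem act_tmul_eq (a : R) (b : S) (v : X.carrier ⊗[k] Y.carrier) :
    GrSeg.act k R S X.carrier Y.carrier (a ⊗ₜ[k] b) v =
      TensorProduct.map (Algebra.lsmul k k X.carrier a) (Algebra.lsmul k k Y.carrier b) v := by
  induction v using TensorProduct.induction_on with
  | zero => simp
  | add u v hu hv => simp only [map_add, hu, hv]
  | tmul m n => simp [GrSeg.act_tmul]

theorem act_mul (w w' : R ⊗[k] S) (v : X.carrier ⊗[k] Y.carrier) :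
    GrSeg.act k R S X.carrier Y.carrier (w * w') v =
      GrSeg.act k R S X.carrier Y.carrier w (GrSeg.act k R S X.carrier Y.carrier w' v) :=
  LinearMap.congr_fun ((SegreLib.actHom (k := k) R S X.carrier Y.carrier).map_mul w w') v

/-- Killed by a power of an elementary tensor. -/
theorem exists_pow_act_eq_zero (a : R) (b : S)
    (h : (∀ m : X.carrier, ∃ n : ℕ, a ^ n • m = 0) ∨ ∀ m : Y.carrier, ∃ n : ℕ, b ^ n • m = 0)
    (v : X.carrier ⊗[k] Y.carrier) :
    ∃ n : ℕ, GrSeg.act k R S X.carrier Y.carrier ((a ⊗ₜ[k] b) ^ n) v = 0 := by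
  induction v using TensorProduct.induction_on with
  | zero => exact ⟨0, map_zero _⟩
  | add u v hu hv =>
    obtain ⟨n, hn⟩ := hu
    obtain ⟨m, hm⟩ := hv
    refine ⟨n + m, ?_⟩
    rw [map_add, add_comm n m, pow_add, act_mul, act_mul, hn, map_zero, zero_add, ← act_mul, mul_comm, act_mul,
      hm, map_zero]
  | tmul m m' =>
    rcases h with h | h
    · obtain ⟨n, hn⟩ := h m
      exact ⟨n, by rw [Algebra.TensorProduct.tmul_pow, GrSeg.act_tmul, hn, TensorProduct.zero_tmul]⟩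
    · obtain ⟨n, hn⟩ := h m'
      exact ⟨n, by rw [Algebra.TensorProduct.tmul_pow, GrSeg.act_tmul, hn, TensorProduct.tmul_zero]⟩

theorem Seg.exists_pow_smul_eq_zero (s : Seg 𝒯 ψ X Y) {t : T} {a : R} {b : S} (ht : ψ t = a ⊗ₜ[k] b)
    (h : (∀ m : X.carrier, ∃ n : ℕ, a ^ n • m = 0) ∨ ∀ m : Y.carrier, ∃ n : ℕ, b ^ n • m = 0)
    (p : s.Z.carrier) : ∃ n : ℕ, t ^ n • p = 0 := by
  obtain ⟨n, hn⟩ := exists_pow_act_eq_zero a b h (s.val p)
  exact ⟨n, s.val_injective (by rw [s.val_smul, map_pow, ht, hn, map_zero])⟩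

theorem Seg.smul_bijective (s : Seg 𝒯 ψ X Y) {t : T} {n : ℤ} {a : R} {b : S} (ha : a ∈ 𝒜 n) (hb : b ∈ ℬ n)
    (ht : ψ t = a ⊗ₜ[k] b) (hX : Function.Bijective (fun m : X.carrier => a • m))
    (hY : Function.Bijective (fun m : Y.carrier => b • m)) : Function.Bijective (fun p : s.Z.carrier => t • p) := by
  let eX : X.carrier ≃ₗ[k] X.carrier := LinearEquiv.ofBijective (Algebra.lsmul k k X.carrier a) hX
  let eY : Y.carrier ≃ₗ[k] Y.carrier := LinearEquiv.ofBijective (Algebra.lsmul k k Y.carrier b) hY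
  let e := TensorProduct.congr eX eY
  have he : ∀ p : s.Z.carrier, s.val (t • p) = e (s.val p) := fun p => by
    rw [s.val_smul, ht, act_tmul_eq]; rfl
  refine ⟨fun p q h => s.val_injective (e.injective ?_), fun p => ?_⟩
  · rw [← he, ← he]; exact congrArg s.val h
  · induction p using GrModLib.induction s.Z.gr with
    | h0 => exact ⟨0, smul_zero _⟩
    | hadd p q hp hq =>
      obtain ⟨p', rfl⟩ := hp
      obtain ⟨q', rfl⟩ := hq
      exact ⟨p' + q', smul_add _ _ _⟩
    | hmem m p hp =>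
      have hX' : ∀ x ∈ X.gr m, eX.symm x ∈ X.gr (m - n) := fun x hx => by
        obtain ⟨y, rfl⟩ := eX.surjective x
        rw [LinearEquiv.symm_apply_apply]
        have h1 : a • pr X.gr (m - n) y = a • y := by
          rw [← pr_smul_add (toAdd 𝒜) X.gr (show a ∈ toAdd 𝒜 n from ha) (m - n) y, show n + (m - n) = m by ring]
          exact pr_self X.gr hx
        exact hX.1 h1 ▸ pr_mem X.gr _ y
      have hY' : ∀ x ∈ Y.gr m, eY.symm x ∈ Y.gr (m - n) := fun x hx => by
        obtain ⟨y, rfl⟩ := eY.surjective x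
        rw [LinearEquiv.symm_apply_apply]
        have h1 : b • pr Y.gr (m - n) y = b • y := by
          rw [← pr_smul_add (toAdd ℬ) Y.gr (show b ∈ toAdd ℬ n from hb) (m - n) y, show n + (m - n) = m by ring]
          exact pr_self Y.gr hx
        exact hY.1 h1 ▸ pr_mem Y.gr _ y
      obtain ⟨q, -, hq⟩ := s.exists_eq_of_mem
        (map_mem_segrePiece (f := eX.symm.toLinearMap) (g := eY.symm.toLinearMap) hX' hY' (s.val_mem hp))
      exact ⟨q, s.val_injective (by rw [he, hq]; exact e.apply_symm_apply _)⟩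

/-- A splitting in the first factor splits the Segre product. -/
theorem subsingleton_H_left [IsNoetherianRing T] (I : Ideal T) (s : Seg 𝒯 ψ X Y) (s₁ : Seg 𝒯 ψ X' Y)
    (s₂ : Seg 𝒯 ψ X'' Y) {iA : X'.carrier →ₗ[R] X.carrier} {pA : X.carrier →ₗ[R] X'.carrier}
    {iB : X''.carrier →ₗ[R] X.carrier} {pB : X.carrier →ₗ[R] X''.carrier} (hiA : GrLC.IsGrHom X'.gr X.gr iA)
    (hpA : GrLC.IsGrHom X.gr X'.gr pA) (hiB : GrLC.IsGrHom X''.gr X.gr iB) (hpB : GrLC.IsGrHom X.gr X''.gr pB)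
    (h11 : pA ∘ₗ iA = LinearMap.id) (h22 : pB ∘ₗ iB = LinearMap.id) (h21 : pB ∘ₗ iA = 0)
    (hsum : iA ∘ₗ pA + iB ∘ₗ pB = LinearMap.id) (n : ℕ) (H₁ : Subsingleton (LocCoh.H I n s₁.Z.carrier))
    (H₂ : Subsingleton (LocCoh.H I n s₂.Z.carrier)) : Subsingleton (LocCoh.H I n s.Z.carrier) := by
  have hid : GrLC.IsGrHom Y.gr Y.gr (LinearMap.id : Y.carrier →ₗ[S] Y.carrier) := fun g m hm => hm
  refine subsingleton_H_split I (s₁.map s hiA hid) (s.map s₁ hpA hid) (s₂.map s hiB hid) (s.map s₂ hpB hid)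
    (fun z => s₁.val_injective ?_) (fun z => s₂.val_injective ?_) (fun z => s₂.val_injective ?_)
    (fun v => s.val_injective ?_) n H₁ H₂
  · rw [Seg.val_map, Seg.val_map, ← LinearMap.comp_apply, ← TensorProduct.map_comp, ← LinearMap.restrictScalars_comp,
      h11, LinearMap.restrictScalars_id]
    exact LinearMap.congr_fun TensorProduct.map_id _
  · rw [Seg.val_map, Seg.val_map, ← LinearMap.comp_apply, ← TensorProduct.map_comp, ← LinearMap.restrictScalars_comp,
      h22, LinearMap.restrictScalars_id]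
    exact LinearMap.congr_fun TensorProduct.map_id _
  · rw [Seg.val_map, Seg.val_map, ← LinearMap.comp_apply, ← TensorProduct.map_comp, ← LinearMap.restrictScalars_comp,
      h21, LinearMap.restrictScalars_zero, TensorProduct.map_zero_left, map_zero]
    rfl
  · rw [map_add, Seg.val_map, Seg.val_map, Seg.val_map, Seg.val_map, map_map', map_map',
      ← LinearMap.restrictScalars_comp, ← LinearMap.restrictScalars_comp]
    simp only [LinearMap.restrictScalars_id, LinearMap.id_comp]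
    rw [← LinearMap.add_apply, ← TensorProduct.map_add_left, ← LinearMap.restrictScalars_comp,
      ← LinearMap.restrictScalars_add, hsum,
      LinearMap.restrictScalars_id]
    exact LinearMap.congr_fun TensorProduct.map_id _

/-- A splitting in the second factor splits the Segre product. -/
theorem subsingleton_H_right [IsNoetherianRing T] (I : Ideal T) (s : Seg 𝒯 ψ X Y) (s₁ : Seg 𝒯 ψ X Y')
    (s₂ : Seg 𝒯 ψ X Y'') {iA : Y'.carrier →ₗ[S] Y.carrier} {pA : Y.carrier →ₗ[S] Y'.carrier}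
    {iB : Y''.carrier →ₗ[S] Y.carrier} {pB : Y.carrier →ₗ[S] Y''.carrier} (hiA : GrLC.IsGrHom Y'.gr Y.gr iA)
    (hpA : GrLC.IsGrHom Y.gr Y'.gr pA) (hiB : GrLC.IsGrHom Y''.gr Y.gr iB) (hpB : GrLC.IsGrHom Y.gr Y''.gr pB)
    (h11 : pA ∘ₗ iA = LinearMap.id) (h22 : pB ∘ₗ iB = LinearMap.id) (h21 : pB ∘ₗ iA = 0)
    (hsum : iA ∘ₗ pA + iB ∘ₗ pB = LinearMap.id) (n : ℕ) (H₁ : Subsingleton (LocCoh.H I n s₁.Z.carrier))
    (H₂ : Subsingleton (LocCoh.H I n s₂.Z.carrier)) : Subsingleton (LocCoh.H I n s.Z.carrier) := by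
  have hid : GrLC.IsGrHom X.gr X.gr (LinearMap.id : X.carrier →ₗ[R] X.carrier) := fun g m hm => hm
  refine subsingleton_H_split I (s₁.map s hid hiA) (s.map s₁ hid hpA) (s₂.map s hid hiB) (s.map s₂ hid hpB)
    (fun z => s₁.val_injective ?_) (fun z => s₂.val_injective ?_) (fun z => s₂.val_injective ?_)
    (fun v => s.val_injective ?_) n H₁ H₂
  · rw [Seg.val_map, Seg.val_map, ← LinearMap.comp_apply, ← TensorProduct.map_comp, ← LinearMap.restrictScalars_comp,
      ← LinearMap.restrictScalars_comp, h11, LinearMap.id_comp, LinearMap.restrictScalars_id,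
      LinearMap.restrictScalars_id]
    exact LinearMap.congr_fun TensorProduct.map_id _
  · rw [Seg.val_map, Seg.val_map, ← LinearMap.comp_apply, ← TensorProduct.map_comp, ← LinearMap.restrictScalars_comp,
      ← LinearMap.restrictScalars_comp, h22, LinearMap.id_comp, LinearMap.restrictScalars_id,
      LinearMap.restrictScalars_id]
    exact LinearMap.congr_fun TensorProduct.map_id _
  · rw [Seg.val_map, Seg.val_map, ← LinearMap.comp_apply, ← TensorProduct.map_comp, ← LinearMap.restrictScalars_comp,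
      ← LinearMap.restrictScalars_comp, h21, LinearMap.restrictScalars_zero, TensorProduct.map_zero_right, map_zero]
    rfl
  · rw [map_add, Seg.val_map, Seg.val_map, Seg.val_map, Seg.val_map, map_map', map_map']
    simp only [LinearMap.restrictScalars_id, LinearMap.id_comp]
    rw [← LinearMap.add_apply, ← TensorProduct.map_add_right, ← LinearMap.restrictScalars_comp,
      ← LinearMap.restrictScalars_comp, ← LinearMap.restrictScalars_add, hsum, LinearMap.restrictScalars_id]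
    exact LinearMap.congr_fun TensorProduct.map_id _

theorem subsingleton_H_cons_of_torsion [IsNoetherianRing T] {M : Type u} [AddCommGroup M] [Module T M] {t : T}
    {l : List T} (ht : ∀ m : M, ∃ n : ℕ, t ^ n • m = 0)
    (h : ∀ n, Subsingleton (LocCoh.H (Ideal.span {x | x ∈ l}) (n + 1) M)) (n : ℕ) :
    Subsingleton (LocCoh.H (Ideal.span {x | x ∈ t :: l}) (n + 1) M) := by
  have h1 := LocCohLib.isZero_cech_append_of_torsion l (ModuleCat.of T M) 0 rfl
    (fun i hi => by obtain ⟨j, rfl⟩ := Nat.exists_eq_add_of_lt hi; rw [zero_add]; exact h j)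
    [t] (fun g hg => by rw [List.mem_singleton] at hg; subst hg; exact ht) n (Nat.zero_le n)
  refine (LocCohLib.cechEquiv (t :: l) (Ideal.span {x | x ∈ t :: l}) rfl (n + 1) M).toEquiv.subsingleton_congr.2
    (LocCohLib.moduleCat_zero_of_isZero ?_)
  rw [show ((n + 1 : ℕ) : ℤ) = (n : ℤ) + 1 by push_cast; ring]
  exact h1

variable [IsNoetherianRing R] [IsNoetherianRing S] [IsNoetherianRing T]

theorem subsingleton_H_list (hT : GrSeg.IsSegreRing 𝒜 ℬ 𝒯 ψ) : ∀ (l : List T), (∀ t ∈ l, t ∈ elemSet 𝒜 ℬ ψ) →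
    ∀ (X : GrLC.GMod.{u} (toAdd 𝒜)) (Y : GrLC.GMod.{u} (toAdd ℬ)), GrLC.IsStarInj (toAdd 𝒜) X.gr →
      GrLC.IsStarInj (toAdd ℬ) Y.gr → ∀ (s : Seg 𝒯 ψ X Y) (n : ℕ),
        Subsingleton (LocCoh.H (Ideal.span {x | x ∈ l}) (n + 1) s.Z.carrier)
  | [], _, _, _, _, _, _, n => LocCohLib.subsingleton_H_of_length_lt _ [] rfl (n + 1) (Nat.succ_pos n) _
  | t :: l, hl, X, Y, hX, hY, s, n => by
    obtain ⟨d, a, b, hd, ha, hb, hab⟩ := hl t (List.mem_cons_self ..)
    have ih := subsingleton_H_list hT l (fun u hu => hl u (List.mem_cons_of_mem _ hu))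
    obtain ⟨A, B, iA, pA, iB, pB, hiA, hpA, hiB, hpB, hAi, hBi, h11, h22, h21, hsum, hAt, hBb⟩ :=
      exists_split hX (show a ∈ toAdd 𝒜 d from ha)
    obtain ⟨C, D, iC, pC, iD, pD, hiC, hpC, hiD, hpD, hCi, hDi, g11, g22, g21, gsum, hCt, hDb⟩ :=
      exists_split hY (show b ∈ toAdd ℬ d from hb)
    let sA := segG hT A Y
    let sBC := segG hT B C
    let sBD := segG hT B D
    let sB := segG hT B Y
    refine subsingleton_H_left _ s sA sB hiA hpA hiB hpB h11 h22 h21 hsum (n + 1)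
      (subsingleton_H_cons_of_torsion (sA.exists_pow_smul_eq_zero hab (Or.inl hAt)) (ih A Y hAi hY sA) n) ?_
    exact subsingleton_H_right _ sB sBC sBD hiC hpC hiD hpD g11 g22 g21 gsum (n + 1)
      (subsingleton_H_cons_of_torsion (sBC.exists_pow_smul_eq_zero hab (Or.inr hCt)) (ih B C hBi hCi sBC) n)
      (subsingleton_H_of_bijective (f := t) _ (Ideal.subset_span (show t ∈ {x | x ∈ t :: l} from List.mem_cons_self ..))
        (sBD.smul_bijective ha hb hab hBb hDb) (n + 1))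

/-- Segre products of *injective modules are acyclic. -/
theorem subsingleton_H_seg (hT : GrSeg.IsSegreRing 𝒜 ℬ 𝒯 ψ) (mT : HomogeneousIdeal 𝒯)
    (hmT : mT.toIdeal = Ideal.span (⋃ n ∈ Set.Ioi (0 : ℤ), (𝒯 n : Set T)))
    (hX : GrLC.IsStarInj (toAdd 𝒜) X.gr) (hY : GrLC.IsStarInj (toAdd ℬ) Y.gr) (s : Seg 𝒯 ψ X Y) (n : ℕ) :
    Subsingleton (LocCoh.H mT.toIdeal (n + 1) s.Z.carrier) := by
  obtain ⟨E, hE, heq⟩ := (Submodule.fg_span_iff_fg_span_finset_subset (elemSet 𝒜 ℬ ψ)).1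
    (IsNoetherian.noetherian (Submodule.span T (elemSet 𝒜 ℬ ψ)))
  have h1 : mT.toIdeal = Ideal.span {x | x ∈ E.toList} := by
    rw [hmT, ← span_elemSet hT]
    refine heq.trans (congrArg (Submodule.span T) ?_)
    ext x
    simp
  rw [h1]
  exact subsingleton_H_list hT _ (fun t ht => hE (by simpa using ht)) X Y hX hY s n

omit [IsNoetherianRing R] [IsNoetherianRing S] [IsNoetherianRing T] in
theorem mem_irrelevant {A : Type u} [CommRing A] [Algebra k A] {𝒟 : ℤ → Submodule k A} [GradedAlgebra 𝒟]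
    {m : HomogeneousIdeal 𝒟} (hm : m.toIdeal = Ideal.span (⋃ n ∈ Set.Ioi (0 : ℤ), (𝒟 n : Set A))) {n : ℤ}
    (hn : 0 < n) {a : A} (ha : a ∈ 𝒟 n) : a ∈ m.toIdeal := by
  rw [hm]; exact Ideal.subset_span (Set.mem_iUnion₂.2 ⟨n, hn, ha⟩)

variable {mR : HomogeneousIdeal 𝒜} {mS : HomogeneousIdeal ℬ} {mT : HomogeneousIdeal 𝒯}

/-- Torsion in a Segre product. -/
theorem Seg.mem_gam_iff (hT : GrSeg.IsSegreRing 𝒜 ℬ 𝒯 ψ)
    (hmR : mR.toIdeal = Ideal.span (⋃ n ∈ Set.Ioi (0 : ℤ), (𝒜 n : Set R)))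
    (hmS : mS.toIdeal = Ideal.span (⋃ n ∈ Set.Ioi (0 : ℤ), (ℬ n : Set S)))
    (hmT : mT.toIdeal = Ideal.span (⋃ n ∈ Set.Ioi (0 : ℤ), (𝒯 n : Set T)))
    (s : Seg 𝒯 ψ X Y) (p : s.Z.carrier) :
    p ∈ GrLC.gam mT.toIdeal s.Z.carrier ↔
      TensorProduct.map ((GrLC.gam mR.toIdeal X.carrier).mkQ.restrictScalars k)
        ((GrLC.gam mS.toIdeal Y.carrier).mkQ.restrictScalars k) (s.val p) = 0 := by
  set qX := (GrLC.gam mR.toIdeal X.carrier).mkQ.restrictScalars k with hqX
  set qY := (GrLC.gam mS.toIdeal Y.carrier).mkQ.restrictScalars k with hqY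
  constructor
  · rintro ⟨N, hN⟩
    let ι₁ := {x : R // ∃ n : ℤ, 0 < n ∧ x ∈ 𝒜 n}
    let ι₂ := {x : S // ∃ n : ℤ, 0 < n ∧ x ∈ ℬ n}
    let gX : ι₁ → Submodule k X.carrier := fun x =>
      (GrLC.gam (Ideal.span {x.1}) X.carrier).restrictScalars k
    let gY : ι₂ → Submodule k Y.carrier := fun x =>
      (GrLC.gam (Ideal.span {x.1}) Y.carrier).restrictScalars k
    have hleX : ∀ x : ι₁, LinearMap.ker qX ≤ LinearMap.ker (gX x).mkQ := fun x v hv => by
      rw [Submodule.ker_mkQ]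
      obtain ⟨n, hn⟩ := (Submodule.Quotient.mk_eq_zero _).1 (LinearMap.mem_ker.1 hv)
      obtain ⟨d, hd, hxd⟩ := x.2
      exact mem_gam_singleton.2 ⟨n, hn _ (Ideal.pow_mem_pow (mem_irrelevant hmR hd hxd) n)⟩
    have hleY : ∀ x : ι₂, LinearMap.ker qY ≤ LinearMap.ker (gY x).mkQ := fun x v hv => by
      rw [Submodule.ker_mkQ]
      obtain ⟨n, hn⟩ := (Submodule.Quotient.mk_eq_zero _).1 (LinearMap.mem_ker.1 hv)
      obtain ⟨d, hd, hxd⟩ := x.2
      exact mem_gam_singleton.2 ⟨n, hn _ (Ideal.pow_mem_pow (mem_irrelevant hmS hd hxd) n)⟩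
    choose hx hhx using fun x => exists_comp_eq_of_ker_le qX (gX x).mkQ (hleX x)
    choose hy hhy using fun x => exists_comp_eq_of_ker_le qY (gY x).mkQ (hleY x)
    have hjX : ∀ w, (∀ x, hx x w = 0) → w = 0 := fun w hw => by
      obtain ⟨v, rfl⟩ := Submodule.mkQ_surjective _ w
      refine (Submodule.Quotient.mk_eq_zero _).2 (mem_gam_of_forall hmR.symm fun r hr => ?_)
      obtain ⟨n, hn, hr⟩ := Set.mem_iUnion₂.1 hr
      have h1 : (gX ⟨r, n, hn, hr⟩).mkQ v = 0 := (LinearMap.congr_fun (hhx ⟨r, n, hn, hr⟩) v).symm.trans (hw _)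
      exact mem_gam_singleton.1 ((Submodule.Quotient.mk_eq_zero _).1 h1)
    have hjY : ∀ w, (∀ x, hy x w = 0) → w = 0 := fun w hw => by
      obtain ⟨v, rfl⟩ := Submodule.mkQ_surjective _ w
      refine (Submodule.Quotient.mk_eq_zero _).2 (mem_gam_of_forall hmS.symm fun r hr => ?_)
      obtain ⟨n, hn, hr⟩ := Set.mem_iUnion₂.1 hr
      have h1 : (gY ⟨r, n, hn, hr⟩).mkQ v = 0 := (LinearMap.congr_fun (hhy ⟨r, n, hn, hr⟩) v).symm.trans (hw _)
      exact mem_gam_singleton.1 ((Submodule.Quotient.mk_eq_zero _).1 h1)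
    refine tensor_eq_zero_left hx hjX _ fun x => tensor_eq_zero_right hy hjY _ fun y => ?_
    rw [← LinearMap.comp_apply, ← TensorProduct.map_comp, LinearMap.id_comp, LinearMap.comp_id,
      ← LinearMap.comp_apply, ← TensorProduct.map_comp, hhx, hhy]
    obtain ⟨x, i, hi, hxi⟩ := x
    obtain ⟨y, j, hj, hyj⟩ := y
    obtain ⟨i, rfl⟩ := Int.eq_ofNat_of_zero_le hi.le
    obtain ⟨j, rfl⟩ := Int.eq_ofNat_of_zero_le hj.le
    have hxm := SetLike.pow_mem_graded j hxi
    have hym := SetLike.pow_mem_graded i hyj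
    rw [nsmul_eq_mul] at hxm hym
    rw [mul_comm (i : ℤ)] at hym
    obtain ⟨t, ht, hψt⟩ := exists_psi_eq hT (tmul_mem_segrePiece hxm hym)
    have h1 : s.val (t ^ N • p) = 0 := by
      rw [hN _ (Ideal.pow_mem_pow (mem_irrelevant hmT (mul_pos hj hi) ht) N), map_zero]
    rw [s.val_smul, map_pow, hψt, Algebra.TensorProduct.tmul_pow, act_tmul_eq] at h1
    obtain ⟨u, hu⟩ := exists_comp_eq_of_ker_le (Algebra.lsmul k k X.carrier ((x ^ j) ^ N))
      (gX ⟨x, (i : ℤ), hi, hxi⟩).mkQ fun v hv => by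
        rw [Submodule.ker_mkQ]
        exact mem_gam_singleton.2 ⟨j * N, by rw [pow_mul]; exact hv⟩
    obtain ⟨w, hw⟩ := exists_comp_eq_of_ker_le (Algebra.lsmul k k Y.carrier ((y ^ i) ^ N))
      (gY ⟨y, (j : ℤ), hj, hyj⟩).mkQ fun v hv => by
        rw [Submodule.ker_mkQ]
        exact mem_gam_singleton.2 ⟨i * N, by rw [pow_mul]; exact hv⟩
    show TensorProduct.map (gX ⟨x, (i : ℤ), hi, hxi⟩).mkQ (gY ⟨y, (j : ℤ), hj, hyj⟩).mkQ (s.val p) = 0
    rw [← hu, ← hw, TensorProduct.map_comp, LinearMap.comp_apply, h1, map_zero]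
  · intro hp
    refine mem_gam_of_forall ((span_elemSet hT).trans hmT.symm) ?_
    rintro t ⟨n, a, b, hn, ha, hb, hab⟩
    suffices h : ∀ v : X.carrier ⊗[k] Y.carrier, TensorProduct.map qX qY v = 0 →
        ∃ N : ℕ, GrSeg.act k R S X.carrier Y.carrier ((a ⊗ₜ[k] b) ^ N) v = 0 by
      obtain ⟨N, hN⟩ := h _ hp
      exact ⟨N, s.val_injective (by rw [s.val_smul, map_pow, hab, hN, map_zero])⟩
    intro v hv
    let KX := LinearMap.ker qX
    let KY := LinearMap.ker qY
    have hsX : Function.Surjective qX := fun w => Submodule.mkQ_surjective (GrLC.gam mR.toIdeal X.carrier) w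
    have hsY : Function.Surjective qY := fun w => Submodule.mkQ_surjective (GrLC.gam mS.toIdeal Y.carrier) w
    have heX : Function.Exact KX.subtype qX := LinearMap.exact_subtype_ker_map qX
    have heY : Function.Exact KY.subtype qY := LinearMap.exact_subtype_ker_map qY
    have hex := TensorProduct.map_ker heX hsX heY hsY
    have hv' : v ∈ LinearMap.ker (TensorProduct.map qX qY) := hv
    rw [hex] at hv'
    obtain ⟨v₁, ⟨w₁, rfl⟩, v₂, ⟨w₂, rfl⟩, rfl⟩ := Submodule.mem_sup.1 hv'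
    have mono : ∀ (v : X.carrier ⊗[k] Y.carrier) (N M : ℕ), N ≤ M →
        GrSeg.act k R S X.carrier Y.carrier ((a ⊗ₜ[k] b) ^ N) v = 0 →
        GrSeg.act k R S X.carrier Y.carrier ((a ⊗ₜ[k] b) ^ M) v = 0 := fun v N M h h0 => by
      obtain ⟨c, rfl⟩ := Nat.exists_eq_add_of_le h
      rw [add_comm, pow_add, act_mul, h0, map_zero]
    have h₁ : ∀ w, ∃ N : ℕ, GrSeg.act k R S X.carrier Y.carrier ((a ⊗ₜ[k] b) ^ N)
        (LinearMap.lTensor X.carrier KY.subtype w) = 0 := fun w => by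
      induction w using TensorProduct.induction_on with
      | zero => exact ⟨0, by rw [map_zero, map_zero]⟩
      | add u w hu hw =>
        obtain ⟨N, hN⟩ := hu
        obtain ⟨M, hM⟩ := hw
        exact ⟨N + M, by rw [map_add, map_add, mono _ N _ (by omega) hN, mono _ M _ (by omega) hM, add_zero]⟩
      | tmul m m' =>
        obtain ⟨N, hN⟩ := (Submodule.Quotient.mk_eq_zero _).1 (LinearMap.mem_ker.1 m'.2)
        refine ⟨N, ?_⟩
        rw [LinearMap.lTensor_tmul, Algebra.TensorProduct.tmul_pow, GrSeg.act_tmul, Submodule.subtype_apply,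
          hN _ (Ideal.pow_mem_pow (mem_irrelevant hmS hn hb) N), TensorProduct.tmul_zero]
    have h₂ : ∀ w, ∃ N : ℕ, GrSeg.act k R S X.carrier Y.carrier ((a ⊗ₜ[k] b) ^ N)
        (LinearMap.rTensor Y.carrier KX.subtype w) = 0 := fun w => by
      induction w using TensorProduct.induction_on with
      | zero => exact ⟨0, by rw [map_zero, map_zero]⟩
      | add u w hu hw =>
        obtain ⟨N, hN⟩ := hu
        obtain ⟨M, hM⟩ := hw
        exact ⟨N + M, by rw [map_add, map_add, mono _ N _ (by omega) hN, mono _ M _ (by omega) hM, add_zero]⟩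
      | tmul m m' =>
        obtain ⟨N, hN⟩ := (Submodule.Quotient.mk_eq_zero _).1 (LinearMap.mem_ker.1 m.2)
        refine ⟨N, ?_⟩
        rw [LinearMap.rTensor_tmul, Algebra.TensorProduct.tmul_pow, GrSeg.act_tmul, Submodule.subtype_apply,
          hN _ (Ideal.pow_mem_pow (mem_irrelevant hmR hn ha) N), TensorProduct.zero_tmul]
    obtain ⟨N, hN⟩ := h₁ w₁
    obtain ⟨M, hM⟩ := h₂ w₂
    exact ⟨N + M, by rw [map_add, mono _ N _ (by omega) hN, mono _ M _ (by omega) hM, add_zero]⟩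

end SegreLC
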