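import Groth.Agent.GrModLib.Bridge
import Groth.Agent.SegreLib.Basic
import Groth.Prelude.Def_GrSeg

/-! Segre products of bundled graded modules. -/

set_option autoImplicit false
universe u

open scoped TensorProduct
open DirectSum GrModLib

namespace SegreLC

section KMod

variable {ι : Type} [AddCommGroup ι] [DecidableEq ι] {k R : Type u} [CommRing k] [CommRing R] [Algebra k R]
  {σ : Type u} [SetLike σ R] [AddSubgroupClass σ R] {𝒜' : ι → σ} [GradedRing 𝒜']

/-- A bundled graded module over a `k`-algebra is a `k`-module. -/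
scoped instance (priority := 50) kMod (X : GrLC.GMod.{u} 𝒜') : Module k X.carrier :=
  Module.compHom X.carrier (algebraMap k R)

scoped instance kMod_isScalarTower (X : GrLC.GMod.{u} 𝒜') : IsScalarTower k R X.carrier :=
  IsScalarTower.of_algebraMap_smul fun _ _ => rfl

end KMod

variable {k : Type u} [Field k] {R S T : Type u} [CommRing R] [Algebra k R] [CommRing S] [Algebra k S]
  [CommRing T] [Algebra k T] {𝒜 : ℤ → Submodule k R} [GradedAlgebra 𝒜] {ℬ : ℤ → Submodule k S} [GradedAlgebra ℬ]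
  {𝒯 : ℤ → Submodule k T} [GradedAlgebra 𝒯] {ψ : T →ₐ[k] R ⊗[k] S}

instance gsmulOf {σ : Type u} [SetLike σ R] [AddSubgroupClass σ R] {𝒜' : ℤ → σ} [GradedRing 𝒜']
    (X : GrLC.GMod.{u} (toAdd 𝒜')) : SetLike.GradedSMul 𝒜' X.gr :=
  ⟨fun {_ _ _ _} hr hm => X.gsmul.smul_mem hr hm⟩

/-- Bundle a graded module over the underlying grading. -/
noncomputable def ofG (𝒜' : ℤ → Submodule k R) [GradedAlgebra 𝒜'] (M : Type u) [AddCommGroup M] [Module R M]
    {τ : Type u} [SetLike τ M] [AddSubgroupClass τ M]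
    (ℳ : ℤ → τ) [DirectSum.Decomposition ℳ] [SetLike.GradedSMul 𝒜' ℳ] :
    GrLC.GMod.{u} (toAdd 𝒜') :=
  { carrier := M, gr := toAdd ℳ }

/-- `k` acts on a bundled module as on the original one. -/
def idk (𝒜' : ℤ → Submodule k R) [GradedAlgebra 𝒜'] (M : Type u) [AddCommGroup M] [Module R M] [Module k M]
    [IsScalarTower k R M] {τ : Type u} [SetLike τ M] [AddSubgroupClass τ M]
    (ℳ : ℤ → τ) [DirectSum.Decomposition ℳ] [SetLike.GradedSMul 𝒜' ℳ] :
    M ≃ₗ[k] (ofG 𝒜' M ℳ).carrier where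
  toFun x := x
  invFun x := x
  left_inv _ := rfl
  right_inv _ := rfl
  map_add' _ _ := rfl
  map_smul' c x := (IsScalarTower.algebraMap_smul R c x).symm

/-- A resolution of the bundled module. -/
noncomputable def resOfG {𝒜' : ℤ → Submodule k R} [GradedAlgebra 𝒜'] {M : Type u} [AddCommGroup M] [Module R M]
    {τ : Type u} [SetLike τ M] [AddSubgroupClass τ M] {ℳ : ℤ → τ} [DirectSum.Decomposition ℳ]
    [SetLike.GradedSMul 𝒜' ℳ] (E : GrLC.StarInjRes 𝒜' ℳ) :
    GrLC.StarInjRes (toAdd 𝒜') (ofG 𝒜' M ℳ).gr :=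
  resToAdd (𝒜 := 𝒜') (ℳ := ℳ) E

theorem Hgr_resOfG {𝒜' : ℤ → Submodule k R} [GradedAlgebra 𝒜'] {M : Type u} [AddCommGroup M] [Module R M]
    {τ : Type u} [SetLike τ M] [AddSubgroupClass τ M] {ℳ : ℤ → τ} [DirectSum.Decomposition ℳ]
    [SetLike.GradedSMul 𝒜' ℳ] (E : GrLC.StarInjRes 𝒜' ℳ) (a : HomogeneousIdeal 𝒜') (i : ℕ) (g : ℤ) :
    (resOfG E).Hgr (toAddIdeal a) i g = E.Hgr a i g := rfl

section Piece

variable {M N : Type u} [AddCommGroup M] [Module k M] [AddCommGroup N] [Module k N]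
  {τ τ' : Type u} [SetLike τ M] [SetLike τ' N] {ℳ : ℤ → τ} {𝒩 : ℤ → τ'}

theorem tmul_mem_segrePiece {n : ℤ} {a : M} {b : N} (ha : a ∈ ℳ n) (hb : b ∈ 𝒩 n) :
    a ⊗ₜ[k] b ∈ GrSeg.segrePiece k ℳ 𝒩 n := Submodule.subset_span ⟨a, ha, b, hb, rfl⟩

theorem segrePiece_le_diagPart (n : ℤ) :
    GrSeg.segrePiece k ℳ 𝒩 n ≤ SegreLib.diagPart (k := k) ℳ 𝒩 :=
  le_iSup (fun n : ℤ => GrSeg.segrePiece k ℳ 𝒩 n) n

theorem map_mem_segrePiece {M' N' : Type u} [AddCommGroup M'] [Module k M'] [AddCommGroup N'] [Module k N']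
    {υ υ' : Type u} [SetLike υ M'] [SetLike υ' N'] {ℳ' : ℤ → υ} {𝒩' : ℤ → υ'} {n m : ℤ}
    {f : M →ₗ[k] M'} {g : N →ₗ[k] N'} (hf : ∀ a ∈ ℳ n, f a ∈ ℳ' m) (hg : ∀ b ∈ 𝒩 n, g b ∈ 𝒩' m)
    {x : M ⊗[k] N} (hx : x ∈ GrSeg.segrePiece k ℳ 𝒩 n) :
    TensorProduct.map f g x ∈ GrSeg.segrePiece k ℳ' 𝒩' m := by
  induction hx using Submodule.span_induction with
  | mem x hx => obtain ⟨a, ha, b, hb, rfl⟩ := hx; exact tmul_mem_segrePiece (hf a ha) (hg b hb)
  | zero => rw [map_zero]; exact Submodule.zero_mem _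
  | add x y _ _ hx hy => rw [map_add]; exact Submodule.add_mem _ hx hy
  | smul c x _ hx => rw [map_smul]; exact Submodule.smul_mem _ c hx

theorem map_eq_zero_of_segrePiece {M' N' : Type u} [AddCommGroup M'] [Module k M'] [AddCommGroup N'] [Module k N']
    {n : ℤ} {f : M →ₗ[k] M'} {g : N →ₗ[k] N'} (hf : ∀ a ∈ ℳ n, f a = 0)
    {x : M ⊗[k] N} (hx : x ∈ GrSeg.segrePiece k ℳ 𝒩 n) : TensorProduct.map f g x = 0 := by
  induction hx using Submodule.span_induction with
  | mem x hx => obtain ⟨a, ha, b, hb, rfl⟩ := hx; rw [TensorProduct.map_tmul, hf a ha, TensorProduct.zero_tmul]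
  | zero => rw [map_zero]
  | add x y _ _ hx hy => rw [map_add, hx, hy, add_zero]
  | smul c x _ hx => rw [map_smul, hx, smul_zero]

theorem map_eq_self_of_segrePiece {n : ℤ} {f : M →ₗ[k] M} {g : N →ₗ[k] N} (hf : ∀ a ∈ ℳ n, f a = a)
    (hg : ∀ b ∈ 𝒩 n, g b = b)
    {x : M ⊗[k] N} (hx : x ∈ GrSeg.segrePiece k ℳ 𝒩 n) : TensorProduct.map f g x = x := by
  induction hx using Submodule.span_induction with
  | mem x hx => obtain ⟨a, ha, b, hb, rfl⟩ := hx; rw [TensorProduct.map_tmul, hf a ha, hg b hb]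
  | zero => rw [map_zero]
  | add x y _ _ hx hy => rw [map_add, hx, hy]
  | smul c x _ hx => rw [map_smul, hx]

end Piece

section Act

theorem psi_mem (hT : GrSeg.IsSegreRing 𝒜 ℬ 𝒯 ψ) {n : ℤ} {t : T} (ht : t ∈ 𝒯 n) :
    ψ t ∈ GrSeg.segrePiece k 𝒜 ℬ n :=
  hT.2 n ▸ Submodule.mem_map_of_mem ht

theorem psi_diag (hT : GrSeg.IsSegreRing 𝒜 ℬ 𝒯 ψ) (t : T) : ψ t ∈ SegreLib.diagPart (k := k) 𝒜 ℬ := by
  induction t using DirectSum.Decomposition.inductionOn 𝒯 with
  | zero => rw [map_zero]; exact Submodule.zero_mem _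
  | add a b ha hb => rw [map_add]; exact Submodule.add_mem _ ha hb
  | @homogeneous n t => exact segrePiece_le_diagPart n (psi_mem hT t.2)

variable {X : GrLC.GMod.{u} (toAdd 𝒜)} {Y : GrLC.GMod.{u} (toAdd ℬ)}

theorem act_mem_segrePiece {i j : ℤ} {w : R ⊗[k] S} (hw : w ∈ GrSeg.segrePiece k 𝒜 ℬ i)
    {x : X.carrier ⊗[k] Y.carrier} (hx : x ∈ GrSeg.segrePiece k X.gr Y.gr j) :
    GrSeg.act k R S X.carrier Y.carrier w x ∈ GrSeg.segrePiece k X.gr Y.gr (i + j) := by
  induction hw using Submodule.span_induction with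
  | mem w hw =>
    obtain ⟨a, ha, b, hb, rfl⟩ := hw
    induction hx using Submodule.span_induction with
    | mem x hx =>
      obtain ⟨c, hc, d, hd, rfl⟩ := hx
      rw [GrSeg.act_tmul]
      exact tmul_mem_segrePiece (X.gsmul.smul_mem ha hc) (Y.gsmul.smul_mem hb hd)
    | zero => rw [map_zero]; exact Submodule.zero_mem _
    | add x y _ _ hx hy => rw [map_add]; exact Submodule.add_mem _ hx hy
    | smul c x _ hx => rw [map_smul]; exact Submodule.smul_mem _ c hx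
  | zero => rw [map_zero, LinearMap.zero_apply]; exact Submodule.zero_mem _
  | add u v _ _ hu hv => rw [map_add, LinearMap.add_apply]; exact Submodule.add_mem _ hu hv
  | smul c u _ hu => rw [map_smul, LinearMap.smul_apply]; exact Submodule.smul_mem _ c hu

theorem act_mem_diag {w : R ⊗[k] S} (hw : w ∈ SegreLib.diagPart (k := k) 𝒜 ℬ) {x : X.carrier ⊗[k] Y.carrier}
    (hx : x ∈ SegreLib.diagPart (k := k) X.gr Y.gr) :
    GrSeg.act k R S X.carrier Y.carrier w x ∈ SegreLib.diagPart (k := k) X.gr Y.gr := by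
  refine SegreLib.diagPart_induction X.gr Y.gr
    (C := fun x => GrSeg.act k R S X.carrier Y.carrier w x ∈ SegreLib.diagPart (k := k) X.gr Y.gr)
    (by rw [map_zero]; exact Submodule.zero_mem _)
    (fun x y hx hy => by rw [map_add]; exact Submodule.add_mem _ hx hy)
    (fun c x hx => by rw [map_smul]; exact Submodule.smul_mem _ c hx) (fun n a b ha hb => ?_) hx
  refine SegreLib.diagPart_induction 𝒜 ℬ
    (C := fun w => GrSeg.act k R S X.carrier Y.carrier w (a ⊗ₜ[k] b) ∈ SegreLib.diagPart (k := k) X.gr Y.gr)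
    (by rw [map_zero, LinearMap.zero_apply]; exact Submodule.zero_mem _)
    (fun x y hx hy => by rw [map_add, LinearMap.add_apply]; exact Submodule.add_mem _ hx hy)
    (fun c x hx => by rw [map_smul, LinearMap.smul_apply]; exact Submodule.smul_mem _ c hx)
    (fun i r s hr hs => ?_) hw
  rw [GrSeg.act_tmul]
  exact SegreLib.tmul_mem_diagPart X.gr Y.gr (X.gsmul.smul_mem hr ha) (Y.gsmul.smul_mem hs hb)

end Act

/-- A Segre product of two bundled modules. -/
structure Seg (𝒯 : ℤ → Submodule k T) [GradedAlgebra 𝒯] (ψ : T →ₐ[k] R ⊗[k] S)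
    (X : GrLC.GMod.{u} (toAdd 𝒜)) (Y : GrLC.GMod.{u} (toAdd ℬ)) : Type (u + 1) where
  /-- the module -/
  Z : GrLC.GMod.{u} (toAdd 𝒯)
  /-- the presenting map -/
  val : Z.carrier →ₗ[k] X.carrier ⊗[k] Y.carrier
  isSegre : GrSeg.IsSegreMod ψ X.gr Y.gr Z.gr val

theorem nonempty_seg (hT : GrSeg.IsSegreRing 𝒜 ℬ 𝒯 ψ) (X : GrLC.GMod.{u} (toAdd 𝒜))
    (Y : GrLC.GMod.{u} (toAdd ℬ)) : Nonempty (Seg 𝒯 ψ X Y) := by
  letI : Module T (X.carrier ⊗[k] Y.carrier) :=
    Module.compHom (X.carrier ⊗[k] Y.carrier)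
      ((SegreLib.actHom (k := k) R S X.carrier Y.carrier).comp ψ).toRingHom
  let W : Submodule T (X.carrier ⊗[k] Y.carrier) :=
    { carrier := SegreLib.diagPart (k := k) X.gr Y.gr
      add_mem' := fun ha hb => Submodule.add_mem _ ha hb
      zero_mem' := Submodule.zero_mem _
      smul_mem' := fun t x hx => act_mem_diag (psi_diag hT t) hx }
  let 𝒲 : ℤ → AddSubgroup W := fun n =>
    (GrSeg.segrePiece k X.gr Y.gr n).toAddSubgroup.comap W.subtype.toAddMonoidHom
  let q : ℤ → X.carrier ⊗[k] Y.carrier →ₗ[k] X.carrier ⊗[k] Y.carrier := fun n =>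
    TensorProduct.map (SegreLib.proj X.gr (SegreLib.smul_mem_of_mem 𝒜 X.gr) n)
      (SegreLib.proj Y.gr (SegreLib.smul_mem_of_mem ℬ Y.gr) n)
  have hq_self : ∀ n, ∀ x ∈ GrSeg.segrePiece k X.gr Y.gr n, q n x = x := fun n x hx =>
    map_eq_self_of_segrePiece (fun a ha => by rw [SegreLib.proj_of_mem _ _ ha, if_pos rfl])
      (fun b hb => by rw [SegreLib.proj_of_mem _ _ hb, if_pos rfl]) hx
  have hq_ne : ∀ n j, j ≠ n → ∀ x ∈ GrSeg.segrePiece k X.gr Y.gr j, q n x = 0 := fun n j h x hx =>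
    map_eq_zero_of_segrePiece (fun a ha => by rw [SegreLib.proj_of_mem _ _ ha, if_neg h]) hx
  have hqW : ∀ n, ∀ x ∈ W, q n x ∈ W := fun n x hx => by
    refine SegreLib.diagPart_induction X.gr Y.gr (C := fun x => q n x ∈ W)
      (by rw [map_zero]; exact W.zero_mem) (fun x y hx hy => by rw [map_add]; exact W.add_mem hx hy)
      (fun c x hx => by rw [map_smul]; exact Submodule.smul_mem (SegreLib.diagPart (k := k) X.gr Y.gr) c hx)
      (fun j a b ha hb => ?_) hx
    rcases eq_or_ne j n with rfl | h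
    · rw [hq_self j _ (tmul_mem_segrePiece ha hb)]; exact SegreLib.tmul_mem_diagPart _ _ ha hb
    · rw [hq_ne n j h _ (tmul_mem_segrePiece ha hb)]; exact W.zero_mem
  have hint : DirectSum.IsInternal 𝒲 := by
    refine isInternal_of_pr 𝒲 (fun n =>
      { toFun := fun x => ⟨q n x.1, hqW n x.1 x.2⟩
        map_zero' := Subtype.ext (map_zero (q n))
        map_add' := fun a b => Subtype.ext (map_add (q n) a.1 b.1) })
      (fun n x hx => Subtype.ext (hq_self n x.1 hx)) (fun n j x hx h => Subtype.ext (hq_ne n j h x.1 hx))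
      fun x => ?_
    have key : ∀ v ∈ ⨆ n : ℤ, GrSeg.segrePiece k X.gr Y.gr n,
        ∃ y ∈ ⨆ g, 𝒲 g, (y : X.carrier ⊗[k] Y.carrier) = v := fun v hv => by
      induction hv using Submodule.iSup_induction' with
      | mem n v hv => exact ⟨⟨v, segrePiece_le_diagPart n hv⟩, le_iSup 𝒲 n hv, rfl⟩
      | zero => exact ⟨0, zero_mem _, rfl⟩
      | add a b _ _ ha hb =>
        obtain ⟨y, hy, rfl⟩ := ha
        obtain ⟨y', hy', rfl⟩ := hb
        exact ⟨y + y', add_mem hy hy', rfl⟩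
    obtain ⟨y, hy, hxy⟩ := key x.1 x.2
    rwa [← Subtype.ext hxy]
  letI := hint.chooseDecomposition
  haveI : SetLike.GradedSMul (toAdd 𝒯) 𝒲 := ⟨fun {i j t w} ht hw => act_mem_segrePiece (psi_mem hT ht) hw⟩
  refine ⟨{ Z := GrLC.GMod.of (toAdd 𝒯) W 𝒲
            val :=
            { toFun := fun w => w.1
              map_add' := fun a b => rfl
              map_smul' := fun c w => ?_ }
            isSegre := ⟨fun a b h => Subtype.ext h, fun n => ?_, fun t w => rfl⟩ }⟩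
  · show GrSeg.act k R S X.carrier Y.carrier (ψ (algebraMap k T c)) w.1 = c • w.1
    rw [AlgHom.commutes]
    exact LinearMap.congr_fun ((SegreLib.actHom (k := k) R S X.carrier Y.carrier).commutes c) w.1
  · ext x
    exact ⟨fun ⟨w, hw, h⟩ => h ▸ hw, fun hx => ⟨⟨x, segrePiece_le_diagPart n hx⟩, hx, rfl⟩⟩

/-- A chosen Segre product. -/
noncomputable def segG (hT : GrSeg.IsSegreRing 𝒜 ℬ 𝒯 ψ) (X : GrLC.GMod.{u} (toAdd 𝒜))
    (Y : GrLC.GMod.{u} (toAdd ℬ)) : Seg 𝒯 ψ X Y := (nonempty_seg hT X Y).some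

namespace Seg

variable {X X' X'' : GrLC.GMod.{u} (toAdd 𝒜)} {Y Y' Y'' : GrLC.GMod.{u} (toAdd ℬ)}
  (s : Seg 𝒯 ψ X Y) (s' : Seg 𝒯 ψ X' Y') (s'' : Seg 𝒯 ψ X'' Y'')

theorem val_injective : Function.Injective s.val := s.isSegre.injective

theorem val_smul (t : T) (p : s.Z.carrier) :
    s.val (t • p) = GrSeg.act k R S X.carrier Y.carrier (ψ t) (s.val p) := s.isSegre.map_smul t p

theorem val_mem {n : ℤ} {p : s.Z.carrier} (hp : p ∈ s.Z.gr n) : s.val p ∈ GrSeg.segrePiece k X.gr Y.gr n :=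
  (Set.ext_iff.1 (s.isSegre.image_piece n) _).1 ⟨p, hp, rfl⟩

theorem exists_eq_of_mem {n : ℤ} {x : X.carrier ⊗[k] Y.carrier} (hx : x ∈ GrSeg.segrePiece k X.gr Y.gr n) :
    ∃ p ∈ s.Z.gr n, s.val p = x := by
  obtain ⟨p, hp, h⟩ := (Set.ext_iff.1 (s.isSegre.image_piece n) _).2 hx
  exact ⟨p, hp, h⟩

theorem mem_gr_iff {n : ℤ} {p : s.Z.carrier} : p ∈ s.Z.gr n ↔ s.val p ∈ GrSeg.segrePiece k X.gr Y.gr n := by
  refine ⟨s.val_mem, fun h => ?_⟩
  obtain ⟨q, hq, hqp⟩ := s.exists_eq_of_mem h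
  exact s.val_injective hqp ▸ hq

theorem range_val : LinearMap.range s.val = SegreLib.diagPart (k := k) X.gr Y.gr :=
  SegreLib.range_eq_diagPart X.gr Y.gr s.Z.gr s.val s.isSegre.image_piece

theorem map_val_mem {f : X.carrier →ₗ[R] X'.carrier} {g : Y.carrier →ₗ[S] Y'.carrier}
    (hf : GrLC.IsGrHom X.gr X'.gr f) (hg : GrLC.IsGrHom Y.gr Y'.gr g) (p : s.Z.carrier) :
    TensorProduct.map (f.restrictScalars k) (g.restrictScalars k) (s.val p) ∈ LinearMap.range s'.val := by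
  induction p using GrModLib.induction s.Z.gr with
  | h0 => rw [map_zero, map_zero]; exact Submodule.zero_mem _
  | hadd a b ha hb => rw [map_add, map_add]; exact Submodule.add_mem _ ha hb
  | hmem n a ha =>
    rw [s'.range_val]
    exact segrePiece_le_diagPart n (map_mem_segrePiece (fun a => hf n a) (fun b => hg n b) (s.val_mem ha))

omit [GradedAlgebra 𝒯] in
theorem map_act (f : X.carrier →ₗ[R] X'.carrier) (g : Y.carrier →ₗ[S] Y'.carrier) (w : R ⊗[k] S)
    (x : X.carrier ⊗[k] Y.carrier) :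
    TensorProduct.map (f.restrictScalars k) (g.restrictScalars k) (GrSeg.act k R S X.carrier Y.carrier w x) =
      GrSeg.act k R S X'.carrier Y'.carrier w
        (TensorProduct.map (f.restrictScalars k) (g.restrictScalars k) x) := by
  induction w using TensorProduct.induction_on with
  | zero => simp
  | add a b ha hb => simp only [map_add, LinearMap.add_apply, ha, hb]
  | tmul r t =>
    induction x using TensorProduct.induction_on with
    | zero => simp
    | add a b ha hb => simp only [map_add, ha, hb]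
    | tmul m n => simp [GrSeg.act_tmul]

theorem exists_map {f : X.carrier →ₗ[R] X'.carrier} {g : Y.carrier →ₗ[S] Y'.carrier}
    (hf : GrLC.IsGrHom X.gr X'.gr f) (hg : GrLC.IsGrHom Y.gr Y'.gr g) :
    ∃ h : s.Z.carrier →ₗ[T] s'.Z.carrier, GrLC.IsGrHom s.Z.gr s'.Z.gr h ∧
      ∀ p, s'.val (h p) = TensorProduct.map (f.restrictScalars k) (g.restrictScalars k) (s.val p) := by
  choose h hh using s.map_val_mem s' hf hg
  refine ⟨{ toFun := h, map_add' := fun a b => s'.val_injective ?_,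
            map_smul' := fun t a => s'.val_injective ?_ }, fun n a ha => s'.mem_gr_iff.2 ?_, hh⟩
  · rw [map_add, hh, hh, hh, map_add, map_add]
  · rw [RingHom.id_apply, s'.val_smul, hh, hh, s.val_smul, map_act]
  · show s'.val (h a) ∈ _
    rw [hh]
    exact map_mem_segrePiece (fun a => hf n a) (fun b => hg n b) (s.val_mem ha)

/-- The map of Segre products of two homogeneous maps. -/
noncomputable def map {f : X.carrier →ₗ[R] X'.carrier} {g : Y.carrier →ₗ[S] Y'.carrier}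
    (hf : GrLC.IsGrHom X.gr X'.gr f) (hg : GrLC.IsGrHom Y.gr Y'.gr g) : s.Z.carrier →ₗ[T] s'.Z.carrier :=
  (s.exists_map s' hf hg).choose

theorem map_grHom {f : X.carrier →ₗ[R] X'.carrier} {g : Y.carrier →ₗ[S] Y'.carrier}
    (hf : GrLC.IsGrHom X.gr X'.gr f) (hg : GrLC.IsGrHom Y.gr Y'.gr g) :
    GrLC.IsGrHom s.Z.gr s'.Z.gr (s.map s' hf hg) := (s.exists_map s' hf hg).choose_spec.1

theorem val_map {f : X.carrier →ₗ[R] X'.carrier} {g : Y.carrier →ₗ[S] Y'.carrier}
    (hf : GrLC.IsGrHom X.gr X'.gr f) (hg : GrLC.IsGrHom Y.gr Y'.gr g) (p : s.Z.carrier) :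
    s'.val (s.map s' hf hg p) = TensorProduct.map (f.restrictScalars k) (g.restrictScalars k) (s.val p) :=
  (s.exists_map s' hf hg).choose_spec.2 p

end Seg

end SegreLC
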