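import Groth.Agent.SegreLC.Lin
import Groth.Agent.SegreLC.Mod
import Groth.Agent.GrModLib.Graded
import Groth.Agent.GrModLib.Fun

/-! One degree of a resolution and of its torsion-free quotient. -/

set_option autoImplicit false
universe u

open scoped TensorProduct
open DirectSum GrModLib

namespace SegreLC

variable {k : Type u} [Field k] {R : Type u} [CommRing R] [Algebra k R] {𝒜 : ℤ → Submodule k R} [GradedAlgebra 𝒜]

/-- The piece of degree `d`, as a vector space. -/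
def kpiece (X : GrLC.GMod.{u} (toAdd 𝒜)) (d : ℤ) : Submodule k X.carrier where
  carrier := X.gr d
  add_mem' := fun ha hb => add_mem ha hb
  zero_mem' := zero_mem _
  smul_mem' c m hm := SegreLib.smul_mem_of_mem 𝒜 X.gr c d m hm

theorem mem_kpiece {X : GrLC.GMod.{u} (toAdd 𝒜)} {d : ℤ} {x : X.carrier} : x ∈ kpiece X d ↔ x ∈ X.gr d := Iff.rfl

/-- A homogeneous map in one degree. -/
noncomputable def kmap {X Y : GrLC.GMod.{u} (toAdd 𝒜)} {f : X.carrier →ₗ[R] Y.carrier}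
    (hf : GrLC.IsGrHom X.gr Y.gr f) (d : ℤ) : kpiece X d →ₗ[k] kpiece Y d :=
  (f.restrictScalars k).restrict fun x hx => hf d x hx

theorem kmap_val {X Y : GrLC.GMod.{u} (toAdd 𝒜)} {f : X.carrier →ₗ[R] Y.carrier}
    (hf : GrLC.IsGrHom X.gr Y.gr f) {d : ℤ} (x : kpiece X d) : (kmap hf d x).1 = f x.1 := rfl

theorem algebraMap_mem_deg0 (c : k) : algebraMap k R c ∈ toAdd 𝒜 0 := by
  show algebraMap k R c ∈ 𝒜 0
  rw [Algebra.algebraMap_eq_smul_one]
  exact (𝒜 0).smul_mem c SetLike.GradedOne.one_mem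

section Hd

variable {M : GrLC.GMod.{u} (toAdd 𝒜)} (E : GrLC.StarInjRes (toAdd 𝒜) M.gr) (a : HomogeneousIdeal (toAdd 𝒜))

/-- A piece of cohomology, as a vector space. -/
noncomputable def Hd (i : ℕ) (d : ℤ) : Submodule k (E.H a i) where
  carrier := E.Hgr a i d
  add_mem' := fun ha hb => add_mem ha hb
  zero_mem' := zero_mem _
  smul_mem' := by
    rintro c x ⟨z, hz, rfl⟩
    have h1 : (algebraMap k R c • z : E.cocyc a i).1 ∈ (E.X i).gr d := by
      have h := SetLike.GradedSMul.smul_mem (A := toAdd 𝒜) (B := (E.X i).gr) (algebraMap_mem_deg0 (𝒜 := 𝒜) c) hz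
      rwa [vadd_eq_add, zero_add] at h
    refine ⟨algebraMap k R c • z, h1, ?_⟩
    rw [map_smul]
    obtain ⟨z, rfl⟩ : ∃ z', z' = z := ⟨z, rfl⟩
    show algebraMap k R c • Submodule.Quotient.mk z = c • Submodule.Quotient.mk z
    rw [← Submodule.Quotient.mk_smul, ← Submodule.Quotient.mk_smul]
    exact congrArg _ (Subtype.ext rfl)

theorem mem_Hd {i : ℕ} {d : ℤ} {x : E.H a i} : x ∈ Hd E a i d ↔ x ∈ E.Hgr a i d := Iff.rfl

/-- The terms in one degree. -/
abbrev Xd (d : ℤ) (n : ℕ) : Type u := ↥(kpiece (E.X n) d)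

/-- The differential in one degree. -/
noncomputable def dd (d : ℤ) (n : ℕ) : Xd E d n →ₗ[k] Xd E d (n + 1) := kmap (E.d_grHom n) d

/-- The augmentation in one degree. -/
noncomputable def εd (d : ℤ) : kpiece M d →ₗ[k] Xd E d 0 := kmap E.ε_grHom d

/-- The torsion in one degree. -/
noncomputable def Γd (d : ℤ) (n : ℕ) : Submodule k (Xd E d n) :=
  ((GrLC.gam a.toIdeal (E.X n).carrier).restrictScalars k).comap (kpiece (E.X n) d).subtype

theorem mem_Γd {d : ℤ} {n : ℕ} {x : Xd E d n} : x ∈ Γd E a d n ↔ x.1 ∈ GrLC.gam a.toIdeal (E.X n).carrier := Iff.rfl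

/-- The torsion-free quotient in one degree. -/
abbrev X'd (d : ℤ) (n : ℕ) : Type u := Xd E d n ⧸ Γd E a d n

/-- The projection in one degree. -/
noncomputable def qd (d : ℤ) (n : ℕ) : Xd E d n →ₗ[k] X'd E a d n := (Γd E a d n).mkQ

theorem qd_surjective (d : ℤ) (n : ℕ) : Function.Surjective (qd E a d n) := Submodule.mkQ_surjective _

theorem qd_eq_zero {d : ℤ} {n : ℕ} {x : Xd E d n} :
    qd E a d n x = 0 ↔ x.1 ∈ GrLC.gam a.toIdeal (E.X n).carrier :=
  Submodule.Quotient.mk_eq_zero (Γd E a d n)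

/-- The differential of the quotient. -/
noncomputable def dd' (d : ℤ) (n : ℕ) : X'd E a d n →ₗ[k] X'd E a d (n + 1) :=
  (Γd E a d n).mapQ (Γd E a d (n + 1)) (dd E d n) fun _ hx => map_gam a (E.d n) hx

theorem qd_dd (d : ℤ) (n : ℕ) : qd E a d (n + 1) ∘ₗ dd E d n = dd' E a d n ∘ₗ qd E a d n := rfl

theorem dd_comp (d : ℤ) (n : ℕ) : dd E d (n + 1) ∘ₗ dd E d n = 0 :=
  LinearMap.ext fun x => Subtype.ext (LinearMap.congr_fun (d_comp_d E n) x.1)

theorem dd'_comp (d : ℤ) (n : ℕ) : dd' E a d (n + 1) ∘ₗ dd' E a d n = 0 := by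
  refine LinearMap.ext fun x => ?_
  obtain ⟨x, rfl⟩ := qd_surjective E a d n x
  show qd E a d (n + 2) (dd E d (n + 1) (dd E d n x)) = 0
  rw [show dd E d (n + 1) (dd E d n x) = 0 from LinearMap.congr_fun (dd_comp E d n) x, map_zero]

/-- A chosen splitting of the quotient. -/
noncomputable def sd (d : ℤ) : Split (dd' E a d) := (nonempty_split _ (dd'_comp E a d)).some

/-- One degree of a resolution, with its quotient. -/
noncomputable def dSetup (d : ℤ) : Setup (dd E d) (dd' E a d) (qd E a d) (kpiece M d) where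
  ε := εd E d
  sp := sd E a d
  comm n := qd_dd E a d n
  surj n := qd_surjective E a d n
  inj := fun x y h => Subtype.ext (E.ε_injective (congrArg Subtype.val h))
  exact₀ := by
    ext x
    constructor
    · intro hx
      have h1 : x.1 ∈ (E.X 0).gr (d + 0) := by rw [add_zero]; exact x.2
      obtain ⟨y, hy, hyx⟩ := preimage_homogeneous (ε_deg E) h1 (E.exact_zero.le (congrArg Subtype.val hx))
      exact ⟨⟨y, hy⟩, Subtype.ext hyx⟩
    · rintro ⟨y, rfl⟩
      exact LinearMap.mem_ker.2 (Subtype.ext (LinearMap.congr_fun (d_comp_ε E) y.1))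
  exact₁ n := by
    ext x
    constructor
    · intro hx
      have h1 : x.1 ∈ (E.X (n + 1)).gr (d + 0) := by rw [add_zero]; exact x.2
      obtain ⟨y, hy, hyx⟩ := preimage_homogeneous (d_deg E n) h1 ((E.exact_succ n).le (congrArg Subtype.val hx))
      exact ⟨⟨y, hy⟩, Subtype.ext hyx⟩
    · rintro ⟨y, rfl⟩
      exact LinearMap.mem_ker.2 (Subtype.ext (LinearMap.congr_fun (d_comp_d E n) y.1))

/-- Classes of cocycles of one degree, with their values. -/
theorem exists_psi_val (i : ℕ) (d : ℤ) :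
    ∃ Ψ : Zk (dd E d) (qd E a d) i →ₗ[k] Hd E a i d, Function.Surjective Ψ ∧
      LinearMap.ker Ψ = (Bk (dd E d) (qd E a d) i).comap (Zk (dd E d) (qd E a d) i).subtype ∧
      ∀ z hm, (Ψ z).1 = E.toH a i ⟨z.1.1, hm⟩ := by
  have hmem : ∀ z : Zk (dd E d) (qd E a d) i, z.1.1 ∈ E.cocyc a i := fun z =>
    ⟨(qd_eq_zero E a).1 (LinearMap.mem_ker.1 z.2.2),
      LinearMap.mem_ker.2 (congrArg Subtype.val (LinearMap.mem_ker.1 z.2.1))⟩
  let Ψ : Zk (dd E d) (qd E a d) i →ₗ[k] Hd E a i d :=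
    { toFun := fun z => ⟨E.toH a i ⟨z.1.1, hmem z⟩, ⟨z.1.1, hmem z⟩, z.1.2, rfl⟩
      map_add' := fun x y => Subtype.ext (map_add (E.toH a i) (⟨x.1.1, hmem x⟩ : E.cocyc a i) ⟨y.1.1, hmem y⟩)
      map_smul' := fun c x => Subtype.ext rfl }
  refine ⟨Ψ, fun x => ?_, ?_, fun z hm => rfl⟩
  · obtain ⟨w, hw, hwx⟩ := x.2
    exact ⟨⟨⟨w.1, hw⟩, LinearMap.mem_ker.2 (Subtype.ext (LinearMap.mem_ker.1 w.2.2)),
      LinearMap.mem_ker.2 ((Submodule.Quotient.mk_eq_zero _).2 w.2.1)⟩, Subtype.ext hwx⟩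
  · ext z
    rw [LinearMap.mem_ker, Subtype.ext_iff]
    refine (Submodule.Quotient.mk_eq_zero ((E.cobdy a i).comap (E.cocyc a i).subtype)).trans ?_
    show z.1.1 ∈ E.cobdy a i ↔ z.1 ∈ Bk (dd E d) (qd E a d) i
    cases i with
    | zero =>
      show z.1.1 ∈ (⊥ : Submodule R (E.X 0).carrier) ↔ z.1 ∈ (⊥ : Submodule k (Xd E d 0))
      rw [Submodule.mem_bot, Submodule.mem_bot, Subtype.ext_iff]
      rfl
    | succ i =>
      constructor
      · rintro ⟨w, hw, hwz⟩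
        refine ⟨⟨pr (E.X i).gr d w, pr_mem _ d w⟩, (Submodule.Quotient.mk_eq_zero _).2 ?_, Subtype.ext ?_⟩
        · exact gam_isHomogeneous (ℳ := (E.X i).gr) a d hw
        · show E.d i (pr (E.X i).gr d w) = z.1.1
          rw [map_pr (E.d_grHom i), hwz]
          exact pr_self _ z.1.2
      · rintro ⟨w, hw, hwz⟩
        exact ⟨w.1, (qd_eq_zero E a).1 (LinearMap.mem_ker.1 hw), congrArg Subtype.val hwz⟩

/-- Classes of cocycles of one degree. -/
theorem exists_psi (i : ℕ) (d : ℤ) :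
    ∃ Ψ : Zk (dd E d) (qd E a d) i →ₗ[k] Hd E a i d, Function.Surjective Ψ ∧
      LinearMap.ker Ψ = (Bk (dd E d) (qd E a d) i).comap (Zk (dd E d) (qd E a d) i).subtype := by
  obtain ⟨Ψ, hs, hk, -⟩ := exists_psi_val E a i d
  exact ⟨Ψ, hs, hk⟩

end Hd

end SegreLC
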