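import Groth.Agent.SegreLC.Poly
import Groth.Agent.SegreLC.Mod
import Groth.Agent.SegreLC.Crit
import Groth.Agent.SegreLC.Wrap
import Groth.Prelude.Def_GrQuot
import Mathlib

/-! The dimension of a Segre product of modules. -/

set_option autoImplicit false
universe u

open scoped TensorProduct
open DirectSum GrModLib MvPolynomial

namespace SegreLC

variable {k : Type u} [Field k] {R : Type u} [CommRing R] [Algebra k R] {𝒜 : ℤ → Submodule k R} [GradedAlgebra 𝒜]
  {M : Type u} [AddCommGroup M] [Module R M] {τ : Type u} [SetLike τ M] [AddSubgroupClass τ M]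
  {ℳ : ℤ → τ} [DirectSum.Decomposition ℳ] [SetLike.GradedSMul 𝒜 ℳ]

include ℳ in
variable (ℳ) in
theorem isHomog_annihilator : GrQuot.IsHomog 𝒜 (Module.annihilator R M) := by
  classical
  refine ⟨fun i r hr => ?_⟩
  rw [Module.mem_annihilator] at hr ⊢
  have hg : ∀ (g : ℤ) (m : M), m ∈ ℳ g → (decompose 𝒜 r i : R) • m = 0 := by
    intro g m hm
    by_cases hi : i ∈ (decompose 𝒜 r).support
    swap
    · rw [DFinsupp.notMem_support_iff.1 hi, ZeroMemClass.coe_zero, zero_smul]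
    have hmem : ∀ j : ℤ, (decompose 𝒜 r j : R) • m ∈ ℳ (j + g) := fun j =>
      SetLike.GradedSMul.smul_mem (decompose 𝒜 r j).2 hm
    have h0 : ∑ j ∈ (decompose 𝒜 r).support, (decompose 𝒜 r j : R) • m = 0 := by
      rw [← Finset.sum_smul, DirectSum.sum_support_decompose, hr]
    have h1 := congrArg (fun z : M => (decompose ℳ z (i + g) : M)) h0
    rw [decompose_zero, DirectSum.zero_apply, ZeroMemClass.coe_zero, decompose_sum] at h1
    erw [DFinsupp.finsetSum_apply] at h1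
    rw [AddSubmonoidClass.coe_finsetSum, Finset.sum_eq_single i (fun j _ hj => decompose_of_mem_ne ℳ (hmem j) (by omega))
      (fun h => absurd hi h)] at h1
    rwa [decompose_of_mem_same ℳ (hmem i)] at h1
  intro m
  conv_lhs => rw [← DirectSum.sum_support_decompose ℳ m]
  rw [Finset.smul_sum]
  exact Finset.sum_eq_zero fun g _ => hg g _ (decompose ℳ m g).2

include ℳ in
variable (ℳ) in
/-- A normalisation of `R` modulo the annihilator of a module. -/
theorem exists_normalisation_ann [Algebra.FiniteType k R] [Module.Finite R M]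
    (hpos : ∀ n : ℤ, n < 0 → 𝒜 n = ⊥) (h0 : 𝒜 0 = Submodule.span k {(1 : R)}) {r : ℕ}
    (hd : Module.supportDim R M = r) :
    ∃ D : ℕ, 0 < D ∧ ∀ e : ℕ, 0 < e → ∃ x : Fin r → R, (∀ i, x i ∈ 𝒜 ((D * e : ℕ) : ℤ)) ∧
      ((Ideal.Quotient.mkₐ k (Module.annihilator R M)).comp
        (aeval x : MvPolynomial (Fin r) k →ₐ[k] R)).toRingHom.Finite ∧
      Function.Injective ((Ideal.Quotient.mkₐ k (Module.annihilator R M)).comp
        (aeval x : MvPolynomial (Fin r) k →ₐ[k] R)) := by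
  haveI := isHomog_annihilator (𝒜 := 𝒜) ℳ
  let I := Module.annihilator R M
  haveI : Algebra.FiniteType k (R ⧸ I) :=
    Algebra.FiniteType.of_surjective (Ideal.Quotient.mkₐ k I) (Ideal.Quotient.mkₐ_surjective k I)
  obtain ⟨D, hD, h⟩ := SegreLib.exists_normalisation_int (GrQuot.quot 𝒜 I)
    (fun n hn => by rw [GrQuot.quot, hpos n hn, Submodule.map_bot])
    (by rw [GrQuot.quot, h0, Submodule.map_span, Set.image_singleton, AlgHom.toLinearMap_apply, map_one])
    (d := r) ((Module.supportDim_eq_ringKrullDim_quotient_annihilator R M).symm.trans hd)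
  refine ⟨D, hD, fun e he => ?_⟩
  obtain ⟨xb, hxb, hfin, hinj⟩ := h e he
  choose x hx hxe using fun i => (GrQuot.mem_quot_iff 𝒜 I _ _).1 (hxb i)
  have hc : (Ideal.Quotient.mkₐ k I).comp (aeval x : MvPolynomial (Fin r) k →ₐ[k] R) = aeval xb :=
    MvPolynomial.algHom_ext fun i => by simp [hxe]
  refine ⟨x, hx, ?_, ?_⟩
  · rw [hc]; exact hfin
  · rw [hc]; exact hinj

/-- Torsion-freeness over the normalisation. -/
theorem smul_eq_zero_aeval {r : ℕ} (x : Fin r → R)
    (hfin : ((Ideal.Quotient.mkₐ k (Module.annihilator R M)).comp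
        (aeval x : MvPolynomial (Fin r) k →ₐ[k] R)).toRingHom.Finite) (Q : Ideal R) [Q.IsPrime]
    (hI : Module.annihilator R M ≤ Q) (hdim : (r : WithBot ℕ∞) ≤ ringKrullDim (R ⧸ Q)) {m : M}
    (hm : ∀ a : R, a • m = 0 → a ∈ Q) (f : MvPolynomial (Fin r) k) (hf : aeval x f • m = 0) : f = 0 := by
  by_contra hne
  refine aeval_notMem x Q ?_ hdim hne (hm _ hf)
  have h2 : ((Ideal.Quotient.mkₐ k Q).comp (aeval x : MvPolynomial (Fin r) k →ₐ[k] R)).toRingHom =
      (Ideal.Quotient.factor hI).comp ((Ideal.Quotient.mkₐ k (Module.annihilator R M)).comp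
        (aeval x : MvPolynomial (Fin r) k →ₐ[k] R)).toRingHom := RingHom.ext fun _ => rfl
  rw [h2]
  exact (RingHom.Finite.of_surjective _ (Ideal.Quotient.factor_surjective hI)).comp hfin

section CM

variable {A : Type u} [CommRing A] [IsNoetherianRing A] {ℱ : ℤ → AddSubgroup A} [GradedRing ℱ]
  {X : Type u} [AddCommGroup X] [Module A X] [Module.Finite A X] {𝒳 : ℤ → AddSubgroup X}
  [DirectSum.Decomposition 𝒳] [SetLike.GradedSMul ℱ 𝒳]
  {m : HomogeneousIdeal ℱ} [hmax : m.toIdeal.IsMaximal] (htop : ∀ c : HomogeneousIdeal ℱ, c ≠ ⊤ → c ≤ m)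

include htop in
/-- A graded Cohen–Macaulay module is unmixed. -/
theorem exists_ass_dim [Nontrivial X] {r : ℕ} (hd : Module.supportDim A X = r)
    (hcm : LocCoh.IsCohenMacaulayModule (Localization.AtPrime m.toIdeal) (LocalizedModule m.toIdeal.primeCompl X))
    (𝒳 : ℤ → AddSubgroup X) [DirectSum.Decomposition 𝒳] [SetLike.GradedSMul ℱ 𝒳]
    {g : ℤ} {v : X} (hv : v ∈ 𝒳 g) (hv0 : v ≠ 0) :
    ∃ Q : Ideal A, Q.IsPrime ∧ Module.annihilator A X ≤ Q ∧ (r : WithBot ℕ∞) ≤ ringKrullDim (A ⧸ Q) ∧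
      ∀ a : A, a • v = 0 → a ∈ Q := by
  classical
  obtain ⟨g', w, q, hw, hw0, hq, hann, hle⟩ := exists_prime_annihilator (𝒜 := ℱ) 𝒳 hv hv0
  haveI := hq
  have hqm : q.toIdeal ≤ m.toIdeal :=
    htop q fun h => hq.ne_top (by rw [h, HomogeneousIdeal.toIdeal_top])
  refine ⟨q.toIdeal, hq, ?_, ?_, fun a ha => hle (by rwa [Submodule.mem_annihilator_span_singleton])⟩
  · intro a ha
    rw [← hann, Submodule.mem_annihilator_span_singleton]
    exact Module.mem_annihilator.1 ha w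
  · let B := Localization.AtPrime m.toIdeal
    have hd' : CommAlgDim.HasSeqIn (IsLocalRing.maximalIdeal B) (LocalizedModule m.toIdeal.primeCompl X) r :=
      (CommAlgDim.le_depth_iff r).1 (WithBot.coe_le_coe.1
        ((((supportDim_eq_localized (𝒜 := ℱ) 𝒳 htop).symm.trans hd)).symm.le.trans hcm.le))
    have hdisj : Disjoint (m.toIdeal.primeCompl : Set A) q.toIdeal :=
      Set.disjoint_left.mpr fun a ha haq => ha (hqm haq)
    haveI := IsLocalization.isPrime_of_isPrime_disjoint m.toIdeal.primeCompl B q.toIdeal hq hdisj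
    have hQ : q.toIdeal.map (algebraMap A B) ∈ associatedPrimes B (LocalizedModule m.toIdeal.primeCompl X) := by
      rw [AssociatedPrimes.mem_iff, isAssociatedPrime_iff]
      refine ⟨inferInstance, LocalizedModule.mkLinearMap m.toIdeal.primeCompl X w, le_antisymm ?_ fun z hz => ?_⟩
      · refine Ideal.map_le_iff_le_comap.2 fun a ha => ?_
        rw [Ideal.mem_comap, Submodule.mem_colon_singleton, algebraMap_smul, ← map_smul, Submodule.mem_bot]
        rw [← hann, Submodule.mem_annihilator_span_singleton] at ha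
        rw [ha, map_zero]
      · obtain ⟨a, s, rfl⟩ := IsLocalization.exists_mk'_eq m.toIdeal.primeCompl z
        rw [Submodule.mem_colon_singleton, Submodule.mem_bot] at hz
        have h1 : LocalizedModule.mkLinearMap m.toIdeal.primeCompl X (a • w) = 0 := by
          have h2 := congrArg (fun z => algebraMap A B s • z) hz
          rw [smul_zero, ← mul_smul, IsLocalization.mk'_spec', algebraMap_smul, ← map_smul] at h2
          exact h2
        obtain ⟨t, ht⟩ := (IsLocalizedModule.eq_zero_iff m.toIdeal.primeCompl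
          (LocalizedModule.mkLinearMap m.toIdeal.primeCompl X)).1 h1
        have h3 : (t : A) * a ∈ q.toIdeal := by
          rw [← hann, Submodule.mem_annihilator_span_singleton, mul_smul]; exact ht
        exact IsLocalization.mk'_mem_iff.2 (Ideal.mem_map_of_mem _
          ((hq.mem_or_mem h3).resolve_left fun h => t.2 (hqm h)))
    refine (CommAlgDim.depth_le_ringKrullDim_quotient hQ hd').trans
      ((CommAlgDim.ringKrullDim_quotient_map_le q.toIdeal m.toIdeal hqm).trans ?_)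
    haveI : (m.toIdeal.map (Ideal.Quotient.mk q.toIdeal)).IsPrime :=
      Ideal.map_isPrime_of_surjective Ideal.Quotient.mk_surjective (by rw [Ideal.mk_ker]; exact hqm)
    exact Ideal.height_le_ringKrullDim_of_isPrime

end CM

variable {S : Type u} [CommRing S] [Algebra k S] {ℬ : ℤ → Submodule k S} [GradedAlgebra ℬ]
  {N : Type u} [AddCommGroup N] [Module S N] {τ' : Type u} [SetLike τ' N] [AddSubgroupClass τ' N]
  {𝒩 : ℤ → τ'} [DirectSum.Decomposition 𝒩] [SetLike.GradedSMul ℬ 𝒩]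
  {T : Type u} [CommRing T] [Algebra k T] {𝒯 : ℤ → Submodule k T} [GradedAlgebra 𝒯] {ψ : T →ₐ[k] R ⊗[k] S}
  [Module k M] [IsScalarTower k R M] [Module k N] [IsScalarTower k S N]
  {P : Type u} [AddCommGroup P] [Module T P] [Module k P] [IsScalarTower k T P] {τP : Type u} [SetLike τP P]
  [AddSubgroupClass τP P] {𝒬 : ℤ → τP} [DirectSum.Decomposition 𝒬] {φ : P →ₗ[k] M ⊗[k] N}

theorem pos_T (hT : GrSeg.IsSegreRing 𝒜 ℬ 𝒯 ψ) (hposR : ∀ n : ℤ, n < 0 → 𝒜 n = ⊥) (n : ℤ) (hn : n < 0) :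
    𝒯 n = ⊥ := by
  refine (Submodule.eq_bot_iff _).2 fun t ht => hT.1 ?_
  rw [map_zero]
  have h : ψ t ∈ GrSeg.segrePiece k 𝒜 ℬ n := by rw [← hT.2 n]; exact ⟨t, ht, rfl⟩
  have hb : GrSeg.segrePiece k 𝒜 ℬ n = ⊥ := Submodule.span_eq_bot.2 (by
    rintro _ ⟨a, ha, b, -, rfl⟩
    rw [hposR n hn, Submodule.mem_bot] at ha
    rw [ha, TensorProduct.zero_tmul])
  rwa [hb, Submodule.mem_bot] at h

/-- A Noetherian connected graded algebra is of finite type. -/
theorem finiteType_of_pos [IsNoetherianRing T] (hpos : ∀ n : ℤ, n < 0 → 𝒯 n = ⊥)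
    (h0 : 𝒯 0 = Submodule.span k {(1 : T)}) : Algebra.FiniteType k T := by
  classical
  let 𝒩' : ℕ → Submodule k T := fun n => 𝒯 n
  haveI : SetLike.GradedMonoid 𝒩' :=
    { one_mem := (SetLike.GradedOne.one_mem : (1 : T) ∈ 𝒯 0)
      mul_mem := fun i j a b ha hb => by
        have := SetLike.mul_mem_graded (A := 𝒯) ha hb
        show a * b ∈ 𝒯 ((i + j : ℕ) : ℤ)
        rwa [Nat.cast_add] }
  have hint := DirectSum.Decomposition.isInternal 𝒯
  rw [DirectSum.isInternal_submodule_iff_iSupIndep_and_iSup_eq_top] at hint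
  have hint' : DirectSum.IsInternal 𝒩' := by
    rw [DirectSum.isInternal_submodule_iff_iSupIndep_and_iSup_eq_top]
    refine ⟨hint.1.comp Nat.cast_injective, le_antisymm le_top ?_⟩
    rw [← hint.2]
    refine iSup_le fun n => ?_
    rcases lt_or_ge n 0 with h | h
    · rw [hpos n h]; exact bot_le
    · obtain ⟨i, rfl⟩ := Int.eq_ofNat_of_zero_le h
      exact le_iSup 𝒩' i
  letI : DirectSum.Decomposition 𝒩' := hint'.chooseDecomposition
  letI : GradedAlgebra 𝒩' := { }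
  exact SMTLib.finiteType_of_graded 𝒩' fun a ha => exists_scalar h0 (show a ∈ 𝒯 0 from ha)

theorem finiteType_T (hT : GrSeg.IsSegreRing 𝒜 ℬ 𝒯 ψ) [Algebra.FiniteType k R] [Algebra.FiniteType k S]
    (hposR : ∀ n : ℤ, n < 0 → 𝒜 n = ⊥) (h0R : 𝒜 0 = Submodule.span k {(1 : R)})
    (h0S : ℬ 0 = Submodule.span k {(1 : S)}) : Algebra.FiniteType k T := by
  haveI := isNoetherianRing_T hT
  exact finiteType_of_pos (pos_T hT hposR) (exists_scalar_T hT h0R h0S)

include ℳ 𝒩 in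
/-- A Segre product of finite modules is finite. -/
theorem finite_P (hT : GrSeg.IsSegreRing 𝒜 ℬ 𝒯 ψ) (hP : GrSeg.IsSegreMod ψ ℳ 𝒩 𝒬 φ) [Algebra.FiniteType k R] [Algebra.FiniteType k S]
    [Module.Finite R M] [Module.Finite S N] : Module.Finite T P :=
  haveI := SegreLib.isNoetherian_segre 𝒜 ℬ ψ
    (SegreLib.range_eq_diagPart 𝒜 ℬ 𝒯 ψ.toLinearMap fun n => by rw [← Submodule.map_coe, hT.2 n]) ℳ 𝒩 φ
    hP.injective (SegreLib.range_eq_diagPart ℳ 𝒩 𝒬 φ hP.image_piece) hP.map_smul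
  inferInstance

theorem aeval_mk {A : Type u} [CommRing A] [Algebra k A] (I : Ideal A) {n : ℕ} (z : Fin n → A) :
    (aeval (fun i => Ideal.Quotient.mk I (z i)) : MvPolynomial (Fin n) k →ₐ[k] A ⧸ I) =
      (Ideal.Quotient.mkₐ k I).comp (aeval z) :=
  MvPolynomial.algHom_ext fun i => by simp

theorem image_quot (hT : GrSeg.IsSegreRing 𝒜 ℬ 𝒯 ψ) (I : Ideal R) (J : Ideal S) (n : ℤ) :
    (((Algebra.TensorProduct.map (Ideal.Quotient.mkₐ k I) (Ideal.Quotient.mkₐ k J)).comp ψ).toLinearMap) ''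
        (𝒯 n : Set T) = (GrSeg.segrePiece k (GrQuot.quot 𝒜 I) (GrQuot.quot ℬ J) n : Set _) := by
  rw [← Submodule.map_coe, show ((Algebra.TensorProduct.map (Ideal.Quotient.mkₐ k I) (Ideal.Quotient.mkₐ k J)).comp
      ψ).toLinearMap = (Algebra.TensorProduct.map (Ideal.Quotient.mkₐ k I) (Ideal.Quotient.mkₐ k J)).toLinearMap ∘ₗ
      ψ.toLinearMap from rfl, Submodule.map_comp, hT.2 n, GrSeg.segrePiece, Submodule.map_span]
  refine congrArg _ (congrArg _ (Set.ext fun z => ⟨?_, ?_⟩))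
  · rintro ⟨_, ⟨a, ha, b, hb, rfl⟩, rfl⟩
    exact ⟨_, GrQuot.mk_mem_quot 𝒜 I ha, _, GrQuot.mk_mem_quot ℬ J hb, Algebra.TensorProduct.map_tmul ..⟩
  · rintro ⟨_, ⟨a, ha, rfl⟩, _, ⟨b, hb, rfl⟩, rfl⟩
    exact ⟨a ⊗ₜ b, ⟨a, ha, b, hb, rfl⟩, Algebra.TensorProduct.map_tmul ..⟩

theorem dim_range_segre {A B : Type u} [CommRing A] [Algebra k A] [CommRing B] [Algebra k B]
    {𝒜' : ℤ → Submodule k A} [GradedAlgebra 𝒜'] {ℬ' : ℤ → Submodule k B} [GradedAlgebra ℬ']
    (f : T →ₐ[k] A ⊗[k] B) (himg : ∀ n : ℤ, f.toLinearMap '' (𝒯 n : Set T) = (GrSeg.segrePiece k 𝒜' ℬ' n : Set _))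
    {r s : ℕ} (x : Fin (r + 1) → A) (y : Fin (s + 1) → B) {D : ℤ} (hD : 0 < D)
    (hx : ∀ i, x i ∈ 𝒜' D) (hy : ∀ j, y j ∈ ℬ' D)
    (hfx : (aeval x : MvPolynomial (Fin (r + 1)) k →ₐ[k] A).toRingHom.Finite)
    (hfy : (aeval y : MvPolynomial (Fin (s + 1)) k →ₐ[k] B).toRingHom.Finite)
    (hix : Function.Injective (aeval x : MvPolynomial (Fin (r + 1)) k →ₐ[k] A))
    (hiy : Function.Injective (aeval y : MvPolynomial (Fin (s + 1)) k →ₐ[k] B)) :
    ringKrullDim f.range = ((r + 1 + s : ℕ) : WithBot ℕ∞) := by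
  refine SegreLib.ringKrullDim_segre 𝒜' ℬ' x y hD hx hy hfx hfy hix hiy f.range.val Subtype.val_injective ?_
  rw [← SegreLib.range_eq_diagPart 𝒜' ℬ' 𝒯 f.toLinearMap himg]
  ext z
  exact ⟨fun ⟨w, hw⟩ => hw ▸ w.2, fun hz => ⟨⟨z, hz⟩, rfl⟩⟩

/-- The action factors through the quotients by the annihilators. -/
theorem exists_act_factor : ∃ (σ : R ⧸ Module.annihilator R M →ₗ[k] R) (σ' : S ⧸ Module.annihilator S N →ₗ[k] S),
    ∀ w, GrSeg.act k R S M N w = GrSeg.act k R S M N (TensorProduct.map σ σ'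
      (Algebra.TensorProduct.map (Ideal.Quotient.mkₐ k (Module.annihilator R M))
        (Ideal.Quotient.mkₐ k (Module.annihilator S N)) w)) := by
  let I := Module.annihilator R M
  let J := Module.annihilator S N
  obtain ⟨σ, hσ⟩ := (Ideal.Quotient.mkₐ k I).toLinearMap.exists_rightInverse_of_surjective
    (LinearMap.range_eq_top.2 (Ideal.Quotient.mkₐ_surjective k I))
  obtain ⟨σ', hσ'⟩ := (Ideal.Quotient.mkₐ k J).toLinearMap.exists_rightInverse_of_surjective
    (LinearMap.range_eq_top.2 (Ideal.Quotient.mkₐ_surjective k J))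
  have ha : ∀ (a : R) (m : M), a • m = σ (Ideal.Quotient.mk I a) • m := fun a m => by
    rw [← sub_eq_zero, ← sub_smul]
    exact Module.mem_annihilator.1 (Ideal.Quotient.eq.1 (LinearMap.congr_fun hσ (Ideal.Quotient.mk I a)).symm) m
  have hb : ∀ (b : S) (n : N), b • n = σ' (Ideal.Quotient.mk J b) • n := fun b n => by
    rw [← sub_eq_zero, ← sub_smul]
    exact Module.mem_annihilator.1 (Ideal.Quotient.eq.1 (LinearMap.congr_fun hσ' (Ideal.Quotient.mk J b)).symm) n
  refine ⟨σ, σ', fun w => ?_⟩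
  induction w using TensorProduct.induction_on with
  | zero => simp only [map_zero]
  | add a b ha' hb' => simp only [map_add]; rw [← ha', ← hb']
  | tmul a b =>
    refine TensorProduct.ext' fun m n => ?_
    rw [Algebra.TensorProduct.map_tmul, TensorProduct.map_tmul, GrSeg.act_tmul, GrSeg.act_tmul, ha a m, hb b n]
    rfl

include ℳ 𝒩 in
/-- The upper bound. -/
theorem supportDim_segre_le (hT : GrSeg.IsSegreRing 𝒜 ℬ 𝒯 ψ) (hP : GrSeg.IsSegreMod ψ ℳ 𝒩 𝒬 φ)
    [Algebra.FiniteType k R] [Algebra.FiniteType k S]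
    (hposR : ∀ n : ℤ, n < 0 → 𝒜 n = ⊥) (h0R : 𝒜 0 = Submodule.span k {(1 : R)})
    (hposS : ∀ n : ℤ, n < 0 → ℬ n = ⊥) (h0S : ℬ 0 = Submodule.span k {(1 : S)})
    [Module.Finite R M] [Module.Finite S N] {r s : ℕ} (hdM : Module.supportDim R M = (r + 1 : ℕ))
    (hdN : Module.supportDim S N = (s + 1 : ℕ)) :
    Module.supportDim T P ≤ ((r + 1 + s : ℕ) : WithBot ℕ∞) := by
  haveI := isHomog_annihilator (𝒜 := 𝒜) ℳ
  haveI := isHomog_annihilator (𝒜 := ℬ) 𝒩
  let I := Module.annihilator R M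
  let J := Module.annihilator S N
  let π := Algebra.TensorProduct.map (Ideal.Quotient.mkₐ k I) (Ideal.Quotient.mkₐ k J)
  let χ : T →ₐ[k] (R ⧸ I) ⊗[k] (S ⧸ J) := π.comp ψ
  obtain ⟨D₁, hD₁, hR⟩ := exists_normalisation_ann (𝒜 := 𝒜) ℳ hposR h0R hdM
  obtain ⟨D₂, hD₂, hS⟩ := exists_normalisation_ann (𝒜 := ℬ) 𝒩 hposS h0S hdN
  obtain ⟨x, hx, hfx, hix⟩ := hR D₂ hD₂
  obtain ⟨y, hy, hfy, hiy⟩ := hS D₁ hD₁
  have hy' : ∀ j, y j ∈ ℬ ((D₁ * D₂ : ℕ) : ℤ) := fun j => (Nat.mul_comm D₂ D₁) ▸ hy j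
  have hdim : ringKrullDim χ.range = ((r + 1 + s : ℕ) : WithBot ℕ∞) :=
    dim_range_segre χ (image_quot hT I J) (fun i => Ideal.Quotient.mk I (x i)) (fun j => Ideal.Quotient.mk J (y j))
      (D := ((D₁ * D₂ : ℕ) : ℤ)) (Int.natCast_pos.2 (Nat.mul_pos hD₁ hD₂))
      (fun i => GrQuot.mk_mem_quot 𝒜 I (hx i)) (fun j => GrQuot.mk_mem_quot ℬ J (hy' j))
      (by rw [aeval_mk]; exact hfx) (by rw [aeval_mk]; exact hfy) (by rw [aeval_mk]; exact hix) (by rw [aeval_mk]; exact hiy)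
  obtain ⟨σ, σ', hact⟩ := exists_act_factor (k := k) (R := R) (S := S) (M := M) (N := N)
  have hker : RingHom.ker χ.toRingHom ≤ Module.annihilator T P := fun t ht => by
    refine Module.mem_annihilator.2 fun p => hP.injective ?_
    rw [hP.map_smul, hact, show π (ψ t) = 0 from ht, map_zero, map_zero, LinearMap.zero_apply, map_zero]
  haveI := isNoetherianRing_T hT
  haveI := gradedSMul_of_isSegreMod hT ℳ 𝒩 𝒬 hP
  haveI : Module.Finite T P := finite_P hT hP
  rw [Module.supportDim_eq_ringKrullDim_quotient_annihilator, ← hdim]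
  refine (ringKrullDim_le_of_surjective (Ideal.Quotient.factor hker) (Ideal.Quotient.factor_surjective _)).trans
    (le_of_eq ?_)
  exact ringKrullDim_eq_of_ringEquiv
    ((RingHom.quotientKerEquivRange χ.toRingHom).trans (RingEquiv.subringCongr (t := χ.range.toSubring) (SetLike.ext fun z => Iff.rfl)))

end SegreLC
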