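import Groth.Agent.SegreLC.TopLin
import Groth.Agent.SegreLC.Dim

/-! The top local cohomology of a Segre product is the Segre product of the top local cohomologies. -/

set_option autoImplicit false
set_option maxHeartbeats 1000000
universe u

open scoped TensorProduct
open DirectSum GrModLib

namespace SegreLC

variable {k : Type u} [Field k] {R S T : Type u} [CommRing R] [Algebra k R] [CommRing S] [Algebra k S]
  [CommRing T] [Algebra k T] {𝒜 : ℤ → Submodule k R} [GradedAlgebra 𝒜] {ℬ : ℤ → Submodule k S} [GradedAlgebra ℬ]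
  {𝒯 : ℤ → Submodule k T} [GradedAlgebra 𝒯] {ψ : T →ₐ[k] R ⊗[k] S}

/-- Elements of a piece of a Segre ring are built from pure tensors. -/
theorem piece_induction_T (hT : GrSeg.IsSegreRing 𝒜 ℬ 𝒯 ψ) {i : ℤ} {P : T → Prop} (h0 : P 0)
    (hadd : ∀ x y, P x → P y → P (x + y)) (hsmul : ∀ (c : k) x, P x → P (c • x))
    (hpure : ∀ t ∈ 𝒯 i, ∀ a ∈ 𝒜 i, ∀ b ∈ ℬ i, ψ t = a ⊗ₜ b → P t) {t : T} (ht : t ∈ 𝒯 i) : P t := by
  have hex : ∀ w ∈ GrSeg.segrePiece k 𝒜 ℬ i, ∃ t ∈ 𝒯 i, ψ t = w := fun w hw => by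
    rw [← hT.2 i] at hw
    exact Submodule.mem_map.1 hw
  suffices h : ∀ w ∈ GrSeg.segrePiece k 𝒜 ℬ i, ∀ t ∈ 𝒯 i, ψ t = w → P t from h _ (psi_mem hT ht) t ht rfl
  intro w hw
  induction hw using Submodule.span_induction with
  | mem w hw =>
    obtain ⟨a, ha, b, hb, rfl⟩ := hw
    exact fun t ht h => hpure t ht a ha b hb h
  | zero => intro t _ h; rwa [hT.1 (h.trans (map_zero ψ).symm)]
  | add x y hx hy ihx ihy =>
    intro t _ h
    obtain ⟨t₁, ht₁, e₁⟩ := hex x hx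
    obtain ⟨t₂, ht₂, e₂⟩ := hex y hy
    rw [hT.1 (h.trans (show x + y = ψ (t₁ + t₂) by rw [map_add, e₁, e₂]))]
    exact hadd _ _ (ihx t₁ ht₁ e₁) (ihy t₂ ht₂ e₂)
  | smul c x hx ihx =>
    intro t _ h
    obtain ⟨t₁, ht₁, e₁⟩ := hex x hx
    rw [hT.1 (h.trans (show c • x = ψ (c • t₁) by rw [map_smul, e₁]))]
    exact hsmul c _ (ihx t₁ ht₁ e₁)

theorem harmonic_eq_zero {M : GrLC.GMod.{u} (toAdd 𝒜)} (E : GrLC.StarInjRes (toAdd 𝒜) M.gr)
    (aR : HomogeneousIdeal (toAdd 𝒜)) (d : ℤ) {a : ℕ} (h : ∀ i, a + 2 < i → Subsingleton (Hd E aR i d)) (i : ℕ)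
    (hi : a + 1 < i) : (dSetup E aR d).sp.e i = 0 := by
  obtain ⟨j, rfl⟩ : ∃ j, i = j + 1 := ⟨i - 1, by omega⟩
  haveI := h (j + 2) (by omega)
  haveI := (nonempty_harmonic E aR d j).some.injective.subsingleton
  exact LinearMap.range_eq_bot.1 ((Submodule.subsingleton_iff_eq_bot).1 inferInstance)

/-- A homogeneous element moves elements with torsion differential. -/
theorem smul_mem_Wk {M : GrLC.GMod.{u} (toAdd 𝒜)} {E : GrLC.StarInjRes (toAdd 𝒜) M.gr}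
    {aR : HomogeneousIdeal (toAdd 𝒜)} {a : ℕ} {i d : ℤ} {r : R} (u : Setup.Wk (dd E d) (qd E aR d) a)
    {u' : Xd E (i + d) (a + 1)} (h : u'.1 = r • u.1.1) :
    u' ∈ Setup.Wk (dd E (i + d)) (qd E aR (i + d)) a := by
  have h1 : E.d (a + 1) u'.1 = r • (dd E d (a + 1) u.1).1 := by rw [h, map_smul]; rfl
  refine ⟨LinearMap.mem_ker.2 (Subtype.ext (LinearMap.congr_fun (d_comp_d E (a + 1)) u'.1)),
    LinearMap.mem_ker.2 ((qd_eq_zero E aR).2 ?_)⟩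
  show E.d (a + 1) u'.1 ∈ GrLC.gam aR.toIdeal (E.X (a + 2)).carrier
  rw [h1]
  exact Submodule.smul_mem _ r ((qd_eq_zero E aR).1 (LinearMap.mem_ker.1 u.2.2))

/-- The cohomology class of the differential of an element with torsion differential. -/
noncomputable def clsH {M : GrLC.GMod.{u} (toAdd 𝒜)} (E : GrLC.StarInjRes (toAdd 𝒜) M.gr)
    (aR : HomogeneousIdeal (toAdd 𝒜)) (a : ℕ) (d : ℤ) (u : Setup.Wk (dd E d) (qd E aR d) a) : E.H aR (a + 2) :=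
  E.toH aR (a + 2) ⟨(dd E d (a + 1) u.1).1, (qd_eq_zero E aR).1 (LinearMap.mem_ker.1 u.2.2),
    LinearMap.mem_ker.2 (congrArg Subtype.val (LinearMap.mem_ker.1 u.2.1))⟩

/-- The class of a differential is linear over the ring. -/
theorem clsH_smul {M : GrLC.GMod.{u} (toAdd 𝒜)} {E : GrLC.StarInjRes (toAdd 𝒜) M.gr}
    {aR : HomogeneousIdeal (toAdd 𝒜)} {a : ℕ} {i d : ℤ} {r : R} (u : Setup.Wk (dd E d) (qd E aR d) a)
    (u' : Setup.Wk (dd E (i + d)) (qd E aR (i + d)) a) (h : u'.1.1 = r • u.1.1) :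
    clsH E aR a (i + d) u' = r • clsH E aR a d u := by
  rw [clsH, clsH, ← map_smul]
  refine congrArg _ (Subtype.ext ?_)
  show E.d (a + 1) u'.1.1 = r • E.d (a + 1) u.1.1
  rw [h, map_smul]

/-- The value of the class of a differential. -/
theorem cls_val {M : GrLC.GMod.{u} (toAdd 𝒜)} {E : GrLC.StarInjRes (toAdd 𝒜) M.gr}
    {aR : HomogeneousIdeal (toAdd 𝒜)} {a : ℕ} {d : ℤ} {Ψ : Zk (dd E d) (qd E aR d) (a + 2) →ₗ[k] Hd E aR (a + 2) d}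
    (hΨ : ∀ z hm, (Ψ z).1 = E.toH aR (a + 2) ⟨z.1.1, hm⟩) (u : Setup.Wk (dd E d) (qd E aR d) a) :
    (Setup.cls Ψ u).1 = clsH E aR a d u :=
  hΨ ⟨dd E d (a + 1) u.1, u.2⟩ _

/-- Every class comes from an element with torsion differential. -/
theorem exists_clsH {M : GrLC.GMod.{u} (toAdd 𝒜)} (E : GrLC.StarInjRes (toAdd 𝒜) M.gr)
    (aR : HomogeneousIdeal (toAdd 𝒜)) (a : ℕ) (d : ℤ) (h : Hd E aR (a + 2) d) :
    ∃ u, h.1 = clsH E aR a d u := by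
  obtain ⟨Ψ, hs, -, hΨ⟩ := exists_psi_val E aR (a + 2) d
  obtain ⟨u, rfl⟩ := Setup.cls_surjective (X := Xd E d) (dSetup E aR d) hs h
  exact ⟨u, hΨ _ _⟩

variable (hT : GrSeg.IsSegreRing 𝒜 ℬ 𝒯 ψ) {M : GrLC.GMod.{u} (toAdd 𝒜)} {N : GrLC.GMod.{u} (toAdd ℬ)}
  (EM : GrLC.StarInjRes (toAdd 𝒜) M.gr) (EN : GrLC.StarInjRes (toAdd ℬ) N.gr) (s : Seg 𝒯 ψ M N)
  (F : GrLC.StarInjRes (toAdd 𝒯) s.Z.gr)
  {mR : HomogeneousIdeal 𝒜} {mS : HomogeneousIdeal ℬ} {mT : HomogeneousIdeal 𝒯}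
  (hmR : mR.toIdeal = Ideal.span (⋃ n ∈ Set.Ioi (0 : ℤ), (𝒜 n : Set R)))
  (hmS : mS.toIdeal = Ideal.span (⋃ n ∈ Set.Ioi (0 : ℤ), (ℬ n : Set S)))
  (hmT : mT.toIdeal = Ideal.span (⋃ n ∈ Set.Ioi (0 : ℤ), (𝒯 n : Set T)))

/-- A homogeneous element of the Segre ring moves one bidegree of the total complex. -/
theorem smul_J_ins {i d : ℤ} {t : T} {r : R} {r' : S} (ht : ψ t = r ⊗ₜ r') {p q n : ℕ} (h : p + q = n)
    (u : Xd EM d p) (v : Xd EN d q) (u' : Xd EM (i + d) p) (v' : Xd EN (i + d) q)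
    (hu : u'.1 = r • u.1) (hv : v'.1 = r' • v.1) :
    t • J hT EM EN d n (ins p q n h (u ⊗ₜ[k] v)) = J hT EM EN (i + d) n (ins p q n h (u' ⊗ₜ[k] v')) := by
  refine Subtype.ext (funext fun i₁ => funext fun j₁ => ?_)
  show t • (J hT EM EN d n (ins p q n h (u ⊗ₜ[k] v))).1 i₁ j₁ = _
  rw [J_val, J_val]
  by_cases hij : i₁ = p ∧ j₁ = q
  · obtain ⟨rfl, rfl⟩ := hij
    rw [ins_same, ins_same]
    apply (Zs hT EM EN i₁ j₁).val_injective
    rw [Seg.val_smul, Seg.val_lift, Seg.val_lift, TensorProduct.map_tmul, TensorProduct.map_tmul, ht,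
      GrSeg.act_tmul, Submodule.subtype_apply, Submodule.subtype_apply, Submodule.subtype_apply,
      Submodule.subtype_apply, hu, hv]
  · rw [ins_ne h _ (not_and_or.1 hij), ins_ne h _ (not_and_or.1 hij), map_zero, map_zero, smul_zero]

/-- The top class in one degree. -/
theorem exists_top_deg {H : Type u} [AddCommGroup H]
    [Module k H] (a b : ℕ) (d : ℤ) (aR : HomogeneousIdeal (toAdd 𝒜)) (aS : HomogeneousIdeal (toAdd ℬ))
    (Ψ : Zk (C := TC EM EN d) (C' := TC' EM EN aR aS d) (TD EM EN d) (TQ EM EN aR aS d) (a + 1 + b + 1 + 1) →ₗ[k] H)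
    (hs : Function.Surjective Ψ)
    (hk : LinearMap.ker Ψ = (Bk (C := TC EM EN d) (C' := TC' EM EN aR aS d) (TD EM EN d) (TQ EM EN aR aS d)
      (a + 1 + b + 1 + 1)).comap
        (Zk (C := TC EM EN d) (C' := TC' EM EN aR aS d) (TD EM EN d) (TQ EM EN aR aS d) (a + 1 + b + 1 + 1)).subtype)
    (ΨM : Zk (dd EM d) (qd EM aR d) (a + 2) →ₗ[k] Hd EM aR (a + 2) d) (hsM : Function.Surjective ΨM)
    (hkM : LinearMap.ker ΨM = (Bk (dd EM d) (qd EM aR d) (a + 2)).comap (Zk (dd EM d) (qd EM aR d) (a + 2)).subtype)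
    (ΨN : Zk (dd EN d) (qd EN aS d) (b + 2) →ₗ[k] Hd EN aS (b + 2) d) (hsN : Function.Surjective ΨN)
    (hkN : LinearMap.ker ΨN = (Bk (dd EN d) (qd EN aS d) (b + 2)).comap (Zk (dd EN d) (qd EN aS d) (b + 2)).subtype)
    (hM : ∀ i, a + 2 < i → Subsingleton (Hd EM aR i d)) (hN : ∀ i, b + 2 < i → Subsingleton (Hd EN aS i d)) :
    ∃ Ω : Hd EM aR (a + 2) d ⊗[k] Hd EN aS (b + 2) d →ₗ[k] H, Function.Bijective Ω ∧
      ∀ (u : Setup.Wk (dd EM d) (qd EM aR d) a) (v : Setup.Wk (dd EN d) (qd EN aS d) b) hm,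
        Ω (Setup.cls ΨM u ⊗ₜ Setup.cls ΨN v) = Ψ ⟨TD EM EN d (a + 1 + b + 1)
          (ins (X := Xd EM d) (Y := Xd EN d) (a + 1) (b + 1) (a + 1 + b + 1) rfl (u.1 ⊗ₜ[k] v.1)), hm⟩ := by
  have e1 := @Setup.exists_top k _ (Xd EM d) _ _ (Xd EN d) _ _ (X'd EM aR d) _ _ (X'd EN aS d) _ _
    (kpiece M d) (kpiece N d) _ _ _ _ (dd EM d) (dd EN d) (dd' EM aR d) (dd' EN aS d) (qd EM aR d) (qd EN aS d)
    (dSetup EM aR d) (dSetup EN aS d) (Hd EM aR (a + 2) d) (Hd EN aS (b + 2) d) H _ _ _ _ _ _ a b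
  have e3 := @e1 ΨM ΨN Ψ hsM hkM hsN hkN hk
  clear e1
  have hsX := harmonic_eq_zero EM aR d hM
  have hsY := harmonic_eq_zero EN aS d hN
  refine e3.elim fun Ω h => ?_
  exact ⟨Ω, ⟨h.2.1, h.2.2 hsX hsY hs⟩, fun u v hm => h.1 u v⟩

include hmR hmS hmT in
/-- Tensors of classes are cocycles. -/
theorem top_cocyc [IsNoetherianRing R] [IsNoetherianRing S] [IsNoetherianRing T] {a b : ℕ} {d : ℤ}
    (u : Setup.Wk (dd EM d) (qd EM (toAddIdeal mR) d) a) (v : Setup.Wk (dd EN d) (qd EN (toAddIdeal mS) d) b) :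
    J hT EM EN d (a + 1 + b + 1 + 1)
      (TD EM EN d (a + 1 + b + 1) (ins (a + 1) (b + 1) (a + 1 + b + 1) rfl (u.1 ⊗ₜ[k] v.1))) ∈
    acCocyc (toAddIdeal mT).toIdeal (fun n => (totG hT EM EN n).carrier) (dG hT EM EN) (a + 1 + b + 1 + 1) := by
  have hz := Setup.top_mem (X := Xd EM d) (Y := Xd EN d) (X' := X'd EM (toAddIdeal mR) d)
    (Y' := X'd EN (toAddIdeal mS) d) (dSetup EM (toAddIdeal mR) d) (dSetup EN (toAddIdeal mS) d) u v
  refine ⟨(J_mem_gam_iff hT EM EN hmR hmS hmT d _).2 (LinearMap.mem_ker.1 hz.2), LinearMap.mem_ker.2 ?_⟩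
  rw [J_totD, LinearMap.mem_ker.1 hz.1, map_zero]

include hmR hmS hmT in
/-- The top class in one degree, from the comparison. -/
theorem exists_top_phi [IsNoetherianRing R] [IsNoetherianRing S] [IsNoetherianRing T] (a b : ℕ)
    (φ : acCocyc (toAddIdeal mT).toIdeal (fun n => (totG hT EM EN n).carrier) (dG hT EM EN) (a + 1 + b + 1 + 1) →ₗ[T]
        F.H (toAddIdeal mT) (a + 1 + b + 1 + 1)) (hφs : Function.Surjective φ)
    (hφk : LinearMap.ker φ = (acCobdy (toAddIdeal mT).toIdeal (fun n => (totG hT EM EN n).carrier) (dG hT EM EN)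
        (a + 1 + b + 1 + 1)).comap
        (acCocyc (toAddIdeal mT).toIdeal (fun n => (totG hT EM EN n).carrier) (dG hT EM EN) (a + 1 + b + 1 + 1)).subtype)
    (hφd : ∀ g z, z.1 ∈ (totG hT EM EN (a + 1 + b + 1 + 1)).gr g →
      φ z ∈ F.Hgr (toAddIdeal mT) (a + 1 + b + 1 + 1) g) (d : ℤ)
    (hM : ∀ i, a + 2 < i → Subsingleton (Hd EM (toAddIdeal mR) i d))
    (hN : ∀ i, b + 2 < i → Subsingleton (Hd EN (toAddIdeal mS) i d)) :
    ∃ Ω : Hd EM (toAddIdeal mR) (a + 2) d ⊗[k] Hd EN (toAddIdeal mS) (b + 2) d →ₗ[k]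
        Hd F (toAddIdeal mT) (a + 1 + b + 1 + 1) d, Function.Bijective Ω ∧
      ∀ u v h h' hm, h.1 = clsH EM (toAddIdeal mR) a d u → h'.1 = clsH EN (toAddIdeal mS) b d v →
        (Ω (h ⊗ₜ h')).1 = φ ⟨J hT EM EN d (a + 1 + b + 1 + 1)
          (TD EM EN d (a + 1 + b + 1) (ins (a + 1) (b + 1) (a + 1 + b + 1) rfl (u.1 ⊗ₜ[k] v.1))), hm⟩ := by
  have hT' := exists_psi_of hT EM EN s hmR hmS hmT F (a + 1 + b + 1 + 1) φ hφs hφk hφd d
  have hM' := exists_psi_val EM (toAddIdeal mR) (a + 2) d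
  have hN' := exists_psi_val EN (toAddIdeal mS) (b + 2) d
  refine hT'.elim fun Ψ hΨ => hM'.elim fun ΨM hΨM => hN'.elim fun ΨN hΨN => ?_
  refine (exists_top_deg EM EN a b d (toAddIdeal mR) (toAddIdeal mS) Ψ hΨ.1 hΨ.2.1 ΨM hΨM.1 hΨM.2.1 ΨN hΨN.1
    hΨN.2.1 hM hN).elim fun Ω hΩ => ⟨Ω, hΩ.1, ?_⟩
  intro u v h h' hm e e'
  have eh : h = Setup.cls ΨM u := Subtype.ext (e.trans (cls_val hΨM.2.2 u).symm)
  have eh' : h' = Setup.cls ΨN v := Subtype.ext (e'.trans (cls_val hΨN.2.2 v).symm)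
  rw [eh, eh']
  exact (congrArg Subtype.val (hΩ.2 u v (Setup.top_mem (X := Xd EM d) (Y := Xd EN d)
    (X' := X'd EM (toAddIdeal mR) d) (Y' := X'd EN (toAddIdeal mS) d)
    (dSetup EM (toAddIdeal mR) d) (dSetup EN (toAddIdeal mS) d) u v))).trans (hΨ.2.2 _ _)

include hmR hmS hmT in
/-- The top classes commute with the Segre ring. -/
theorem top_natural [IsNoetherianRing R] [IsNoetherianRing S] [IsNoetherianRing T] {a b : ℕ}
    (φ : acCocyc (toAddIdeal mT).toIdeal (fun n => (totG hT EM EN n).carrier) (dG hT EM EN) (a + 1 + b + 1 + 1) →ₗ[T]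
        F.H (toAddIdeal mT) (a + 1 + b + 1 + 1))
    (Ω : ∀ d, Hd EM (toAddIdeal mR) (a + 2) d ⊗[k] Hd EN (toAddIdeal mS) (b + 2) d →ₗ[k]
        Hd F (toAddIdeal mT) (a + 1 + b + 1 + 1) d)
    (hΩ : ∀ d u v h h' hm, h.1 = clsH EM (toAddIdeal mR) a d u → h'.1 = clsH EN (toAddIdeal mS) b d v →
        (Ω d (h ⊗ₜ h')).1 = φ ⟨J hT EM EN d (a + 1 + b + 1 + 1)
          (TD EM EN d (a + 1 + b + 1) (ins (a + 1) (b + 1) (a + 1 + b + 1) rfl (u.1 ⊗ₜ[k] v.1))), hm⟩)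
    {i d : ℤ} {t : T} {r : R} {r' : S} (hr : r ∈ 𝒜 i) (hr' : r' ∈ ℬ i) (ht : ψ t = r ⊗ₜ r')
    (h : Hd EM (toAddIdeal mR) (a + 2) d) (h' : Hd EN (toAddIdeal mS) (b + 2) d)
    (g : Hd EM (toAddIdeal mR) (a + 2) (i + d)) (g' : Hd EN (toAddIdeal mS) (b + 2) (i + d))
    (hg : g.1 = r • h.1) (hg' : g'.1 = r' • h'.1) : t • (Ω d (h ⊗ₜ h')).1 = (Ω (i + d) (g ⊗ₜ g')).1 := by
  refine (exists_clsH EM (toAddIdeal mR) a d h).elim fun u hu => ?_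
  refine (exists_clsH EN (toAddIdeal mS) b d h').elim fun v hv => ?_
  let u₀ : Xd EM (i + d) (a + 1) := ⟨r • u.1.1, (EM.X (a + 1)).gsmul.smul_mem hr u.1.2⟩
  let v₀ : Xd EN (i + d) (b + 1) := ⟨r' • v.1.1, (EN.X (b + 1)).gsmul.smul_mem hr' v.1.2⟩
  let u' : Setup.Wk (dd EM (i + d)) (qd EM (toAddIdeal mR) (i + d)) a := ⟨u₀, smul_mem_Wk u (r := r) rfl⟩
  let v' : Setup.Wk (dd EN (i + d)) (qd EN (toAddIdeal mS) (i + d)) b := ⟨v₀, smul_mem_Wk v (r := r') rfl⟩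
  have hu' : g.1 = clsH EM (toAddIdeal mR) a (i + d) u' := by rw [hg, hu]; exact (clsH_smul u u' rfl).symm
  have hv' : g'.1 = clsH EN (toAddIdeal mS) b (i + d) v' := by rw [hg', hv]; exact (clsH_smul v v' rfl).symm
  have hm := top_cocyc hT EM EN hmR hmS hmT u v
  have hm' := top_cocyc hT EM EN hmR hmS hmT u' v'
  rw [hΩ d u v h h' hm hu hv, hΩ (i + d) u' v' g g' hm' hu' hv']
  refine (map_smul φ t ⟨_, hm⟩).symm.trans (congrArg φ (Subtype.ext ?_))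
  refine (congrArg (t • ·) (J_totD hT EM EN d _).symm).trans (Eq.trans ?_ (J_totD hT EM EN (i + d) _))
  refine ((dG hT EM EN _).map_smul t _).symm.trans ?_
  exact congrArg _ (smul_J_ins hT EM EN ht rfl u.1 v.1 u₀ v₀ rfl rfl)


include hT hmR hmS hmT in
/-- The top local cohomology, degree by degree and with the action of the Segre ring. -/
theorem exists_top_classes [IsNoetherianRing R] [IsNoetherianRing S] [IsNoetherianRing T] (a b : ℕ)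
    (hM : ∀ i, a + 2 < i → ∀ d, Subsingleton (Hd EM (toAddIdeal mR) i d))
    (hN : ∀ i, b + 2 < i → ∀ d, Subsingleton (Hd EN (toAddIdeal mS) i d)) :
    ∃ Ω : ∀ d, Hd EM (toAddIdeal mR) (a + 2) d ⊗[k] Hd EN (toAddIdeal mS) (b + 2) d →ₗ[k]
        Hd F (toAddIdeal mT) (a + 1 + b + 1 + 1) d,
      (∀ d, Function.Bijective (Ω d)) ∧
      ∀ (i d : ℤ) (t : T) (r : R) (r' : S), r ∈ 𝒜 i → r' ∈ ℬ i → ψ t = r ⊗ₜ r' →
        ∀ (h : Hd EM (toAddIdeal mR) (a + 2) d) (h' : Hd EN (toAddIdeal mS) (b + 2) d)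
          (g : Hd EM (toAddIdeal mR) (a + 2) (i + d)) (g' : Hd EN (toAddIdeal mS) (b + 2) (i + d)),
          g.1 = r • h.1 → g'.1 = r' • h'.1 → t • (Ω d (h ⊗ₜ h')).1 = (Ω (i + d) (g ⊗ₜ g')).1 := by
  have hφ := exists_phi_tot hT EM EN s (toAddIdeal mR) (toAddIdeal mS) hmT F (a + 1 + b + 1 + 1)
  refine hφ.elim fun φ hφ => ?_
  have hΩ' := fun d => exists_top_phi hT EM EN s F hmR hmS hmT a b φ hφ.1 hφ.2.1 hφ.2.2 d
    (fun i hi => hM i hi d) (fun i hi => hN i hi d)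
  have hΩ := fun d => (hΩ' d).choose_spec.2
  refine ⟨fun d => (hΩ' d).choose, fun d => (hΩ' d).choose_spec.1, ?_⟩
  intro i d t r r' hr hr' ht h h' g g' hg hg'
  exact top_natural hT EM EN s F hmR hmS hmT φ (fun d => (hΩ' d).choose) hΩ hr hr' ht h h' g g' hg hg'

end SegreLC
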