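import Groth.Agent.SegreLC.DimOne
import Groth.Agent.SegreLC.Top
import Groth.Agent.SegreLC.Dual
import Groth.Agent.SegreLC.RingCase
import Groth.Agent.SegreLC.Perfect
import Groth.Agent.GorLib.FieldExt
import Groth.Agent.GorLib.Socle

/-! Gorenstein Segre products of rings of dimension one. -/

set_option autoImplicit false
set_option maxHeartbeats 1000000
universe u

open scoped TensorProduct
open DirectSum GrModLib

namespace SegreLC

/-- The socle of a Gorenstein quotient by a regular element: two socle elements are proportional modulo `m`. -/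
theorem socCyclic_quotient {T : Type u} [CommRing T] [LocCoh.IsGorensteinRing T] {t : T}
    (ht : ∀ x, t * x = 0 → x = 0) (M : Ideal T) [hM : M.IsMaximal] (htM : t ∈ M)
    (hnil : ∀ r ∈ M, ∃ j : ℕ, r ^ j ∈ Ideal.span {t}) :
    ∃ s : T, (∀ r ∈ M, r * s ∈ Ideal.span {t}) ∧
      ∀ x : T, (∀ r ∈ M, r * x ∈ Ideal.span {t}) → ∃ b, x - b * s ∈ Ideal.span {t} := by
  classical
  let π := Ideal.Quotient.mk (Ideal.span {t})
  have hB : LocCoh.IsGorensteinRing (T ⧸ Ideal.span {t}) :=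
    GorLib.gorensteinRing_of_surjective_span_singleton inferInstance π Ideal.Quotient.mk_surjective
      (Ideal.mk_ker) ht
  have hJ : Ideal.span {t} ≤ M := (Ideal.span_singleton_le_iff_mem _).2 htM
  haveI : Nontrivial (T ⧸ Ideal.span {t}) := Ideal.Quotient.nontrivial_iff.2 (ne_top_of_le_ne_top hM.ne_top hJ)
  have huniq : ∀ P : Ideal (T ⧸ Ideal.span {t}), P.IsPrime → P = M.map π := fun P hP => by
    have hle : M ≤ P.comap π := fun r hr => by
      obtain ⟨j, hj⟩ := hnil r hr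
      refine Ideal.mem_comap.2 (hP.mem_of_pow_mem j ?_)
      rw [← map_pow, Ideal.Quotient.eq_zero_iff_mem.2 hj]
      exact zero_mem P
    haveI := hP
    rw [hM.eq_of_le (Ideal.comap_ne_top _ hP.ne_top) hle,
      Ideal.map_comap_of_surjective π Ideal.Quotient.mk_surjective]
  haveI : IsLocalRing (T ⧸ Ideal.span {t}) := IsLocalRing.of_unique_max_ideal ⟨M.map π, by
    obtain ⟨P, hP⟩ := Ideal.exists_maximal (T ⧸ Ideal.span {t})
    exact huniq P hP.isPrime ▸ hP, fun P hP => huniq P hP.isPrime⟩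
  haveI : Ring.KrullDimLE 0 (T ⧸ Ideal.span {t}) := Ring.KrullDimLE.mk₀ fun P hP => by
    rw [huniq P hP, ← huniq (IsLocalRing.maximalIdeal _) inferInstance]
    exact IsLocalRing.maximalIdeal.isMaximal _
  haveI := hB
  haveI : IsNoetherianRing (T ⧸ Ideal.span {t}) := inferInstance
  haveI : IsArtinianRing (T ⧸ Ideal.span {t}) := IsNoetherianRing.isArtinianRing_of_krullDimLE_zero
  let P := IsLocalRing.maximalIdeal (T ⧸ Ideal.span {t})
  have hloc : LocCoh.IsGorensteinLocalRing (T ⧸ Ideal.span {t}) := by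
    refine GorLib.gorenstein_of_ringEquiv
      (IsLocalization.atUnits (T ⧸ Ideal.span {t}) P.primeCompl (S := Localization.AtPrime P) fun x hx => ?_).toRingEquiv
      (hB.isGorensteinLocalRing_localization P)
    exact IsLocalRing.notMem_maximalIdeal.1 hx
  obtain ⟨s, -, hs, hgen⟩ := GorLib.gorenstein_iff_socCyclic.1 hloc
  obtain ⟨s, rfl⟩ := Ideal.Quotient.mk_surjective s
  have hP : P = M.map π := huniq P inferInstance
  refine ⟨s, fun r hr => ?_, fun x hx => ?_⟩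
  · rw [← Ideal.Quotient.eq_zero_iff_mem, map_mul]
    exact hs _ (show π r ∈ P by rw [hP]; exact Ideal.mem_map_of_mem π hr)
  · obtain ⟨b, hb⟩ := Ideal.mem_span_singleton'.1 (hgen (π x) fun a ha => by
      have ha' : a ∈ M.map π := hP ▸ ha
      obtain ⟨r, hr, rfl⟩ := (Ideal.mem_map_iff_of_surjective π Ideal.Quotient.mk_surjective).1 ha'
      rw [← map_mul]
      exact Ideal.Quotient.eq_zero_iff_mem.2 (hx r hr))
    obtain ⟨b, rfl⟩ := Ideal.Quotient.mk_surjective b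
    refine ⟨b, ?_⟩
    rw [← Ideal.Quotient.eq_zero_iff_mem, map_sub, map_mul, hb, sub_self]

variable {k : Type u} [Field k] {R : Type u} [CommRing R] [Algebra k R] {𝒜 : ℤ → Submodule k R} [GradedAlgebra 𝒜]
  [Algebra.FiniteType k R] (hpos : ∀ n : ℤ, n < 0 → 𝒜 n = ⊥) (h0 : 𝒜 0 = Submodule.span k {(1 : R)})
  (hstd : Ideal.span (⋃ n ∈ Set.Ioi (0 : ℤ), (𝒜 n : Set R)) = Ideal.span ((𝒜 1 : Submodule k R) : Set R))

omit [Algebra.FiniteType k R] in
include hpos h0 in
/-- If the highest degree of the quotient by a regular element is socle, it is a line. -/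
theorem gor_top_line [LocCoh.IsGorensteinRing R] [Nontrivial R] {D N : ℕ} {t : R} (hD : 0 < D) (ht : t ∈ 𝒜 (D : ℤ))
    (htr : ∀ x, t * x = 0 → x = 0) (hhigh : ∀ n : ℤ, (N : ℤ) < n → ∀ a ∈ 𝒜 n, a ∈ Ideal.span {t}) :
    ∃ s : R, ∀ a ∈ 𝒜 (N : ℤ), ∃ l : k, a - l • s ∈ Ideal.span {t} := by
  classical
  let M := posIdeal' 𝒜
  have hM : M.toIdeal = Ideal.span (⋃ n ∈ Set.Ioi (0 : ℤ), (𝒜 n : Set R)) := rfl
  haveI : M.toIdeal.IsMaximal := by
    have := isMaximal_pos hpos h0 hM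
    rwa [toAddIdeal_toIdeal] at this
  have hrad : M.toIdeal ≤ (Ideal.span {t}).radical := by
    rw [hM, Ideal.span_le]
    intro r hr
    simp only [Set.mem_iUnion₂] at hr
    obtain ⟨i, hi, hr⟩ := hr
    exact ⟨N + 1, hhigh ((N + 1) • i) (by
      rw [nsmul_eq_mul]
      have : (1 : ℤ) ≤ i := hi
      push_cast
      nlinarith) _ (SetLike.pow_mem_graded (A := 𝒜) (N + 1) hr)⟩
  have htM : t ∈ M.toIdeal := by
    rw [hM]; exact Ideal.subset_span (Set.mem_biUnion (Set.mem_Ioi.2 (Int.natCast_pos.2 hD)) ht)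
  obtain ⟨s, hs, hgen⟩ := socCyclic_quotient htr M.toIdeal htM fun r hr => hrad hr
  refine ⟨s, fun a ha => ?_⟩
  have hsoc : ∀ r ∈ M.toIdeal, r * a ∈ Ideal.span {t} := fun r hr => by
    rw [hM] at hr
    induction hr using Submodule.span_induction with
    | mem r hr =>
      simp only [Set.mem_iUnion₂] at hr
      obtain ⟨i, hi, hr⟩ := hr
      exact hhigh (i + N) (by have : (1 : ℤ) ≤ i := hi; omega) _ (SetLike.mul_mem_graded (A := 𝒜) hr ha)
    | zero => rw [zero_mul]; exact zero_mem _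
    | add x y _ _ hx hy => rw [add_mul]; exact add_mem hx hy
    | smul c x _ hx => rw [smul_eq_mul, mul_assoc]; exact Ideal.mul_mem_left _ c hx
  obtain ⟨b, hb⟩ := hgen a hsoc
  obtain ⟨l, hl⟩ := exists_scalar h0 (decompose 𝒜 b 0).2
  refine ⟨l, ?_⟩
  have h1 := hs _ (sub_decompose_mem (m := M) hpos h0 hM b)
  rw [show a - l • s = (a - b * s) + (b - (decompose 𝒜 b 0 : R)) * s by rw [Algebra.smul_def, hl]; ring]
  exact add_mem hb h1

omit [Algebra.FiniteType k R] in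
theorem pow_one_le (i : ℕ) : (𝒜 1) ^ i ≤ 𝒜 (i : ℤ) := by
  induction i with
  | zero =>
    rw [pow_zero, Nat.cast_zero]
    exact Submodule.one_le.2 SetLike.GradedOne.one_mem
  | succ i ih =>
    rw [pow_succ']
    refine Submodule.mul_le.2 fun a ha b hb => ?_
    have := SetLike.mul_mem_graded (A := 𝒜) ha (ih hb)
    rwa [add_comm, ← Nat.cast_one (R := ℤ), ← Nat.cast_add] at this

omit [GradedAlgebra 𝒜] [Algebra.FiniteType k R] in
theorem pow_le_span_pow (j : ℕ) :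
    (𝒜 1) ^ j ≤ ((Ideal.span ((𝒜 1 : Submodule k R) : Set R)) ^ j).restrictScalars k := by
  induction j with
  | zero => intro z _; simp
  | succ j ih =>
    rw [pow_succ']
    refine Submodule.mul_le.2 fun a ha b hb => ?_
    rw [Submodule.restrictScalars_mem, pow_succ']
    exact Ideal.mul_mem_mul (Ideal.subset_span ha) (ih hb)

include hpos h0 in
/-- Multiplication by a regular element is onto in large degrees. -/
theorem exists_onto (hd : ringKrullDim R = 1) {D : ℕ} {x : R} (hD : 0 < D) (hx : x ∈ 𝒜 (D : ℤ))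
    (hxr : IsSMulRegular R x)
    (hstd : Ideal.span (⋃ n ∈ Set.Ioi (0 : ℤ), (𝒜 n : Set R)) = Ideal.span ((𝒜 1 : Submodule k R) : Set R)) :
    ∃ σ : ℕ, ∀ n : ℤ, (σ : ℤ) ≤ n → ∀ a ∈ 𝒜 (n + D), ∃ b ∈ 𝒜 n, x * b = a := by
  classical
  haveI : IsNoetherianRing R := Algebra.FiniteType.isNoetherianRing k R
  let M := ofG 𝒜 R 𝒜
  let u : M.carrier →ₗ[R] M.carrier := x • LinearMap.id
  have hu : GrLC.IsGrHomDeg M.gr M.gr u (D : ℤ) := fun g z hz => by
    rw [add_comm]; exact smul_mem (toAdd 𝒜) M.gr (show x ∈ toAdd 𝒜 (D : ℤ) from hx) hz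
  let N := quotG (toAdd 𝒜) (ℳ := M.gr) (LinearMap.range u) (range_isHomogeneous_deg hu)
  haveI : Module.Finite R M.carrier := (inferInstance : Module.Finite R R)
  haveI : Module.Finite R N.carrier := finite_quotG M (LinearMap.range u) (range_isHomogeneous_deg hu)
  have hxne : x ∈ nonZeroDivisors R :=
    mem_nonZeroDivisors_iff_right.2 fun z hz => hxr (show x • z = x • (0 : R) by
      rw [smul_zero, smul_eq_mul, mul_comm]; exact hz)
  have hdim : Module.supportDim R N.carrier ≤ ((0 : ℕ) : WithBot ℕ∞) := by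
    have h1 := ringKrullDim_quotient_succ_le_of_nonZeroDivisor hxne
    rw [hd] at h1
    have h2 : Module.supportDim R N.carrier = ringKrullDim (R ⧸ Ideal.span {x}) := by
      rw [← Module.supportDim_quotient_eq_ringKrullDim]
      refine Module.supportDim_eq_of_equiv (Submodule.quotEquivOfEq (LinearMap.range u) (Ideal.span {x}) ?_)
      ext z
      rw [Ideal.mem_span_singleton']
      exact ⟨fun ⟨b, hb⟩ => ⟨b, (mul_comm (G := R) b x).trans hb⟩, fun ⟨b, hb⟩ => ⟨b, (mul_comm (G := R) x b).trans hb⟩⟩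
    rw [h2]
    exact le_zero_of_add_one_le h1
  have hg := gam_eq_top_of_supportDim (toAdd_pos hpos) N hdim
  obtain ⟨j, hj⟩ := hg.ge (Submodule.mem_top : (LinearMap.range u).mkQ (1 : R) ∈ ⊤)
  refine ⟨j, fun n hn a ha => ?_⟩
  have hpow : a ∈ (posIdeal (toAdd 𝒜)).toIdeal ^ j := by
    have h1 : ((𝒜 1) ^ ((n + D).toNat)) ≤ ((Ideal.span ((𝒜 1 : Submodule k R) : Set R)) ^ j).restrictScalars k := by
      obtain ⟨e, he⟩ : ∃ e, (n + D).toNat = j + e := ⟨(n + D).toNat - j, by omega⟩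
      rw [he, pow_add]
      exact Submodule.mul_le.2 fun p hp q _ => Ideal.mul_mem_right q _ (pow_le_span_pow j hp)
    have h2 := h1 (piece_le_pow hpos h0 hstd (n + D).toNat (by rwa [Int.toNat_of_nonneg (by omega)]))
    rw [posIdeal_toIdeal]
    show a ∈ Ideal.span (⋃ n ∈ Set.Ioi (0 : ℤ), (𝒜 n : Set R)) ^ j
    rw [hstd]
    exact h2
  have h3 : (LinearMap.range u).mkQ (a * 1 : R) = 0 :=
    ((LinearMap.range u).mkQ.map_smul a (1 : R)).trans (hj a hpow)
  obtain ⟨b, hb, hb'⟩ := preimage_homogeneous (ℳ := M.gr) hu (show a * 1 ∈ M.gr (n + D) by rw [mul_one]; exact ha)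
    ((Submodule.Quotient.mk_eq_zero _).1 h3)
  exact ⟨b, hb, hb'.trans (mul_one a)⟩

include hpos h0 hstd in
/-- A ring with a line in a positive degree is polynomial. -/
theorem nonempty_polynomial_of_line [Nontrivial R] {m D : ℕ} (hm : 0 < m) (hD : 0 < D) {x : R}
    (hx : x ∈ 𝒜 (D : ℤ)) (hxr : IsSMulRegular R x) {w : R} (hw : w ∈ 𝒜 (m : ℤ))
    (hline : ∀ a ∈ 𝒜 (m : ℤ), ∃ c : k, c • w = a) : Nonempty (R ≃ₐ[k] Polynomial k) := by
  have hwr : IsSMulRegular R w := by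
    have hxm : x ^ m ∈ (𝒜 1) ^ (D * m) := by
      refine piece_le_pow hpos h0 hstd (D * m) ?_
      have := SetLike.pow_mem_graded (A := 𝒜) m hx
      rwa [nsmul_eq_mul, mul_comm, ← Nat.cast_mul] at this
    have hle : (𝒜 1) ^ m ≤ Submodule.span k {w} := by
      refine (pow_one_le m).trans fun a ha => ?_
      obtain ⟨c, rfl⟩ := hline a ha
      exact Submodule.smul_mem _ c (Submodule.mem_span_singleton_self w)
    rw [mul_comm, pow_mul] at hxm
    have h := pow_le_pow_left' hle D hxm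
    rw [Submodule.span_pow, Set.singleton_pow] at h
    obtain ⟨c, hc⟩ := Submodule.mem_span_singleton.1 h
    refine isSMulRegular_iff_right_eq_zero_of_smul.2 fun b hb => ?_
    refine (hxr.pow m).right_eq_zero_of_smul ?_
    obtain ⟨e, rfl⟩ : ∃ e, D = e + 1 := ⟨D - 1, by omega⟩
    rw [smul_eq_mul] at hb
    rw [smul_eq_mul, ← hc, smul_mul_assoc, pow_succ, mul_assoc, hb, mul_zero, smul_zero]
  refine nonempty_polynomial hpos h0 hstd hm hw hwr fun n hn a ha => ?_
  obtain ⟨n, rfl⟩ := Int.eq_ofNat_of_zero_le hn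
  suffices h : a ∈ (𝒜 (n : ℤ)).map (LinearMap.mulLeft k w) by
    obtain ⟨b, hb, hb'⟩ := h
    exact ⟨b, hb, hb'⟩
  have h1 := piece_le_pow hpos h0 hstd (n + m) (by push_cast; exact ha)
  rw [pow_add] at h1
  refine Submodule.mul_le.2 (fun p hp q hq => ?_) h1
  have hmem : ∀ (i : ℕ) (z : R), z ∈ (𝒜 1) ^ i → z ∈ 𝒜 (i : ℤ) := fun i z hz => pow_one_le i hz
  obtain ⟨c, rfl⟩ := hline q (hmem m q hq)
  exact ⟨c • p, Submodule.smul_mem _ c (hmem n p hp), by rw [LinearMap.mulLeft_apply]; simp [mul_comm]⟩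

include hpos h0 hstd in
/-- In a ring that is not polynomial there are two independent elements in each positive degree. -/
theorem exists_pair [Nontrivial R] {m D : ℕ} (hm : 0 < m) (hD : 0 < D) {x : R}
    (hx : x ∈ 𝒜 (D : ℤ)) (hxr : IsSMulRegular R x) (hR : IsEmpty (R ≃ₐ[k] Polynomial k)) :
    ∃ v ∈ 𝒜 (m : ℤ), ∃ w ∈ 𝒜 (m : ℤ), ∀ a b : k, a • v + b • w = 0 → a = 0 ∧ b = 0 := by
  have hno : ∀ v ∈ 𝒜 (m : ℤ), ∃ w ∈ 𝒜 (m : ℤ), ∀ c : k, c • v ≠ w := fun v hv => by
    by_contra hcon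
    push Not at hcon
    exact hR.false (nonempty_polynomial_of_line hpos h0 hstd hm hD hx hxr hv hcon).some
  obtain ⟨v, hv, hvc⟩ := hno 0 (zero_mem _)
  obtain ⟨w, hw, hwc⟩ := hno v hv
  refine ⟨v, hv, w, hw, fun a b h => ?_⟩
  have hb : b = 0 := by
    by_contra hb
    refine hwc (-(b⁻¹ * a)) ?_
    rw [neg_smul, mul_smul, eq_neg_of_add_eq_zero_left h, smul_neg, neg_neg, inv_smul_smul₀ hb]
  subst hb
  rw [zero_smul, add_zero, smul_eq_zero] at h
  exact ⟨h.resolve_right fun hv0 => hvc 0 (by rw [zero_smul, hv0]), rfl⟩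

include hpos h0 hstd in
/-- The degree from which on multiplication by a regular element is onto. -/
theorem exists_break (hd : ringKrullDim R = 1) (hR : IsEmpty (R ≃ₐ[k] Polynomial k)) [Nontrivial R] {D : ℕ} {x : R}
    (hD : 0 < D) (hx : x ∈ 𝒜 (D : ℤ)) (hxr : IsSMulRegular R x) :
    ∃ σ : ℕ, 0 < σ ∧ (∀ n : ℤ, (σ : ℤ) ≤ n → ∀ a ∈ 𝒜 (n + D), ∃ b ∈ 𝒜 n, x * b = a) ∧
      ∃ u ∈ 𝒜 ((σ : ℤ) - 1 + D), u ∉ Ideal.span {x} := by
  classical
  have hex := exists_onto hpos h0 hd hD hx hxr hstd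
  have hσ := Nat.find_spec hex
  have hσ0 : Nat.find hex ≠ 0 := fun e => hR.false (nonempty_polynomial hpos h0 hstd hD hx hxr (fun n hn =>
    hσ n (by rw [e]; exact hn))).some
  refine ⟨Nat.find hex, Nat.pos_of_ne_zero hσ0, hσ, ?_⟩
  by_contra hcon
  push Not at hcon
  refine Nat.find_min hex (Nat.sub_lt (Nat.pos_of_ne_zero hσ0) one_pos) fun n hn a ha => ?_
  rcases lt_or_ge n ((Nat.find hex : ℤ)) with h | h
  · obtain rfl : n = (Nat.find hex : ℤ) - 1 := by omega
    obtain ⟨b, hb⟩ := Ideal.mem_span_singleton'.1 (hcon a ha)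
    refine ⟨decompose 𝒜 b ((Nat.find hex : ℤ) - 1), SetLike.coe_mem _, ?_⟩
    have h1 := congrArg (fun z => (decompose 𝒜 z ((D : ℤ) + ((Nat.find hex : ℤ) - 1)) : R)) hb
    rw [mul_comm b x, DirectSum.coe_decompose_mul_add_of_left_mem 𝒜 hx] at h1
    rw [h1]
    exact decompose_of_mem_same 𝒜 (by rwa [add_comm] at ha)
  · exact hσ n h a ha

variable {S : Type u} [CommRing S] [Algebra k S]

/-- A tensor of elements outside the multiples is not a multiple of a tensor. -/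
theorem tmul_notMem {x u : R} {y z : S} (hu : u ∉ Ideal.span {x}) (hz : z ≠ 0) (b : R ⊗[k] S) :
    u ⊗ₜ[k] z ≠ x ⊗ₜ[k] y * b := by
  intro e
  obtain ⟨f, hf, hfx⟩ := Submodule.exists_dual_map_eq_bot_of_notMem
    (p := (Ideal.span {x}).restrictScalars k) (x := u) hu inferInstance
  obtain ⟨g, hg⟩ := exists_dual_ne (k := k) hz
  let Φ : R ⊗[k] S →ₗ[k] k := (TensorProduct.lid k k).toLinearMap ∘ₗ TensorProduct.map f g
  have h0 : ∀ b, Φ (x ⊗ₜ[k] y * b) = 0 := fun b => by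
    clear e
    induction b using TensorProduct.induction_on with
    | zero => rw [mul_zero, map_zero]
    | tmul p q =>
      rw [Algebra.TensorProduct.tmul_mul_tmul]
      have : f (x * p) = 0 := (Submodule.eq_bot_iff _).1 hfx _
        ⟨x * p, Ideal.mul_mem_right p _ (Ideal.mem_span_singleton_self x), rfl⟩
      simp [Φ, this]
    | add p q hp hq => rw [mul_add, map_add, hp, hq, add_zero]
  have h1 := h0 b
  rw [← e] at h1
  simp [Φ] at h1
  tauto

/-- A tensor of regular elements is regular. -/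
theorem tmul_regular {x : R} {y : S} (hx : IsSMulRegular R x) (hy : IsSMulRegular S y) (b : R ⊗[k] S)
    (h : x ⊗ₜ[k] y * b = 0) : b = 0 := by
  have h1 : Function.Injective (LinearMap.rTensor S (LinearMap.mulLeft k x)) :=
    Module.Flat.rTensor_preserves_injective_linearMap _ fun a b e => hx e
  have h2 : Function.Injective (LinearMap.lTensor R (LinearMap.mulLeft k y)) :=
    Module.Flat.lTensor_preserves_injective_linearMap _ fun a b e => hy e
  refine h2 (h1 ?_)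
  rw [map_zero, map_zero, ← h]
  clear h
  induction b using TensorProduct.induction_on with
  | zero => simp
  | tmul p q => simp
  | add p q hp hq => rw [map_add, map_add, hp, hq, mul_add]

section Segre

variable {ℬ : ℤ → Submodule k S} [GradedAlgebra ℬ] [Algebra.FiniteType k S] {T : Type u} [CommRing T] [Algebra k T]
  {𝒯 : ℤ → Submodule k T} [GradedAlgebra 𝒯] {ψ : T →ₐ[k] R ⊗[k] S} (hT : GrSeg.IsSegreRing 𝒜 ℬ 𝒯 ψ)
  (hposS : ∀ n : ℤ, n < 0 → ℬ n = ⊥) (h0S : ℬ 0 = Submodule.span k {(1 : S)})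
  (hstdS : Ideal.span (⋃ n ∈ Set.Ioi (0 : ℤ), (ℬ n : Set S)) = Ideal.span ((ℬ 1 : Submodule k S) : Set S))

include hT hpos h0 hstd hposS h0S hstdS in
/-- A Gorenstein Segre product of dimension one has a polynomial factor. -/
theorem polynomial_of_gorenstein [LocCoh.IsCohenMacaulayRing R] [LocCoh.IsCohenMacaulayRing S]
    [LocCoh.IsGorensteinRing T] (hr : ringKrullDim R = 1) (hs : ringKrullDim S = 1)
    (hR : IsEmpty (R ≃ₐ[k] Polynomial k)) : Nonempty (S ≃ₐ[k] Polynomial k) := by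
  classical
  by_contra hS
  rw [not_nonempty_iff] at hS
  haveI : Nontrivial R := nontrivial_of_dim1 hr
  haveI : Nontrivial S := nontrivial_of_dim1 hs
  haveI : Nontrivial T := nontrivial_T hT
  obtain ⟨D₁, x₁, hD₁, hx₁, hxr₁⟩ := exists_regular_one hpos h0 hr inferInstance
  obtain ⟨D₂, y₂, hD₂, hy₂, hyr₂⟩ := exists_regular_one hposS h0S hs inferInstance
  let D := D₁ * D₂
  have hD : 0 < D := Nat.mul_pos hD₁ hD₂
  let x := x₁ ^ D₂
  let y := y₂ ^ D₁
  have hx : x ∈ 𝒜 (D : ℤ) := by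
    have := SetLike.pow_mem_graded (A := 𝒜) D₂ hx₁
    rwa [nsmul_eq_mul, mul_comm, ← Nat.cast_mul] at this
  have hy : y ∈ ℬ (D : ℤ) := by
    have := SetLike.pow_mem_graded (A := ℬ) D₁ hy₂
    rwa [nsmul_eq_mul, ← Nat.cast_mul] at this
  have hxr : IsSMulRegular R x := hxr₁.pow D₂
  have hyr : IsSMulRegular S y := hyr₂.pow D₁
  obtain ⟨σ₁, hσ₁, h₁, u₁, hu₁, hu₁'⟩ := exists_break hpos h0 hstd hr hR hD hx hxr
  obtain ⟨σ₂, hσ₂, h₂, u₂, hu₂, hu₂'⟩ := exists_break hposS h0S hstdS hs hS hD hy hyr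
  have hex : ∀ (i : ℤ) (a : R) (b : S), a ∈ 𝒜 i → b ∈ ℬ i → ∃ t ∈ 𝒯 i, ψ t = a ⊗ₜ b := fun i a b ha hb => by
    have : a ⊗ₜ[k] b ∈ (𝒯 i).map ψ.toLinearMap := hT.2 i ▸ Submodule.subset_span ⟨a, ha, b, hb, rfl⟩
    exact Submodule.mem_map.1 this
  obtain ⟨t, ht, hψt⟩ := hex _ x y hx hy
  let N := max σ₁ σ₂ - 1 + D
  have hhigh : ∀ n : ℤ, (N : ℤ) < n → ∀ a ∈ 𝒯 n, a ∈ Ideal.span {t} := fun n hn a ha => by
    refine piece_induction_T hT (P := fun a => a ∈ Ideal.span {t}) (zero_mem _) (fun _ _ => add_mem)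
      (fun c z hz => by rw [Algebra.smul_def]; exact Ideal.mul_mem_left _ _ hz) (fun a _ p hp q hq e => ?_) ha
    obtain ⟨p', hp', rfl⟩ := h₁ (n - D) (by omega) p (by rwa [sub_add_cancel])
    obtain ⟨q', hq', rfl⟩ := h₂ (n - D) (by omega) q (by rwa [sub_add_cancel])
    obtain ⟨a', -, ha'⟩ := hex _ p' q' hp' hq'
    refine Ideal.mem_span_singleton'.2 ⟨a', hT.1 ?_⟩
    rw [map_mul, ha', hψt, e, Algebra.TensorProduct.tmul_mul_tmul, mul_comm p', mul_comm q']
  obtain ⟨s, hs'⟩ := gor_top_line (R := T) (𝒜 := 𝒯) (pos_T hT hpos) (exists_scalar_T hT h0 h0S)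
    (D := D) (N := N) hD ht
    (fun b hb => hT.1 ((tmul_regular hxr hyr (ψ b) (by rw [← hψt, ← map_mul, hb, map_zero])).trans (map_zero ψ).symm))
    hhigh
  -- two socle elements
  obtain ⟨t₁, t₂, ht₁, ht₂, hind⟩ : ∃ t₁ t₂, t₁ ∈ 𝒯 (N : ℤ) ∧ t₂ ∈ 𝒯 (N : ℤ) ∧
      ∀ α β : k, α • t₁ + β • t₂ ∈ Ideal.span {t} → α = 0 ∧ β = 0 := by
    rcases le_total σ₂ σ₁ with h | h
    · have hN : (N : ℤ) = (σ₁ : ℤ) - 1 + D := by
        have : max σ₁ σ₂ = σ₁ := max_eq_left h
        omega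
      obtain ⟨v, hv, w, hw, hvw⟩ := exists_pair hposS h0S hstdS (m := N) (by omega) hD hy hyr hS
      obtain ⟨t₁, ht₁, e₁⟩ := hex _ u₁ v (by rw [hN]; exact hu₁) hv
      obtain ⟨t₂, ht₂, e₂⟩ := hex _ u₁ w (by rw [hN]; exact hu₁) hw
      refine ⟨t₁, t₂, ht₁, ht₂, fun α β hαβ => ?_⟩
      obtain ⟨b, hb⟩ := Ideal.mem_span_singleton'.1 hαβ
      have e := congrArg ψ hb
      rw [map_mul, map_add, map_smul, map_smul, e₁, e₂, hψt, ← TensorProduct.tmul_smul, ← TensorProduct.tmul_smul,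
        ← TensorProduct.tmul_add, mul_comm] at e
      by_contra hne
      exact tmul_notMem hu₁' (fun h' => hne (hvw α β h')) (ψ b) e.symm
    · have hN : (N : ℤ) = (σ₂ : ℤ) - 1 + D := by
        have : max σ₁ σ₂ = σ₂ := max_eq_right h
        omega
      obtain ⟨v, hv, w, hw, hvw⟩ := exists_pair hpos h0 hstd (m := N) (by omega) hD hx hxr hR
      obtain ⟨t₁, ht₁, e₁⟩ := hex _ v u₂ hv (by rw [hN]; exact hu₂)
      obtain ⟨t₂, ht₂, e₂⟩ := hex _ w u₂ hw (by rw [hN]; exact hu₂)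
      refine ⟨t₁, t₂, ht₁, ht₂, fun α β hαβ => ?_⟩
      obtain ⟨b, hb⟩ := Ideal.mem_span_singleton'.1 hαβ
      have e := congrArg ψ hb
      rw [map_mul, map_add, map_smul, map_smul, e₁, e₂, hψt, TensorProduct.smul_tmul', TensorProduct.smul_tmul',
        ← TensorProduct.add_tmul, mul_comm] at e
      by_contra hne
      refine tmul_notMem (R := S) (S := R) (y := x) hu₂' (fun h' => hne (hvw α β h'))
        (Algebra.TensorProduct.comm k R S (ψ b)) ?_
      have e' := congrArg (Algebra.TensorProduct.comm k R S) e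
      rw [map_mul, Algebra.TensorProduct.comm_tmul, Algebra.TensorProduct.comm_tmul] at e'
      exact e'.symm
  obtain ⟨l₁, hl₁⟩ := hs' t₁ ht₁
  obtain ⟨l₂, hl₂⟩ := hs' t₂ ht₂
  have h3 : l₂ • t₁ + (-l₁) • t₂ ∈ Ideal.span {t} := by
    have : l₂ • t₁ + (-l₁) • t₂ = l₂ • (t₁ - l₁ • s) - l₁ • (t₂ - l₂ • s) := by
      rw [smul_sub, smul_sub, smul_comm l₂ l₁ s, neg_smul]; abel
    rw [this]
    exact sub_mem (Submodule.smul_of_tower_mem _ _ hl₁) (Submodule.smul_of_tower_mem _ _ hl₂)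
  obtain ⟨-, hl⟩ := hind _ _ h3
  rw [neg_eq_zero] at hl
  rw [hl, zero_smul, sub_zero] at hl₁
  exact one_ne_zero (α := k) (hind 1 0 (by rw [one_smul, zero_smul, add_zero]; exact hl₁)).1
where
  nontrivial_of_dim1 {A : Type u} [CommRing A] (h : ringKrullDim A = 1) : Nontrivial A :=
    not_subsingleton_iff_nontrivial.1 fun _ => by
      rw [ringKrullDim_eq_bot_of_subsingleton] at h
      exact WithBot.bot_ne_coe h

end Segre

end SegreLC
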