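import Groth.Agent.SegreLC.Kun

/-! Kernels of surjective maps of complexes of vector spaces, and total complexes. -/

set_option autoImplicit false
universe u

open TensorProduct

namespace SegreLC

variable {k : Type u} [Field k]

section Comp

variable {C C' : ℕ → Type u} [∀ n, AddCommGroup (C n)] [∀ n, Module k (C n)] [∀ n, AddCommGroup (C' n)]
  [∀ n, Module k (C' n)]

/-- Cocycles of the kernel complex. -/
def Zk (D : ∀ n, C n →ₗ[k] C (n + 1)) (Q : ∀ n, C n →ₗ[k] C' n) (n : ℕ) : Submodule k (C n) :=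
  LinearMap.ker (D n) ⊓ LinearMap.ker (Q n)

/-- Coboundaries of the kernel complex. -/
def Bk (D : ∀ n, C n →ₗ[k] C (n + 1)) (Q : ∀ n, C n →ₗ[k] C' n) : (n : ℕ) → Submodule k (C n)
  | 0 => ⊥
  | n + 1 => (LinearMap.ker (Q n)).map (D n)

/-- A surjection of complexes out of a resolution, with a splitting of the target. -/
structure Setup (D : ∀ n, C n →ₗ[k] C (n + 1)) (D' : ∀ n, C' n →ₗ[k] C' (n + 1)) (Q : ∀ n, C n →ₗ[k] C' n)
    (A : Type u) [AddCommGroup A] [Module k A] where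
  /-- the augmentation -/
  ε : A →ₗ[k] C 0
  /-- the splitting -/
  sp : Split D'
  comm : ∀ n, Q (n + 1) ∘ₗ D n = D' n ∘ₗ Q n
  surj : ∀ n, Function.Surjective (Q n)
  inj : Function.Injective ε
  exact₀ : LinearMap.ker (D 0) = LinearMap.range ε
  exact₁ : ∀ n, LinearMap.ker (D (n + 1)) = LinearMap.range (D n)

variable {D : ∀ n, C n →ₗ[k] C (n + 1)} {D' : ∀ n, C' n →ₗ[k] C' (n + 1)} {Q : ∀ n, C n →ₗ[k] C' n}
  {A : Type u} [AddCommGroup A] [Module k A] (S : Setup D D' Q A)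

namespace Setup

include S

theorem comm_apply (n : ℕ) (x : C n) : Q (n + 1) (D n x) = D' n (Q n x) := LinearMap.congr_fun (S.comm n) x

theorem dd_apply (n : ℕ) (x : C n) : D (n + 1) (D n x) = 0 :=
  LinearMap.mem_ker.1 ((S.exact₁ n).ge ⟨x, rfl⟩)

theorem aug_mem : LinearMap.range (Q 0 ∘ₗ S.ε) ≤ LinearMap.range (S.sp.e 0) := by
  rintro _ ⟨a, rfl⟩
  refine ⟨Q 0 (S.ε a), ?_⟩
  have h1 := LinearMap.congr_fun S.sp.hd_zero (Q 0 (S.ε a))
  simp only [LinearMap.comp_apply, LinearMap.sub_apply, LinearMap.id_apply] at h1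
  rw [← S.comm_apply, show D 0 (S.ε a) = 0 from LinearMap.mem_ker.1 (S.exact₀.ge ⟨a, rfl⟩), map_zero,
    map_zero] at h1
  exact (sub_eq_zero.1 h1.symm).symm

theorem exists_sigma (n : ℕ) : ∃ σ : C' n →ₗ[k] C n, ∀ u, Q n (σ u) = u := by
  obtain ⟨σ, hσ⟩ := (Q n).exists_rightInverse_of_surjective (LinearMap.range_eq_top.2 (S.surj n))
  exact ⟨σ, fun u => LinearMap.congr_fun hσ u⟩

variable {H : Type u} [AddCommGroup H] [Module k H]

/-- Degree zero. -/
theorem deg_zero (Ψ : Zk D Q 0 →ₗ[k] H) (hs : Function.Surjective Ψ)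
    (hk : LinearMap.ker Ψ = (Bk D Q 0).comap (Zk D Q 0).subtype) :
    Nonempty (LinearMap.ker (Q 0 ∘ₗ S.ε) ≃ₗ[k] H) := by
  let g : LinearMap.ker (Q 0 ∘ₗ S.ε) →ₗ[k] Zk D Q 0 :=
    (S.ε ∘ₗ (LinearMap.ker (Q 0 ∘ₗ S.ε)).subtype).codRestrict _ fun a =>
      ⟨S.exact₀.ge ⟨a.1, rfl⟩, LinearMap.mem_ker.1 a.2⟩
  refine ⟨LinearEquiv.ofBijective (Ψ ∘ₗ g) ⟨(injective_iff_map_eq_zero _).2 fun a ha => ?_, fun x => ?_⟩⟩
  · have h1 : (g a).1 ∈ Bk D Q 0 := hk.le ha
    exact Subtype.ext (S.inj (((Submodule.mem_bot k).1 h1).trans (map_zero _).symm))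
  · obtain ⟨z, rfl⟩ := hs x
    obtain ⟨a, ha⟩ := S.exact₀.le z.2.1
    refine ⟨⟨a, ?_⟩, congrArg Ψ (Subtype.ext ha)⟩
    show Q 0 (S.ε a) = 0
    rw [ha]; exact z.2.2

/-- The lift of a class of the target. -/
theorem exists_theta (n : ℕ) (Ψ : Zk D Q (n + 1) →ₗ[k] H) (hs : Function.Surjective Ψ)
    (hk : LinearMap.ker Ψ = (Bk D Q (n + 1)).comap (Zk D Q (n + 1)).subtype) :
    ∃ Θ : LinearMap.range (S.sp.e n) →ₗ[k] H, Function.Surjective Θ ∧
      ∀ u, Θ u = 0 ↔ ∃ v ∈ LinearMap.ker (D n), Q n v = u.1 := by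
  obtain ⟨σ, hσ⟩ := S.exists_sigma n
  have hcoc : ∀ u : LinearMap.range (S.sp.e n), D' n u.1 = 0 := fun u => by
    obtain ⟨w, hw⟩ := u.2
    rw [← hw]
    exact LinearMap.congr_fun (S.sp.de n) w
  let g : LinearMap.range (S.sp.e n) →ₗ[k] Zk D Q (n + 1) :=
    (D n ∘ₗ σ ∘ₗ (LinearMap.range (S.sp.e n)).subtype).codRestrict _ fun u =>
      ⟨LinearMap.mem_ker.2 (S.dd_apply n _), LinearMap.mem_ker.2 (by
        rw [LinearMap.comp_apply, LinearMap.comp_apply, Submodule.subtype_apply, S.comm_apply, hσ, hcoc])⟩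
  refine ⟨Ψ ∘ₗ g, fun x => ?_, fun u => ?_⟩
  · obtain ⟨z, rfl⟩ := hs x
    obtain ⟨w, hw⟩ := (S.exact₁ n).le z.2.1
    have hQw : D' n (Q n w) = 0 := by rw [← S.comm_apply, hw]; exact z.2.2
    obtain ⟨w', hw', hQw'⟩ : ∃ w', D n w' = z.1 ∧ Q n w' = S.sp.e n (Q n w) := by
      cases n with
      | zero =>
        refine ⟨w, hw, ?_⟩
        have h1 := LinearMap.congr_fun S.sp.hd_zero (Q 0 w)
        simp only [LinearMap.comp_apply, LinearMap.sub_apply, LinearMap.id_apply, hQw, map_zero] at h1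
        exact sub_eq_zero.1 h1.symm
      | succ n =>
        obtain ⟨σ', hσ'⟩ := S.exists_sigma n
        refine ⟨w - D n (σ' (S.sp.h n (Q (n + 1) w))), by rw [map_sub, S.dd_apply, sub_zero, hw], ?_⟩
        have h1 := LinearMap.congr_fun (S.sp.hd_succ n) (Q (n + 1) w)
        simp only [LinearMap.comp_apply, LinearMap.add_apply, LinearMap.sub_apply, LinearMap.id_apply, hQw,
          map_zero, zero_add] at h1
        rw [map_sub, S.comm_apply, hσ', h1, sub_sub_cancel]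
    refine ⟨⟨_, LinearMap.mem_range_self _ (Q n w)⟩, sub_eq_zero.1 ?_⟩
    rw [LinearMap.comp_apply, ← map_sub]
    refine LinearMap.mem_ker.1 (hk.ge ?_)
    refine ⟨σ (S.sp.e n (Q n w)) - w', LinearMap.mem_ker.2 (by rw [map_sub, hσ, hQw', sub_self]), ?_⟩
    rw [map_sub, hw']
    rfl
  · constructor
    · intro h
      obtain ⟨c, hc, hcu⟩ : (g u).1 ∈ Bk D Q (n + 1) := hk.le h
      refine ⟨σ u.1 - c, LinearMap.mem_ker.2 ?_, ?_⟩
      · rw [map_sub, hcu]; exact sub_self _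
      · rw [map_sub, hσ, LinearMap.mem_ker.1 hc, sub_zero]
    · rintro ⟨v, hv, hvu⟩
      refine LinearMap.mem_ker.1 (hk.ge (show g u ∈ (Bk D Q (n + 1)).comap (Zk D Q (n + 1)).subtype from ?_))
      refine ⟨σ u.1 - v, LinearMap.mem_ker.2 (by rw [map_sub, hσ, hvu, sub_self]), ?_⟩
      rw [map_sub, LinearMap.mem_ker.1 hv, sub_zero]
      rfl

/-- Degree one. -/
theorem deg_one (Ψ : Zk D Q 1 →ₗ[k] H) (hs : Function.Surjective Ψ)
    (hk : LinearMap.ker Ψ = (Bk D Q 1).comap (Zk D Q 1).subtype) :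
    ∃ Θ : LinearMap.range (S.sp.e 0) →ₗ[k] H, Function.Surjective Θ ∧
      LinearMap.ker Θ = (LinearMap.range (Q 0 ∘ₗ S.ε)).comap (LinearMap.range (S.sp.e 0)).subtype := by
  obtain ⟨Θ, hΘ, hΘ0⟩ := S.exists_theta 0 Ψ hs hk
  refine ⟨Θ, hΘ, Submodule.ext fun u => (hΘ0 u).trans ⟨?_, ?_⟩⟩
  · rintro ⟨v, hv, hvu⟩
    obtain ⟨a, rfl⟩ := S.exact₀.le hv
    exact ⟨a, hvu⟩
  · rintro ⟨a, ha⟩
    exact ⟨S.ε a, S.exact₀.ge ⟨a, rfl⟩, ha⟩

/-- Higher degrees. -/
theorem deg_succ (n : ℕ) (Ψ : Zk D Q (n + 2) →ₗ[k] H) (hs : Function.Surjective Ψ)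
    (hk : LinearMap.ker Ψ = (Bk D Q (n + 2)).comap (Zk D Q (n + 2)).subtype) :
    Nonempty (LinearMap.range (S.sp.e (n + 1)) ≃ₗ[k] H) := by
  obtain ⟨Θ, hΘ, hΘ0⟩ := S.exists_theta (n + 1) Ψ hs hk
  refine ⟨LinearEquiv.ofBijective Θ ⟨(injective_iff_map_eq_zero _).2 fun u hu => Subtype.ext ?_, hΘ⟩⟩
  obtain ⟨v, hv, hvu⟩ := (hΘ0 u).1 hu
  obtain ⟨w, rfl⟩ := (S.exact₁ n).le hv
  obtain ⟨t, ht⟩ := u.2
  have h1 : S.sp.e (n + 1) u.1 = u.1 := by rw [← ht]; exact LinearMap.congr_fun (S.sp.ee _) t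
  rw [← h1, ← hvu, S.comm_apply]
  exact LinearMap.congr_fun (S.sp.ed n) _

/-- Vanishing in degrees zero and one. -/
theorem aug_equiv {H₀ H₁ : Type u} [AddCommGroup H₀] [Module k H₀] [Subsingleton H₀] [AddCommGroup H₁]
    [Module k H₁] [Subsingleton H₁] (Ψ₀ : Zk D Q 0 →ₗ[k] H₀) (hs₀ : Function.Surjective Ψ₀)
    (hk₀ : LinearMap.ker Ψ₀ = (Bk D Q 0).comap (Zk D Q 0).subtype) (Ψ₁ : Zk D Q 1 →ₗ[k] H₁)
    (hs₁ : Function.Surjective Ψ₁) (hk₁ : LinearMap.ker Ψ₁ = (Bk D Q 1).comap (Zk D Q 1).subtype) :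
    Function.Injective (Q 0 ∘ₗ S.ε) ∧ LinearMap.range (Q 0 ∘ₗ S.ε) = LinearMap.range (S.sp.e 0) := by
  obtain ⟨e⟩ := S.deg_zero Ψ₀ hs₀ hk₀
  obtain ⟨Θ, -, hΘ⟩ := S.deg_one Ψ₁ hs₁ hk₁
  refine ⟨LinearMap.ker_eq_bot.1 (eq_bot_iff.2 fun a ha => ?_), le_antisymm S.aug_mem fun u hu => ?_⟩
  · exact congrArg Subtype.val (e.injective (Subsingleton.elim (e ⟨a, ha⟩) (e 0)))
  · exact hΘ.le (show (⟨u, hu⟩ : LinearMap.range (S.sp.e 0)) ∈ LinearMap.ker Θ from Subsingleton.elim _ _)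

end Setup

end Comp

section Tot

variable {X : ℕ → Type u} [∀ n, AddCommGroup (X n)] [∀ n, Module k (X n)]
  {Y : ℕ → Type u} [∀ n, AddCommGroup (Y n)] [∀ n, Module k (Y n)]

/-- The total differential in one degree. -/
noncomputable def totD (dX : ∀ n, X n →ₗ[k] X (n + 1)) (dY : ∀ n, Y n →ₗ[k] Y (n + 1)) (n : ℕ) :
    tot (k := k) X Y n →ₗ[k] tot (k := k) X Y (n + 1) :=
  (D dX dY).restrict fun _ hv => D_mem_tot dX dY hv

theorem totD_val {dX : ∀ n, X n →ₗ[k] X (n + 1)} {dY : ∀ n, Y n →ₗ[k] Y (n + 1)} {n : ℕ} (v : tot (k := k) X Y n) :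
    (totD dX dY n v).1 = D dX dY v.1 := rfl

variable {dX : ∀ n, X n →ₗ[k] X (n + 1)} {dY : ∀ n, Y n →ₗ[k] Y (n + 1)}

/-- The splitting of a total complex. -/
noncomputable def totSplit (sX : Split dX) (sY : Split dY) : Split (totD dX dY) where
  e n := (Ee sX sY).restrict fun _ hv => Ee_mem_tot sX sY hv
  h n := (Hh sX sY).restrict fun _ hv => Hh_mem_tot sX sY hv
  de _ := LinearMap.ext fun v => Subtype.ext (D_Ee sX sY v.1)
  ed _ := LinearMap.ext fun v => Subtype.ext (Ee_D sX sY v.1)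
  ee _ := LinearMap.ext fun v => Subtype.ext (Ee_Ee sX sY v.1)
  hd_zero := LinearMap.ext fun v => Subtype.ext (by
    have h1 := homotopy sX sY v.1
    rw [Hh_eq_zero sX sY v.2, map_zero, zero_add] at h1
    exact h1)
  hd_succ _ := LinearMap.ext fun v => Subtype.ext ((add_comm _ _).trans (homotopy sX sY v.1))

theorem totSplit_e_val (sX : Split dX) (sY : Split dY) {n : ℕ} (v : tot (k := k) X Y n) :
    ((totSplit sX sY).e n v).1 = Ee sX sY v.1 := rfl

/-- The componentwise map of total complexes. -/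
noncomputable def totMap {X' : ℕ → Type u} [∀ n, AddCommGroup (X' n)] [∀ n, Module k (X' n)] {Y' : ℕ → Type u}
    [∀ n, AddCommGroup (Y' n)] [∀ n, Module k (Y' n)] (f : ∀ n, X n →ₗ[k] X' n) (g : ∀ n, Y n →ₗ[k] Y' n)
    (n : ℕ) : tot (k := k) X Y n →ₗ[k] tot (k := k) X' Y' n :=
  LinearMap.restrict
    (LinearMap.pi fun p => LinearMap.pi fun q =>
      TensorProduct.map (f p) (g q) ∘ₗ (LinearMap.proj q ∘ₗ LinearMap.proj p) : Bi X Y k →ₗ[k] Bi X' Y' k)
    fun v hv p q h => by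
      show TensorProduct.map (f p) (g q) (v p q) = 0
      rw [hv p q h, map_zero]

theorem totMap_val {X' : ℕ → Type u} [∀ n, AddCommGroup (X' n)] [∀ n, Module k (X' n)] {Y' : ℕ → Type u}
    [∀ n, AddCommGroup (Y' n)] [∀ n, Module k (Y' n)] (f : ∀ n, X n →ₗ[k] X' n) (g : ∀ n, Y n →ₗ[k] Y' n)
    {n : ℕ} (v : tot (k := k) X Y n) (p q : ℕ) :
    (totMap f g n v).1 p q = TensorProduct.map (f p) (g q) (v.1 p q) := rfl

theorem totMap_totD {X' : ℕ → Type u} [∀ n, AddCommGroup (X' n)] [∀ n, Module k (X' n)] {Y' : ℕ → Type u}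
    [∀ n, AddCommGroup (Y' n)] [∀ n, Module k (Y' n)] {dX' : ∀ n, X' n →ₗ[k] X' (n + 1)}
    {dY' : ∀ n, Y' n →ₗ[k] Y' (n + 1)} (f : ∀ n, X n →ₗ[k] X' n) (g : ∀ n, Y n →ₗ[k] Y' n)
    (hf : ∀ n, f (n + 1) ∘ₗ dX n = dX' n ∘ₗ f n) (hg : ∀ n, g (n + 1) ∘ₗ dY n = dY' n ∘ₗ g n) (n : ℕ) :
    totMap f g (n + 1) ∘ₗ totD dX dY n = totD dX' dY' n ∘ₗ totMap f g n := by
  refine LinearMap.ext fun v => Subtype.ext (funext fun p => funext fun q => ?_)
  show TensorProduct.map (f p) (g q) (D dX dY v.1 p q) = D dX' dY' (totMap f g n v).1 p q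
  cases p with
  | zero =>
    cases q with
    | zero => rw [D_zero_zero, D_zero_zero, map_zero]
    | succ q => simp only [D_zero_succ, totMap_val, map_map', LinearMap.id_comp, LinearMap.comp_id, hg]
  | succ p =>
    cases q with
    | zero => simp only [D_succ_zero, totMap_val, map_map', LinearMap.id_comp, LinearMap.comp_id, hf]
    | succ q =>
      simp only [D_succ_succ, totMap_val, map_add, map_smul, map_map', LinearMap.id_comp, LinearMap.comp_id,
        hf, hg]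

theorem totMap_surjective {X' : ℕ → Type u} [∀ n, AddCommGroup (X' n)] [∀ n, Module k (X' n)] {Y' : ℕ → Type u}
    [∀ n, AddCommGroup (Y' n)] [∀ n, Module k (Y' n)] (f : ∀ n, X n →ₗ[k] X' n) (g : ∀ n, Y n →ₗ[k] Y' n)
    (hf : ∀ n, Function.Surjective (f n)) (hg : ∀ n, Function.Surjective (g n)) (n : ℕ) :
    Function.Surjective (totMap f g n) := fun v => by
  obtain ⟨w, hw⟩ := (dtotEval_bijective (A := k) (Z := fun p q => X p ⊗[k] Y q) n).2
    fun p => (TensorProduct.map_surjective (hf p) (hg (n - p)) (v.1 p (n - p))).choose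
  refine ⟨w, (dtotEval_bijective (A := k) (Z := fun p q => X' p ⊗[k] Y' q) n).1 (funext fun p => ?_)⟩
  rw [dtotEval_apply, dtotEval_apply, totMap_val, ← dtotEval_apply n w p, hw]
  exact (TensorProduct.map_surjective (hf p) (hg (n - p)) (v.1 p (n - p))).choose_spec

/-- The harmonic part of a total complex. -/
theorem nonempty_range_totSplit (sX : Split dX) (sY : Split dY) (n : ℕ) :
    Nonempty (LinearMap.range ((totSplit sX sY).e n) ≃ₗ[k]
      ∀ p : Fin (n + 1), LinearMap.range (TensorProduct.map (sX.e p) (sY.e (n - p)))) := by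
  let Φ : LinearMap.range ((totSplit sX sY).e n) →ₗ[k]
      ∀ p : Fin (n + 1), LinearMap.range (TensorProduct.map (sX.e p) (sY.e (n - p))) :=
    LinearMap.pi fun p => ((LinearMap.proj p ∘ₗ dtotEval n) ∘ₗ
      (LinearMap.range ((totSplit sX sY).e n)).subtype).codRestrict _ fun u => by
      obtain ⟨v, hv⟩ := u.2
      refine ⟨v.1 p (n - p), ?_⟩
      simp only [LinearMap.comp_apply, LinearMap.proj_apply, Submodule.subtype_apply, dtotEval_apply, ← hv,
        totSplit_e_val, Ee_apply]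
  refine ⟨LinearEquiv.ofBijective Φ ⟨fun u v h => Subtype.ext ((dtotEval_bijective n).1 (funext fun p => ?_)),
    fun w => ?_⟩⟩
  · exact congrArg Subtype.val (congrFun h p)
  · choose x hx using fun p => (w p).2
    obtain ⟨v, hv⟩ := (dtotEval_bijective (A := k) (Z := fun p q => X p ⊗[k] Y q) n).2 x
    refine ⟨⟨_, LinearMap.mem_range_self _ v⟩, funext fun p => Subtype.ext ?_⟩
    show ((totSplit sX sY).e n v).1 p (n - p) = _
    rw [totSplit_e_val, Ee_apply, ← dtotEval_apply n v p, hv, hx]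

theorem nonempty_range_map {A B C E : Type u} [AddCommGroup A] [Module k A] [AddCommGroup B] [Module k B]
    [AddCommGroup C] [Module k C] [AddCommGroup E] [Module k E] (f : A →ₗ[k] B) (g : C →ₗ[k] E) :
    Nonempty (LinearMap.range f ⊗[k] LinearMap.range g ≃ₗ[k] LinearMap.range (TensorProduct.map f g)) := by
  let i := TensorProduct.map (LinearMap.range f).subtype (LinearMap.range g).subtype
  have hi : Function.Injective i :=
    TensorProduct.map_injective_of_flat_flat _ _ (Submodule.injective_subtype _) (Submodule.injective_subtype _)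
  refine ⟨(LinearEquiv.ofInjective i hi).trans (LinearEquiv.ofEq _ _ ?_)⟩
  have h1 : TensorProduct.map f g = i ∘ₗ TensorProduct.map f.rangeRestrict g.rangeRestrict :=
    TensorProduct.ext' fun a c => rfl
  rw [h1, LinearMap.range_comp, LinearMap.range_eq_top.2
    (TensorProduct.map_surjective f.surjective_rangeRestrict g.surjective_rangeRestrict), Submodule.map_top]

theorem finrank_range_totSplit (sX : Split dX) (sY : Split dY) (n : ℕ)
    [∀ p, Module.Finite k (LinearMap.range (sX.e p))] [∀ q, Module.Finite k (LinearMap.range (sY.e q))] :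
    Module.finrank k (LinearMap.range ((totSplit sX sY).e n)) =
      (Finset.range (n + 1)).sum fun p =>
        Module.finrank k (LinearMap.range (sX.e p)) * Module.finrank k (LinearMap.range (sY.e (n - p))) := by
  obtain ⟨e⟩ := nonempty_range_totSplit sX sY n
  haveI : ∀ p : Fin (n + 1), Module.Finite k (LinearMap.range (TensorProduct.map (sX.e p) (sY.e (n - p)))) :=
    fun p => Module.Finite.equiv (nonempty_range_map (sX.e p) (sY.e (n - p))).some
  rw [e.finrank_eq, Module.finrank_pi_fintype, Finset.sum_range (fun p =>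
    Module.finrank k (LinearMap.range (sX.e p)) * Module.finrank k (LinearMap.range (sY.e (n - p))))]
  refine Finset.sum_congr rfl fun p _ => ?_
  rw [← (nonempty_range_map (sX.e p) (sY.e (n - p))).some.finrank_eq, Module.finrank_tensorProduct]

end Tot

end SegreLC
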