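import Groth.Agent.SegreLib.Dim
import Groth.Agent.SegreLib.GradedSOP
import Mathlib

/-! Polynomial subrings acting faithfully on elements of modules. -/

set_option autoImplicit false
universe u

open scoped TensorProduct
open MvPolynomial

namespace SegreLC

variable {k : Type u} [Field k]

/-- Independent elements bound the dimension of an affine algebra from below. -/
theorem card_le_ringKrullDim {ι : Type} [Fintype ι] {A : Type u} [CommRing A] [Algebra k A] [Algebra.FiniteType k A]
    (f : MvPolynomial ι k →ₐ[k] A) (hf : Function.Injective f) :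
    ((Fintype.card ι : ℕ) : WithBot ℕ∞) ≤ ringKrullDim A := by
  obtain ⟨Q, hQ, hcomap⟩ := Ideal.exists_comap_eq_of_mem_minimalPrimes f.toRingHom (I := (⊥ : Ideal A)) ⊥ (by
    rw [show Ideal.comap f.toRingHom ⊥ = ⊥ from (RingHom.injective_iff_ker_eq_bot _).1 hf,
      Ideal.minimalPrimes_eq_subsingleton_self]
    rfl)
  obtain ⟨d, hd, htr⟩ := WeilLib.dim_eq_trdeg k (A ⧸ Q) (FractionRing (A ⧸ Q))
  let g : MvPolynomial ι k →ₐ[k] FractionRing (A ⧸ Q) :=
    (IsScalarTower.toAlgHom k (A ⧸ Q) (FractionRing (A ⧸ Q))).comp ((Ideal.Quotient.mkₐ k Q).comp f)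
  have hg : Function.Injective g := by
    refine (IsFractionRing.injective (A ⧸ Q) (FractionRing (A ⧸ Q))).comp ?_
    refine (RingHom.injective_iff_ker_eq_bot ((Ideal.Quotient.mkₐ k Q).comp f).toRingHom).2 ?_
    refine le_bot_iff.1 fun a ha => ?_
    rw [← hcomap.2]
    exact (Ideal.Quotient.eq_zero_iff_mem (I := Q)).1 ha
  have hind : AlgebraicIndependent k (fun i => g (X i)) := (algebraicIndependent_X ι k).map' hg
  have h1 := hind.lift_cardinalMk_le_trdeg
  rw [htr] at h1
  simp only [Cardinal.mk_fintype, Cardinal.lift_natCast, Nat.cast_le] at h1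
  refine le_trans ?_ (ringKrullDim_le_of_surjective (Ideal.Quotient.mk Q) Ideal.Quotient.mk_surjective)
  rw [hd]
  exact_mod_cast h1

variable {R : Type u} [CommRing R] [Algebra k R]

/-- A finite map from a polynomial ring to a domain of at least its dimension is injective. -/
theorem aeval_notMem {r : ℕ} (x : Fin r → R) (Q : Ideal R) [Q.IsPrime]
    (hfin : ((Ideal.Quotient.mkₐ k Q).comp (aeval x : MvPolynomial (Fin r) k →ₐ[k] R)).toRingHom.Finite)
    (hdim : (r : WithBot ℕ∞) ≤ ringKrullDim (R ⧸ Q)) {f : MvPolynomial (Fin r) k} (hf : f ≠ 0) :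
    aeval x f ∉ Q := by
  intro hfQ
  let g := ((Ideal.Quotient.mkₐ k Q).comp (aeval x : MvPolynomial (Fin r) k →ₐ[k] R)).toRingHom
  have hfker : f ∈ RingHom.ker g := Ideal.Quotient.eq_zero_iff_mem.2 hfQ
  letI := (RingHom.kerLift g).toAlgebra
  haveI : Algebra.IsIntegral (MvPolynomial (Fin r) k ⧸ RingHom.ker g) (R ⧸ Q) := ⟨fun a => by
    obtain ⟨p, hp, hpa⟩ := hfin.to_isIntegral a
    refine ⟨p.map (Ideal.Quotient.mk _), hp.map _, ?_⟩
    rw [Polynomial.eval₂_map]
    exact hpa⟩
  have h1 : ringKrullDim (R ⧸ Q) ≤ ringKrullDim (MvPolynomial (Fin r) k ⧸ RingHom.ker g) := by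
    refine Order.krullDim_le_of_strictMono (fun P => PrimeSpectrum.comap (algebraMap _ (R ⧸ Q)) P) fun P P' hP => ?_
    exact Ideal.IsIntegral.comap_lt_comap (R := MvPolynomial (Fin r) k ⧸ RingHom.ker g) hP
  have hpoly : ringKrullDim (MvPolynomial (Fin r) k) = (r : WithBot ℕ∞) := by
    rw [MvPolynomial.ringKrullDim_of_isNoetherianRing, ringKrullDim_eq_zero_of_field, zero_add]; simp
  have h2 := le_trans (add_le_add_left (ringKrullDim_le_of_surjective
    (Ideal.Quotient.factor (S := Ideal.span {f}) (T := RingHom.ker g)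
      ((Ideal.span_singleton_le_iff_mem _).2 hfker)) (Ideal.Quotient.factor_surjective _)) 1)
    (ringKrullDim_quotient_succ_le_of_nonZeroDivisor (mem_nonZeroDivisors_of_ne_zero hf))
  rw [hpoly] at h2
  have h3 : ((r + 1 : ℕ) : WithBot ℕ∞) ≤ (r : WithBot ℕ∞) :=
    le_trans (by push_cast; exact add_le_add_left (hdim.trans h1) 1) h2
  norm_cast at h3
  omega

/-- A homogeneous element whose annihilator lies in a prime of the support. -/
theorem exists_homogeneous_ann_le {M : Type u} [AddCommGroup M] [Module R M] {τ : Type u} [SetLike τ M]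
    [AddSubgroupClass τ M] (ℳ : ℤ → τ) [DirectSum.Decomposition ℳ] (Q : PrimeSpectrum R)
    (hQ : Q ∈ Module.support R M) :
    ∃ (d : ℤ) (m : M), m ∈ ℳ d ∧ ∀ a : R, a • m = 0 → a ∈ Q.asIdeal := by
  classical
  by_contra hcon
  push Not at hcon
  obtain ⟨m, hm⟩ := Module.mem_support_iff'.1 hQ
  choose c hc hcQ using fun d : ℤ => hcon d _ (DirectSum.decompose ℳ m d).2
  let F := (DirectSum.decompose ℳ m).support
  refine hm (∏ d ∈ F, c d) (fun h => ?_) ?_
  · obtain ⟨d, -, hd⟩ := (Ideal.IsPrime.prod_mem_iff (p := Q.asIdeal)).1 h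
    exact hcQ d hd
  · have hs : ∑ d ∈ F, ((DirectSum.decompose ℳ m d : ℳ d) : M) = m := DirectSum.sum_support_decompose ℳ m
    generalize F = G at hs ⊢
    rw [← hs, Finset.smul_sum]
    refine Finset.sum_eq_zero fun d hd => ?_
    rw [← Finset.prod_erase_mul _ _ hd, mul_smul, hc, smul_zero]

variable {S : Type u} [CommRing S] [Algebra k S] {T : Type u} [CommRing T] [Algebra k T]
  {M N P : Type u} [AddCommGroup M] [Module R M] [Module k M] [IsScalarTower k R M]
  [AddCommGroup N] [Module S N] [Module k N] [IsScalarTower k S N]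
  [AddCommGroup P] [Module T P] [Module k P] [IsScalarTower k T P]

theorem act_theta {r s : ℕ} (x : Fin r → R) (y : Fin s → S) (m : M) (n : N) (z : MvPolynomial (Fin r) k ⊗[k] MvPolynomial (Fin s) k) :
    GrSeg.act k R S M N (Algebra.TensorProduct.map (aeval x : MvPolynomial (Fin r) k →ₐ[k] R)
        (aeval y : MvPolynomial (Fin s) k →ₐ[k] S) z) (m ⊗ₜ[k] n) =
      TensorProduct.map ((LinearMap.toSpanSingleton R M m).restrictScalars k ∘ₗ
          (aeval x : MvPolynomial (Fin r) k →ₐ[k] R).toLinearMap)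
        ((LinearMap.toSpanSingleton S N n).restrictScalars k ∘ₗ
          (aeval y : MvPolynomial (Fin s) k →ₐ[k] S).toLinearMap) z := by
  induction z using TensorProduct.induction_on with
  | zero => rw [map_zero, map_zero, LinearMap.zero_apply, map_zero]
  | add a b ha hb => rw [map_add, map_add, LinearMap.add_apply, ha, hb, map_add]
  | tmul p q => rw [Algebra.TensorProduct.map_tmul, GrSeg.act_tmul, TensorProduct.map_tmul]; rfl

/-- The lower bound for the dimension of a Segre product. -/
theorem le_supportDim_segre [Algebra.FiniteType k T] {r s : ℕ} (x : Fin (r + 1) → R) (y : Fin (s + 1) → S)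
    (ψ : T →ₐ[k] R ⊗[k] S) (φ : P →ₗ[k] M ⊗[k] N)
    (hact : ∀ (t : T) (p : P), φ (t • p) = GrSeg.act k R S M N (ψ t) (φ p))
    (hxy : ∀ i j, ∃ t : T, ψ t = x i ⊗ₜ[k] y j) {m : M} {n : N}
    (hm : ∀ f : MvPolynomial (Fin (r + 1)) k, aeval x f • m = 0 → f = 0)
    (hn : ∀ f : MvPolynomial (Fin (s + 1)) k, aeval y f • n = 0 → f = 0)
    {p : P} (hp : φ p = m ⊗ₜ[k] n) : ((r + 1 + s : ℕ) : WithBot ℕ∞) ≤ Module.supportDim T P := by
  choose t ht using hxy
  let v : Fin (r + 1) ⊕ Fin s → T := Sum.elim (fun i => t i 0) (fun j => t 0 j.succ)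
  let g : MvPolynomial (Fin (r + 1) ⊕ Fin s) k →ₐ[k] T := aeval v
  let β : MvPolynomial (Fin (r + 1) ⊕ Fin s) k →ₐ[k] MvPolynomial (Fin (r + 1) ⊕ Fin (s + 1)) k :=
    (SegreLib.segreSub (k := k) (r + 1) (s + 1)).val.comp (aeval (SegreLib.segreBasis (k := k) r s))
  have hβ : Function.Injective β :=
    Subtype.val_injective.comp (SegreLib.segreBasis_algebraicIndependent (k := k) r s)
  have hgβ : ψ.comp g = (SegreLib.theta (k := k) x y).comp β := by
    refine MvPolynomial.algHom_ext fun w => ?_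
    rcases w with i | j <;>
      simp [g, v, β, ht, SegreLib.segreBasis, SegreLib.theta, Algebra.TensorProduct.tmul_mul_tmul]
  have hα : ∀ {σ : Type} {A X : Type u} [CommRing A] [Algebra k A] [AddCommGroup X] [Module A X] [Module k X]
      [IsScalarTower k A X] (z : σ → A) (w : X), (∀ f : MvPolynomial σ k, aeval z f • w = 0 → f = 0) →
      Function.Injective ((LinearMap.toSpanSingleton A X w).restrictScalars k ∘ₗ
        (aeval z : MvPolynomial σ k →ₐ[k] A).toLinearMap) := fun z w h =>
    LinearMap.ker_eq_bot.1 (le_bot_iff.1 fun f hf => h f hf)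
  have hinj : Function.Injective fun f => g f • p := by
    intro f f' hff'
    have h := congrArg φ (show g f • p = g f' • p from hff')
    rw [hact, hact, hp, ← AlgHom.comp_apply, ← AlgHom.comp_apply, hgβ, AlgHom.comp_apply, AlgHom.comp_apply] at h
    rw [SegreLib.theta_eq] at h
    simp only [AlgHom.comp_apply] at h
    erw [act_theta, act_theta] at h
    refine hβ ((MvPolynomial.tensorEquivSum k (Fin (r + 1)) (Fin (s + 1)) k).symm.injective ?_)
    refine (?_ : Function.Injective _) h
    rw [← LinearMap.rTensor_comp_lTensor]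
    exact (Module.Flat.rTensor_preserves_injective_linearMap _ (hα x m hm)).comp
      (Module.Flat.lTensor_preserves_injective_linearMap _ (hα y n hn))
  let I := LinearMap.ker (LinearMap.toSpanSingleton T P p)
  have hquot : Function.Injective ((Ideal.Quotient.mkₐ k I).comp g) := fun f f' h => hinj (by
    have := Ideal.Quotient.eq.1 h
    have h0 : (g f - g f') • p = 0 := this
    rwa [sub_smul, sub_eq_zero] at h0)
  have h1 := card_le_ringKrullDim ((Ideal.Quotient.mkₐ k I).comp g) hquot
  rw [Fintype.card_sum, Fintype.card_fin, Fintype.card_fin] at h1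
  refine h1.trans ((Module.supportDim_quotient_eq_ringKrullDim I).symm.le.trans ?_)
  exact Module.supportDim_le_of_injective (I.liftQ (LinearMap.toSpanSingleton T P p) le_rfl)
    (LinearMap.ker_eq_bot.1 (Submodule.ker_liftQ_eq_bot _ _ _ le_rfl))

end SegreLC
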