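import Groth.Agent.SegreLC.One
import Groth.Agent.GrModLib.WPoly
import Groth.Agent.GrModLib.CMLib
import Mathlib

/-! Segre products of shifted polynomial rings. -/

set_option autoImplicit false
set_option maxHeartbeats 800000
universe u
attribute [local instance] MvPolynomial.weightedGradedAlgebra

open DirectSum GrModLib MvPolynomial
open scoped Pointwise

namespace SegreLC

theorem lt_of_add_one_le {e : WithBot ℕ∞} {n : ℕ} (h : e + 1 ≤ ((n + 1 : ℕ) : WithBot ℕ∞)) :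
    e < ((n + 1 : ℕ) : WithBot ℕ∞) := by
  cases e with
  | bot => exact WithBot.bot_lt_coe _
  | coe e =>
    cases e with
    | top => exact absurd h (by simp only [not_le, WithBot.coe_top, top_add]; exact WithBot.coe_lt_coe.2 (ENat.natCast_lt_top _))
    | coe m => norm_cast at h ⊢

/-- A shifted grading. -/
noncomputable def shiftDec {k R : Type u} [Field k] [CommRing R] [Algebra k R] (𝒜 : ℤ → Submodule k R)
    [GradedAlgebra 𝒜] (a : ℤ) : DirectSum.Decomposition (fun n : ℤ => 𝒜 (n + a)) :=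
  DirectSum.IsInternal.chooseDecomposition _ (by
    have hint := DirectSum.Decomposition.isInternal 𝒜
    rw [DirectSum.isInternal_submodule_iff_iSupIndep_and_iSup_eq_top] at hint ⊢
    refine ⟨hint.1.comp (add_left_injective a), eq_top_iff.2 (hint.2.ge.trans (iSup_le fun n => ?_))⟩
    refine le_iSup_of_le (n - a) ?_
    rw [sub_add_cancel])

theorem shift_gradedSMul {k R : Type u} [Field k] [CommRing R] [Algebra k R] (𝒜 : ℤ → Submodule k R)
    [GradedAlgebra 𝒜] (a : ℤ) : SetLike.GradedSMul 𝒜 (fun n : ℤ => 𝒜 (n + a)) :=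
  ⟨fun {i j r m} hr hm => by
    show r • m ∈ 𝒜 (i + j + a)
    rw [add_assoc]; exact SetLike.mul_mem_graded hr hm⟩

/-- Vanishing moves along a bijection of any degree. -/
theorem van_of_bijective {R : Type u} [CommRing R] [IsNoetherianRing R] {ℱ : ℤ → AddSubgroup R} [GradedRing ℱ]
    {a : HomogeneousIdeal ℱ} (M N : GrLC.GMod.{u} ℱ) (π : M.carrier →ₗ[R] N.carrier) {e : ℤ}
    (hπ : GrLC.IsGrHomDeg M.gr N.gr π e) (hπb : Function.Bijective π) {q : ℕ} {m : ℤ} (h : Van a M.gr q m) :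
    Van a N.gr q (m + e) := by
  let Z := subG ℱ (ℳ := M.gr) ⊥ (bot_isHomogeneous M.gr)
  haveI : Subsingleton Z.carrier := inferInstanceAs (Subsingleton (⊥ : Submodule R M.carrier))
  have hzero : GrLC.IsGrHomDeg Z.gr M.gr (⊥ : Submodule R M.carrier).subtype 0 :=
    fun g z hz => by rw [add_zero]; exact hz
  exact van_rightG Z M N _ π hzero hπ (⊥ : Submodule R M.carrier).injective_subtype hπb.2
    ((LinearMap.ker_eq_bot.2 hπb.1).trans (⊥ : Submodule R M.carrier).range_subtype.symm)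
    (add_zero m) rfl h (van_of_subsingleton (q + 1) m)

theorem Hd_iff_van {k R : Type u} [Field k] [CommRing R] [Algebra k R] {𝒜 : ℤ → Submodule k R} [GradedAlgebra 𝒜]
    {X : GrLC.GMod.{u} (toAdd 𝒜)} (E : GrLC.StarInjRes (toAdd 𝒜) X.gr) (a : HomogeneousIdeal (toAdd 𝒜)) (q : ℕ)
    (n : ℤ) : Subsingleton (Hd E a q n) ↔ Van a X.gr q n := by
  rw [van_iff E]
  exact ⟨fun h y hy => congrArg Subtype.val (@Subsingleton.elim _ h ⟨y, hy⟩ 0),
    fun h => ⟨fun a b => Subtype.ext ((h a.1 a.2).trans (h b.1 b.2).symm)⟩⟩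

variable (k : Type u) [Field k]

/-- The standard grading of a polynomial ring. -/
noncomputable abbrev stdGr (N : ℕ) : ℤ → Submodule k (MvPolynomial (Fin N) k) :=
  MvPolynomial.weightedHomogeneousSubmodule k (fun _ : Fin N => (1 : ℤ))

theorem stdGr_pos (N : ℕ) (n : ℤ) (hn : n < 0) : stdGr k N n = ⊥ :=
  (Submodule.eq_bot_iff _).2 fun p hp => eq_zero_of_neg (wpoly_pos k (fun _ : Fin N => (1 : ℤ)) fun _ => one_pos) hn hp

theorem stdGr_zero (N : ℕ) : stdGr k N 0 = Submodule.span k {(1 : MvPolynomial (Fin N) k)} := by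
  refine le_antisymm (fun p hp => Submodule.mem_span_singleton.2 ⟨constantCoeff p, ?_⟩)
    (Submodule.span_le.2 (Set.singleton_subset_iff.2 SetLike.GradedOne.one_mem))
  rw [MvPolynomial.smul_eq_C_mul, mul_one]
  exact (wpoly_eq_C k (fun _ : Fin N => (1 : ℤ)) (fun _ => one_pos) hp).symm

theorem stdGr_eq_bot_iff (N : ℕ) [NeZero N] (n : ℤ) : stdGr k N n = ⊥ ↔ n < 0 := by
  refine ⟨fun h => ?_, stdGr_pos k N n⟩
  by_contra hn
  have h1 : (X (0 : Fin N) : MvPolynomial (Fin N) k) ^ n.toNat ∈ stdGr k N n := by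
    have := SetLike.pow_mem_graded (A := stdGr k N) n.toNat
      (show (X (0 : Fin N) : MvPolynomial (Fin N) k) ∈ stdGr k N 1 from isWeightedHomogeneous_X k _ _)
    rwa [nsmul_one, Int.toNat_of_nonneg (by omega)] at this
  rw [h, Submodule.mem_bot] at h1
  exact pow_ne_zero _ (X_ne_zero _) h1

/-- The top cohomology of a polynomial ring lives in all degrees up to minus the number of variables. -/
theorem van_poly_iff (N : ℕ) (n : ℤ) :
    Van (a := posIdeal (toAdd (stdGr k (N + 1)))) (toAdd (stdGr k (N + 1))) (N + 1) n ↔ -((N + 1 : ℕ) : ℤ) < n := by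
  let 𝒮 := toAdd (stdGr k (N + 1))
  let M : GrLC.GMod.{u} 𝒮 := GrLC.GMod.of 𝒮 (MvPolynomial (Fin (N + 1)) k) 𝒮
  have hw : ∀ i : Fin (N + 1), (0 : ℤ) < (fun _ : Fin (N + 1) => (1 : ℤ)) i := fun _ => one_pos
  have hsum : (∑ _i : Fin (N + 1), (1 : ℤ)) = ((N + 1 : ℕ) : ℤ) := by simp
  obtain ⟨I⟩ := nonempty_starInjRes (𝒜 := 𝒮) 𝒮
  obtain ⟨hhi, y, hy, hy0⟩ := wpoly_H k (fun _ : Fin (N + 1) => (1 : ℤ)) hw I
  rw [hsum] at hhi hy
  refine ⟨fun h => ?_, fun h => (van_iff I (N + 1) n).2 (hhi n h)⟩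
  by_contra hn
  let x : MvPolynomial (Fin (N + 1)) k := X 0
  have hx : x ∈ 𝒮 1 := isWeightedHomogeneous_X k _ _
  let u : M.carrier →ₗ[MvPolynomial (Fin (N + 1)) k] M.carrier := x • LinearMap.id
  have hu : GrLC.IsGrHomDeg M.gr M.gr u 1 := fun g z hz => (add_comm 1 g) ▸ smul_mem 𝒮 M.gr hx hz
  let Q := quotG 𝒮 (ℳ := M.gr) (LinearMap.range u) (range_isHomogeneous_deg hu)
  have hui : Function.Injective u := fun v w hvw =>
    mul_left_cancel₀ (M₀ := MvPolynomial (Fin (N + 1)) k) (X_ne_zero (0 : Fin (N + 1)) : x ≠ 0) hvw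
  have hQ : Subsingleton (LocCoh.H (posIdeal 𝒮).toIdeal (N + 1) Q.carrier) := by
    refine LocCohLib.subsingleton_H_of_supportDim_lt _ _ ?_
    have h2 : Module.supportDim (MvPolynomial (Fin (N + 1)) k) Q.carrier =
        ringKrullDim (MvPolynomial (Fin (N + 1)) k ⧸ Ideal.span {x}) := by
      rw [← Module.supportDim_quotient_eq_ringKrullDim]
      refine Module.supportDim_eq_of_equiv (Submodule.quotEquivOfEq (LinearMap.range u) (Ideal.span {x}) ?_)
      ext z
      rw [Ideal.mem_span_singleton']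
      exact ⟨fun ⟨b, hb⟩ => ⟨b, (mul_comm (G := MvPolynomial (Fin (N + 1)) k) b x).trans hb⟩,
        fun ⟨b, hb⟩ => ⟨b, (mul_comm (G := MvPolynomial (Fin (N + 1)) k) x b).trans hb⟩⟩
    have h3 := ringKrullDim_quotient_succ_le_of_nonZeroDivisor
      (mem_nonZeroDivisors_of_ne_zero (X_ne_zero (R := k) (0 : Fin (N + 1))))
    rw [dim_mvPolynomial k] at h3
    rw [h2]
    exact lt_of_add_one_le h3
  have step : ∀ j : ℕ, Van (posIdeal 𝒮) M.gr (N + 1) (-((N + 1 : ℕ) : ℤ) - j) →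
      Van (posIdeal 𝒮) M.gr (N + 1) (-((N + 1 : ℕ) : ℤ)) := by
    intro j
    induction j with
    | zero => intro h; rwa [Nat.cast_zero, sub_zero] at h
    | succ j ih =>
      intro h
      exact ih (van_midG M M Q u (LinearMap.range u).mkQ (d := 1) (e := 0) hu
        (fun g z hz => by rw [add_zero]; exact ⟨z, hz, rfl⟩) hui (LinearMap.range u).mkQ_surjective
        (LinearMap.range u).ker_mkQ (by push_cast; ring) (add_zero _) h (van_of_subsingleton_H hQ _))
  obtain ⟨j, hj⟩ : ∃ j : ℕ, n = -((N + 1 : ℕ) : ℤ) - j := ⟨(-((N + 1 : ℕ) : ℤ) - n).toNat, by omega⟩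
  exact hy0 ((van_iff I (N + 1) _).1 (step j (hj ▸ h)) y hy)

/-- The same after a shift. -/
theorem Hd_shift_iff (N : ℕ) (a : ℤ) {X : GrLC.GMod.{u} (toAdd (stdGr k (N + 1)))}
    (π : X.carrier ≃ₗ[MvPolynomial (Fin (N + 1)) k] MvPolynomial (Fin (N + 1)) k)
    (hπ : ∀ (n : ℤ) (x : X.carrier), x ∈ X.gr n ↔ π x ∈ stdGr k (N + 1) (n + a))
    (E : GrLC.StarInjRes (toAdd (stdGr k (N + 1))) X.gr) {m : HomogeneousIdeal (stdGr k (N + 1))}
    (hm : m.toIdeal = Ideal.span (⋃ n ∈ Set.Ioi (0 : ℤ), (stdGr k (N + 1) n : Set (MvPolynomial (Fin (N + 1)) k))))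
    (n : ℤ) : Subsingleton (Hd E (toAddIdeal m) (N + 1) n) ↔ -((N + 1 : ℕ) : ℤ) < n + a := by
  obtain hm' : toAddIdeal m = posIdeal (toAdd (stdGr k (N + 1))) := HomogeneousIdeal.ext hm
  rw [Hd_iff_van, hm', ← van_poly_iff k N (n + a)]
  let M : GrLC.GMod.{u} (toAdd (stdGr k (N + 1))) :=
    GrLC.GMod.of (toAdd (stdGr k (N + 1))) (MvPolynomial (Fin (N + 1)) k) (toAdd (stdGr k (N + 1)))
  refine ⟨fun h => van_of_bijective X M π.toLinearMap (fun g z hz => (hπ g z).1 hz) π.bijective h, fun h => ?_⟩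
  have h1 := van_of_bijective M X π.symm.toLinearMap (e := -a) (fun g z hz => (hπ _ _).2 (by
    rw [neg_add_cancel_right]; exact (π.apply_symm_apply z).symm ▸ hz))
    π.symm.bijective h
  rwa [add_neg_cancel_right] at h1

end SegreLC
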