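import Groth.Agent.GrModLib.StarDim
import Groth.Agent.CommAlgDim.DepthBounds
import Mathlib

/-! Dimensions of localisations of graded modules as heights in the support. -/

set_option autoImplicit false
universe u

open DirectSum GrModLib

namespace SegreLC

section Local

variable {A : Type u} [CommRing A] {M : Type u} [AddCommGroup M] [Module A M]

/-- The dimension of a localisation is a height in the support. -/
theorem supportDim_atPrime (p : Module.support A M) :
    Module.supportDim (Localization.AtPrime p.1.asIdeal) (LocalizedModule p.1.asIdeal.primeCompl M) =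
      (Order.height p : WithBot ℕ∞) := by
  let B := Localization.AtPrime p.1.asIdeal
  let Mp := LocalizedModule p.1.asIdeal.primeCompl M
  have hsmul : ∀ (r : A) (m : M) (s : p.1.asIdeal.primeCompl),
      algebraMap A B r • (IsLocalizedModule.mk' (LocalizedModule.mkLinearMap p.1.asIdeal.primeCompl M) m s : Mp) =
        IsLocalizedModule.mk' (LocalizedModule.mkLinearMap p.1.asIdeal.primeCompl M) (r • m) s := fun r m s => by
    rw [algebraMap_smul, ← IsLocalizedModule.mk'_smul]
  have hdown : ∀ P : PrimeSpectrum B, P ∈ Module.support B Mp →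
      (⟨P.asIdeal.comap (algebraMap A B), inferInstance⟩ : PrimeSpectrum A) ∈ Module.support A M := by
    intro P hP
    obtain ⟨z, hz⟩ := Module.mem_support_iff'.1 hP
    obtain ⟨⟨m, s⟩, rfl⟩ := IsLocalizedModule.mk'_surjective p.1.asIdeal.primeCompl
      (LocalizedModule.mkLinearMap p.1.asIdeal.primeCompl M) z
    rw [Module.mem_support_iff']
    refine ⟨m, fun r hr h0 => hz (algebraMap A B r) hr ?_⟩
    rw [Function.uncurry_apply_pair, hsmul, h0, IsLocalizedModule.mk'_zero]
  have hle : ∀ P : PrimeSpectrum B, P.asIdeal.comap (algebraMap A B) ≤ p.1.asIdeal := fun P => by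
    have h := Ideal.comap_mono (f := algebraMap A B) (IsLocalRing.le_maximalIdeal (R := B) P.isPrime.ne_top)
    exact h.trans (Localization.AtPrime.under_maximalIdeal (I := p.1.asIdeal)).le
  have hup : ∀ q : Module.support A M, q ≤ p → ∃ P : Module.support B Mp,
      P.1.asIdeal.comap (algebraMap A B) = q.1.asIdeal := by
    intro q hq
    have hd : Disjoint (p.1.asIdeal.primeCompl : Set A) q.1.asIdeal :=
      Set.disjoint_left.mpr fun a ha haq => ha (hq haq)
    have hP := IsLocalization.isPrime_of_isPrime_disjoint p.1.asIdeal.primeCompl B q.1.asIdeal q.1.isPrime hd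
    have hcomap := IsLocalization.under_map_of_isPrime_disjoint p.1.asIdeal.primeCompl B q.1.isPrime hd
    refine ⟨⟨⟨_, hP⟩, ?_⟩, hcomap⟩
    obtain ⟨m, hm⟩ := Module.mem_support_iff'.1 q.2
    rw [Module.mem_support_iff']
    refine ⟨LocalizedModule.mkLinearMap p.1.asIdeal.primeCompl M m, fun x hx h0 => ?_⟩
    obtain ⟨a, s, rfl⟩ := IsLocalization.exists_mk'_eq p.1.asIdeal.primeCompl x
    have ha : a ∉ q.1.asIdeal := fun ha => hx (IsLocalization.mk'_mem_iff.2 (Ideal.mem_map_of_mem _ ha))
    have h1 : LocalizedModule.mkLinearMap p.1.asIdeal.primeCompl M (a • m) = 0 := by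
      have h2 := congrArg (fun z => algebraMap A B s • z) h0
      rw [smul_zero, ← mul_smul, IsLocalization.mk'_spec', algebraMap_smul, ← map_smul] at h2
      exact h2
    obtain ⟨t, ht⟩ := (IsLocalizedModule.eq_zero_iff p.1.asIdeal.primeCompl
      (LocalizedModule.mkLinearMap p.1.asIdeal.primeCompl M)).1 h1
    refine hm ((t : A) * a) (q.1.isPrime.mul_notMem (fun h => t.2 (hq h)) ha) ?_
    rw [mul_smul]
    exact ht
  let g : Module.support B Mp → Set.Iic p := fun P =>
    ⟨⟨⟨P.1.asIdeal.comap (algebraMap A B), inferInstance⟩, hdown P.1 P.2⟩, hle P.1⟩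
  have hg : ∀ P Q, g P ≤ g Q ↔ P ≤ Q := fun P Q => by
    refine ⟨fun h => ?_, fun h => Ideal.comap_mono (f := algebraMap A B) h⟩
    have h' := Ideal.map_mono (f := algebraMap A B) (show P.1.asIdeal.comap (algebraMap A B) ≤
      Q.1.asIdeal.comap (algebraMap A B) from h)
    rwa [← Ideal.under_def, ← Ideal.under_def, IsLocalization.map_under p.1.asIdeal.primeCompl B,
      IsLocalization.map_under p.1.asIdeal.primeCompl B] at h'
  let e : Module.support B Mp ↪o Set.Iic p := OrderEmbedding.ofMapLEIff g hg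
  have hsurj : Function.Surjective e := fun q => by
    obtain ⟨P, hP⟩ := hup q.1 q.2
    exact ⟨P, Subtype.ext (Subtype.ext (PrimeSpectrum.ext hP))⟩
  rw [Order.height_eq_krullDim_Iic]
  exact Order.krullDim_eq_of_orderIso (OrderIso.ofRelIsoLT
    (RelIso.ofSurjective e.ltEmbedding hsurj))

/-- Chains above a prime in the support add to chains below it. -/
theorem height_add_le [IsNoetherianRing A] (c : Module.support A M) (q : Module.support A M)
    (hcq : c ≤ q) :
    Order.height c + (q.1.asIdeal.map (Ideal.Quotient.mk c.1.asIdeal)).height ≤ Order.height q := by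
  let I := c.1.asIdeal
  have hsup : ∀ P : PrimeSpectrum (A ⧸ I), c.1 ≤ ⟨P.asIdeal.comap (Ideal.Quotient.mk I), inferInstance⟩ := fun P =>
    fun x hx => by
      show Ideal.Quotient.mk I x ∈ P.asIdeal
      rw [Ideal.Quotient.eq_zero_iff_mem.2 hx]; exact zero_mem _
  let g : PrimeSpectrum (A ⧸ I) → Module.support A M := fun P =>
    ⟨⟨P.asIdeal.comap (Ideal.Quotient.mk I), inferInstance⟩, Module.mem_support_mono (hsup P) c.2⟩
  have hg : StrictMono g := fun P Q h => by
    refine lt_of_le_of_ne (Ideal.comap_mono (f := Ideal.Quotient.mk I) (show P.asIdeal ≤ Q.asIdeal from h.le))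
      fun he => h.ne (PrimeSpectrum.ext ?_)
    exact Ideal.comap_injective_of_surjective _ Ideal.Quotient.mk_surjective
      (congrArg (fun z : Module.support A M => z.1.asIdeal) he)
  have hp : (q.1.asIdeal.map (Ideal.Quotient.mk I)).IsPrime :=
    Ideal.map_isPrime_of_surjective Ideal.Quotient.mk_surjective (by rw [Ideal.mk_ker]; exact hcq)
  have hgq : g ⟨_, hp⟩ = q := Subtype.ext (PrimeSpectrum.ext (by
    show (q.1.asIdeal.map (Ideal.Quotient.mk I)).comap (Ideal.Quotient.mk I) = q.1.asIdeal
    rw [Ideal.comap_map_quotientMk, sup_eq_right.2 (show I ≤ q.1.asIdeal from hcq)]))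
  rw [PrimeSpectrum.height_eq_orderHeight ⟨_, hp⟩]
  have key : ∀ (k : ℕ) (P : PrimeSpectrum (A ⧸ I)), (k : ℕ∞) ≤ Order.height P →
      Order.height c + k ≤ Order.height (g P) := by
    intro k
    induction k with
    | zero => exact fun P _ => by rw [Nat.cast_zero, add_zero]; exact Order.height_mono (hsup P)
    | succ k ih =>
      intro P hP
      obtain ⟨s, hs, hl⟩ := Order.exists_series_of_le_height P hP
      have hlt : (⟨k, by omega⟩ : Fin (s.length + 1)) < Fin.last _ := Fin.mk_lt_mk.2 (by omega)
      refine le_trans ?_ (Order.height_add_one_le (hg (lt_of_lt_of_eq (s.strictMono hlt) hs)))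
      rw [Nat.cast_succ, ← add_assoc]
      exact add_le_add (ih _ (Order.index_le_height s ⟨k, by omega⟩)) le_rfl
  induction hh : Order.height (⟨_, hp⟩ : PrimeSpectrum (A ⧸ I)) using ENat.recTopCoe with
  | top =>
    exact absurd hh (by rw [← PrimeSpectrum.height_eq_orderHeight ⟨_, hp⟩]; exact Ideal.height_ne_top hp.ne_top)
  | coe n => exact (key n _ hh.ge).trans_eq (by rw [hgq])

end Local

section Graded

variable {R : Type u} [CommRing R] [IsNoetherianRing R] {𝒜 : ℤ → AddSubgroup R} [GradedRing 𝒜]
  {M : Type u} [AddCommGroup M] [Module R M] {ℳ : ℤ → AddSubgroup M} [DirectSum.Decomposition ℳ]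
  [SetLike.GradedSMul 𝒜 ℳ]

include ℳ in
variable (ℳ) in
/-- The core of a prime in the support is in the support. -/
theorem core_mem_support [Module.Finite R M] (q : Module.support R M)
    [(Ideal.homogeneousCore 𝒜 q.1.asIdeal).toIdeal.IsPrime] :
    (⟨(Ideal.homogeneousCore 𝒜 q.1.asIdeal).toIdeal, inferInstance⟩ : PrimeSpectrum R) ∈ Module.support R M := by
  classical
  have hq := q.2
  rw [Module.mem_support_iff_of_finite] at hq ⊢
  have hhom : (Module.annihilator R M).IsHomogeneous 𝒜 := by
    intro i r hr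
    rw [Module.mem_annihilator] at hr ⊢
    have hg : ∀ (g : ℤ) (m : M), m ∈ ℳ g → pr 𝒜 i r • m = 0 := by
      intro g m hm
      have h1 := pr_smul_mem 𝒜 ℳ hm r (i + g)
      rw [hr, map_zero, add_sub_cancel_right] at h1
      exact h1.symm
    intro m
    show pr 𝒜 i r • m = 0
    rw [← DirectSum.sum_support_decompose ℳ m, Finset.smul_sum]
    exact Finset.sum_eq_zero fun g _ => hg g _ (decompose ℳ m g).2
  rw [← hhom.toIdeal_homogeneousCore_eq_self]
  exact Ideal.homogeneousCore_mono 𝒜 hq

variable (𝒜) in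
/-- No prime lies strictly between a prime and its core. -/
theorem not_lt_of_core_lt (p q : Ideal R) [hp : p.IsPrime] [hq : q.IsPrime] (hqp : q < p)
    (hcq : (p.homogeneousCore 𝒜).toIdeal < q) : False := by
  let c := (p.homogeneousCore 𝒜).toIdeal
  haveI hcp : c.IsPrime := Ideal.IsPrime.homogeneousCore ‹p.IsPrime›
  have hcle : c ≤ p := Ideal.toIdeal_homogeneousCore_le 𝒜 p
  have hbd : (p.map (Ideal.Quotient.mk c)).height ≤ 1 := by
    have h := (regular_quot p c (p.homogeneousCore 𝒜).isHomogeneous hcle notMem_of_notMem_core).2.2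
    simpa using h
  haveI : (q.map (Ideal.Quotient.mk c)).IsPrime :=
    Ideal.map_isPrime_of_surjective Ideal.Quotient.mk_surjective (by rw [Ideal.mk_ker]; exact hcq.le)
  haveI : (p.map (Ideal.Quotient.mk c)).IsPrime :=
    Ideal.map_isPrime_of_surjective Ideal.Quotient.mk_surjective (by rw [Ideal.mk_ker]; exact hcle)
  have hmem : ∀ J : Ideal R, c ≤ J → (J.map (Ideal.Quotient.mk c)).comap (Ideal.Quotient.mk c) = J :=
    fun J hJ => by rw [Ideal.comap_map_quotientMk, sup_eq_right.2 hJ]
  have h3 : q.map (Ideal.Quotient.mk c) < p.map (Ideal.Quotient.mk c) :=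
    lt_of_le_of_ne (Ideal.map_mono hqp.le) fun h => hqp.ne (by rw [← hmem q hcq.le, h, hmem p hcle])
  have h4 : (⊥ : Ideal (R ⧸ c)) < q.map (Ideal.Quotient.mk c) :=
    bot_lt_iff_ne_bot.2 fun h => hcq.ne (by
      have h' := hmem q hcq.le
      rw [h, ← RingHom.ker_eq_comap_bot, Ideal.mk_ker] at h'
      exact h')
  have h5 : (1 : ℕ∞) ≤ (q.map (Ideal.Quotient.mk c)).height := by
    have := Ideal.height_add_one_le_of_lt_of_isPrime h4
    rwa [Ideal.height_bot, zero_add] at this
  have h6 : (2 : ℕ∞) ≤ (p.map (Ideal.Quotient.mk c)).height := by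
    refine le_trans ?_ (Ideal.height_add_one_le_of_lt_of_isPrime h3)
    rw [show (2 : ℕ∞) = 1 + 1 from rfl]
    exact add_le_add h5 le_rfl
  exact absurd (h6.trans hbd) (by norm_num)

theorem height_ne_top (q : Module.support R M) : Order.height q ≠ ⊤ := by
  have h : Order.height q ≤ Order.height q.1 :=
    Order.height_le_height_apply_of_strictMono Subtype.val (fun _ _ h => h) q
  rw [← PrimeSpectrum.height_eq_orderHeight] at h
  exact ne_top_of_le_ne_top (Ideal.height_ne_top q.1.isPrime.ne_top) h

include ℳ in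
variable (ℳ) in
/-- A point of the support is at most one step above its core. -/
theorem height_le_core [Module.Finite R M] : ∀ (p c : Module.support R M),
    c.1.asIdeal = (Ideal.homogeneousCore 𝒜 p.1.asIdeal).toIdeal → Order.height p ≤ Order.height c + 1 := by
  suffices h : ∀ (k : ℕ) (p c : Module.support R M), Order.height p ≤ k →
      c.1.asIdeal = (Ideal.homogeneousCore 𝒜 p.1.asIdeal).toIdeal → Order.height p ≤ Order.height c + 1 by
    intro p c hc
    obtain ⟨k, hk⟩ := ENat.ne_top_iff_exists.1 (height_ne_top p)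
    exact h k p c hk.ge hc
  intro k
  induction k with
  | zero => intro p c hp _; exact le_trans hp (by simp)
  | succ k ih =>
    intro p c hp hc
    obtain ⟨n, hn⟩ := ENat.ne_top_iff_exists.1 (height_ne_top c)
    rw [← hn, show (n : ℕ∞) + 1 = ((n + 1 : ℕ) : ℕ∞) by push_cast; rfl, Order.height_le_coe_iff]
    intro q hqp
    rw [show ((n + 1 : ℕ) : ℕ∞) = Order.height c + 1 by push_cast; rw [hn]]
    refine lt_of_le_of_lt ?_ (ENat.lt_add_one_iff (height_ne_top c) |>.2 le_rfl)
    haveI : (Ideal.homogeneousCore 𝒜 q.1.asIdeal).toIdeal.IsPrime := Ideal.IsPrime.homogeneousCore q.1.isPrime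
    let c' : Module.support R M := ⟨⟨(Ideal.homogeneousCore 𝒜 q.1.asIdeal).toIdeal, inferInstance⟩,
      core_mem_support ℳ q⟩
    have hc'le : c'.1.asIdeal ≤ q.1.asIdeal := Ideal.toIdeal_homogeneousCore_le 𝒜 q.1.asIdeal
    have hcc : c'.1.asIdeal ≤ c.1.asIdeal := by
      rw [hc]; exact Ideal.homogeneousCore_mono 𝒜 (show q.1.asIdeal ≤ p.1.asIdeal from hqp.le)
    rcases eq_or_lt_of_le hc'le with he | hlt
    · exact Order.height_mono (show q.1.asIdeal ≤ c.1.asIdeal from he.symm.le.trans hcc)
    · rcases eq_or_lt_of_le hcc with hcq | hcq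
      · exact (not_lt_of_core_lt 𝒜 p.1.asIdeal q.1.asIdeal hqp (by rw [← hc, ← hcq]; exact hlt)).elim
      · have h1 : Order.height q + 1 ≤ ((k + 1 : ℕ) : ℕ∞) := (Order.height_add_one_le hqp).trans hp
        have h2 : Order.height q ≤ k := by
          rw [Nat.cast_succ] at h1
          exact (ENat.add_le_add_iff_right ENat.one_ne_top).1 h1
        exact (ih q c' h2 rfl).trans (Order.height_add_one_le (show c' < c from hcq))

end Graded

end SegreLC
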