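import Groth.Agent.SegreLC.TotSetup

/-! The top class of a tensor product of two resolutions with quotient complexes. -/

set_option autoImplicit false
universe u

open TensorProduct

namespace SegreLC

variable {k : Type u} [Field k] {X : ℕ → Type u} [∀ n, AddCommGroup (X n)] [∀ n, Module k (X n)]
  {Y : ℕ → Type u} [∀ n, AddCommGroup (Y n)] [∀ n, Module k (Y n)]
  {X' : ℕ → Type u} [∀ n, AddCommGroup (X' n)] [∀ n, Module k (X' n)]
  {Y' : ℕ → Type u} [∀ n, AddCommGroup (Y' n)] [∀ n, Module k (Y' n)]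

/-- One bidegree inside a total complex. -/
noncomputable def ins (p q n : ℕ) (h : p + q = n) : X p ⊗[k] Y q →ₗ[k] tot (k := k) X Y n := by
  classical
  exact (LinearMap.single k (fun i => ∀ j, X i ⊗[k] Y j) p ∘ₗ
      LinearMap.single k (fun j => X p ⊗[k] Y j) q).codRestrict _ fun z i j hij => by
    rw [LinearMap.comp_apply, LinearMap.coe_single, LinearMap.coe_single]
    by_cases hi : i = p
    · subst hi
      rw [Pi.single_eq_same, Pi.single_eq_of_ne (by omega)]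
    · rw [Pi.single_eq_of_ne hi]
      rfl

theorem ins_same {p q n : ℕ} (h : p + q = n) (z : X p ⊗[k] Y q) : (ins p q n h z).1 p q = z := by
  classical
  show (LinearMap.single k (fun i => ∀ j, X i ⊗[k] Y j) p
    (LinearMap.single k (fun j => X p ⊗[k] Y j) q z)) p q = z
  rw [LinearMap.coe_single, LinearMap.coe_single, Pi.single_eq_same, Pi.single_eq_same]

theorem ins_ne {p q n : ℕ} (h : p + q = n) (z : X p ⊗[k] Y q) {i j : ℕ} (hij : i ≠ p ∨ j ≠ q) :
    (ins p q n h z).1 i j = 0 := by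
  classical
  show (LinearMap.single k (fun i => ∀ j, X i ⊗[k] Y j) p
    (LinearMap.single k (fun j => X p ⊗[k] Y j) q z)) i j = 0
  rw [LinearMap.coe_single, LinearMap.coe_single]
  by_cases hi : i = p
  · subst hi
    rw [Pi.single_eq_same, Pi.single_eq_of_ne (hij.resolve_left (fun h => h rfl))]
  · rw [Pi.single_eq_of_ne hi]
    rfl

/-- An element of a total complex vanishing off one bidegree. -/
theorem eq_ins {p q n : ℕ} (h : p + q = n) (v : tot (k := k) X Y n)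
    (hv : ∀ i j, i + j = n → i ≠ p → v.1 i j = 0) : v = ins p q n h (v.1 p q) := by
  refine Subtype.ext (funext fun i => funext fun j => ?_)
  by_cases hij : i = p ∧ j = q
  · obtain ⟨rfl, rfl⟩ := hij
    rw [ins_same]
  · rw [ins_ne h _ (not_and_or.1 hij)]
    by_cases hn : i + j = n
    · exact hv i j hn fun hi => hij ⟨hi, by omega⟩
    · exact v.2 i j hn

theorem totMap_ins (f : ∀ n, X n →ₗ[k] X' n) (g : ∀ n, Y n →ₗ[k] Y' n) {p q n : ℕ} (h : p + q = n)
    (z : X p ⊗[k] Y q) : totMap f g n (ins p q n h z) = ins p q n h (TensorProduct.map (f p) (g q) z) := by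
  refine Subtype.ext (funext fun i => funext fun j => ?_)
  rw [totMap_val]
  by_cases hij : i = p ∧ j = q
  · obtain ⟨rfl, rfl⟩ := hij
    rw [ins_same, ins_same]
  · rw [ins_ne h _ (not_and_or.1 hij), ins_ne h _ (not_and_or.1 hij), map_zero]

/-- The differential of one bidegree. -/
theorem totD_ins (dX : ∀ n, X n →ₗ[k] X (n + 1)) (dY : ∀ n, Y n →ₗ[k] Y (n + 1)) {p q n : ℕ} (h : p + q = n)
    (x : X p) (y : Y q) : totD dX dY n (ins p q n h (x ⊗ₜ y)) =
      ins (p + 1) q (n + 1) (by omega) (dX p x ⊗ₜ y) +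
        (sgn p : k) • ins p (q + 1) (n + 1) (by omega) (x ⊗ₜ dY q y) := by
  refine Subtype.ext (funext fun i => funext fun j => ?_)
  show D dX dY (ins p q n h (x ⊗ₜ y)).1 i j = _ + (sgn p : k) • (ins p (q + 1) (n + 1) _ (x ⊗ₜ dY q y)).1 i j
  have e1 : ∀ i' j', TensorProduct.map (dX i') LinearMap.id ((ins p q n h (x ⊗ₜ[k] y)).1 i' j') =
      (ins (p + 1) q (n + 1) (by omega) (dX p x ⊗ₜ[k] y)).1 (i' + 1) j' := fun i' j' => by
    by_cases hij : i' = p ∧ j' = q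
    · obtain ⟨rfl, rfl⟩ := hij
      rw [ins_same, ins_same, TensorProduct.map_tmul, LinearMap.id_apply]
    · rw [ins_ne h _ (not_and_or.1 hij), map_zero, ins_ne _ _ ((not_and_or.1 hij).imp (by omega) id)]
  have e2 : ∀ i' j', (sgn i' : k) • TensorProduct.map LinearMap.id (dY j') ((ins p q n h (x ⊗ₜ[k] y)).1 i' j') =
      (sgn p : k) • (ins p (q + 1) (n + 1) (by omega) (x ⊗ₜ[k] dY q y)).1 i' (j' + 1) := fun i' j' => by
    by_cases hij : i' = p ∧ j' = q
    · obtain ⟨rfl, rfl⟩ := hij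
      rw [ins_same, ins_same, TensorProduct.map_tmul, LinearMap.id_apply]
    · rw [ins_ne h _ (not_and_or.1 hij), map_zero, smul_zero,
        ins_ne _ _ ((not_and_or.1 hij).imp id (by omega)), smul_zero]
  have z1 : ∀ j', (ins (p + 1) q (n + 1) (by omega) (dX p x ⊗ₜ[k] y)).1 0 j' = 0 := fun j' =>
    ins_ne _ _ (Or.inl (by omega))
  have z2 : ∀ i', (ins p (q + 1) (n + 1) (by omega) (x ⊗ₜ[k] dY q y)).1 i' 0 = 0 := fun i' =>
    ins_ne _ _ (Or.inr (by omega))
  cases i with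
  | zero =>
    cases j with
    | zero => rw [D_zero_zero, z2, smul_zero]; exact (z1 0).symm.trans (add_zero _).symm
    | succ j =>
      rw [D_zero_succ, ← e2]
      rw [sgn_zero, one_smul]
      exact (zero_add _).symm.trans (congrArg (· + _) (z1 (j + 1)).symm)
  | succ i =>
    cases j with
    | zero =>
      rw [D_succ_zero, z2, smul_zero, e1]
      exact (add_zero _).symm
    | succ j =>
      rw [D_succ_succ, e1, e2]

variable {A B : Type u} [AddCommGroup A] [Module k A] [AddCommGroup B] [Module k B]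
  {dX : ∀ n, X n →ₗ[k] X (n + 1)} {dY : ∀ n, Y n →ₗ[k] Y (n + 1)} {dX' : ∀ n, X' n →ₗ[k] X' (n + 1)}
  {dY' : ∀ n, Y' n →ₗ[k] Y' (n + 1)} {qX : ∀ n, X n →ₗ[k] X' n} {qY : ∀ n, Y n →ₗ[k] Y' n}
  (SX : Setup dX dX' qX A) (SY : Setup dY dY' qY B)
  {HX HY H : Type u} [AddCommGroup HX] [Module k HX] [AddCommGroup HY] [Module k HY] [AddCommGroup H] [Module k H]

namespace Setup

/-- Elements with torsion differential. -/
abbrev Wk (dX : ∀ n, X n →ₗ[k] X (n + 1)) (qX : ∀ n, X n →ₗ[k] X' n) (a : ℕ) : Submodule k (X (a + 1)) :=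
  (Zk dX qX (a + 2)).comap (dX (a + 1))

/-- The class of the differential. -/
noncomputable def cls {a : ℕ} (ΨX : Zk dX qX (a + 2) →ₗ[k] HX) : Wk dX qX a →ₗ[k] HX :=
  ΨX ∘ₗ ((dX (a + 1)).restrict fun _ hu => hu)

include SX

theorem cls_surjective {a : ℕ} {ΨX : Zk dX qX (a + 2) →ₗ[k] HX} (hs : Function.Surjective ΨX) :
    Function.Surjective (cls ΨX) := fun x => by
  obtain ⟨z, rfl⟩ := hs x
  obtain ⟨u, hu⟩ := (SX.exact₁ (a + 1)).le z.2.1
  exact ⟨⟨u, show dX (a + 1) u ∈ _ by rw [hu]; exact z.2⟩, congrArg ΨX (Subtype.ext hu)⟩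

theorem cls_eq_zero {a : ℕ} {ΨX : Zk dX qX (a + 2) →ₗ[k] HX}
    (hk : LinearMap.ker ΨX = (Bk dX qX (a + 2)).comap (Zk dX qX (a + 2)).subtype) (u : Wk dX qX a) :
    cls ΨX u = 0 ↔ ∃ c w, qX (a + 1) c = 0 ∧ u.1 = c + dX a w := by
  constructor
  · intro h
    obtain ⟨c, hc, hcu⟩ := hk.le h
    have h1 : dX (a + 1) (u.1 - c) = 0 := by rw [map_sub]; exact sub_eq_zero.2 hcu.symm
    obtain ⟨w, hw⟩ := (SX.exact₁ a).le h1
    exact ⟨c, w, LinearMap.mem_ker.1 hc, by rw [hw, add_sub_cancel]⟩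
  · rintro ⟨c, w, hc, hu⟩
    refine LinearMap.mem_ker.1 (hk.ge ⟨c, LinearMap.mem_ker.2 hc, ?_⟩)
    show dX (a + 1) c = dX (a + 1) u.1
    rw [hu, map_add, SX.dd_apply, add_zero]

/-- The harmonic part of an element with torsion differential. -/
theorem harm_eq_zero {a : ℕ} {ΨX : Zk dX qX (a + 2) →ₗ[k] HX}
    (hk : LinearMap.ker ΨX = (Bk dX qX (a + 2)).comap (Zk dX qX (a + 2)).subtype) (u : Wk dX qX a) :
    SX.sp.e (a + 1) (qX (a + 1) u.1) = 0 ↔ cls ΨX u = 0 := by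
  constructor
  · intro h
    have h1 := LinearMap.congr_fun (SX.sp.hd_succ a) (qX (a + 1) u.1)
    rw [LinearMap.add_apply, LinearMap.comp_apply, LinearMap.comp_apply, LinearMap.sub_apply, LinearMap.id_apply,
      h, sub_zero, ← SX.comm_apply, LinearMap.mem_ker.1 u.2.2, map_zero, zero_add] at h1
    obtain ⟨x, hx⟩ := SX.surj a (SX.sp.h a (qX (a + 1) u.1))
    refine (SX.cls_eq_zero hk u).2 ⟨u.1 - dX a x, x, ?_, (sub_add_cancel _ _).symm⟩
    rw [map_sub, SX.comm_apply, hx, h1, sub_self]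
  · intro h
    obtain ⟨c, w, hc, hu⟩ := (SX.cls_eq_zero hk u).1 h
    rw [hu, map_add, hc, zero_add, SX.comm_apply]
    exact LinearMap.congr_fun (SX.sp.ed a) _

theorem exists_section {a : ℕ} {ΨX : Zk dX qX (a + 2) →ₗ[k] HX} (hs : Function.Surjective ΨX)
    (hk : LinearMap.ker ΨX = (Bk dX qX (a + 2)).comap (Zk dX qX (a + 2)).subtype) :
    ∃ σ : HX →ₗ[k] Wk dX qX a, (∀ x, cls ΨX (σ x) = x) ∧
      Function.Injective (SX.sp.e (a + 1) ∘ₗ qX (a + 1) ∘ₗ (Wk dX qX a).subtype ∘ₗ σ) := by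
  obtain ⟨σ, hσ⟩ := (cls ΨX).exists_rightInverse_of_surjective (LinearMap.range_eq_top.2 (SX.cls_surjective hs))
  refine ⟨σ, LinearMap.congr_fun hσ, (injective_iff_map_eq_zero _).2 fun x hx => ?_⟩
  exact (LinearMap.congr_fun hσ x).symm.trans ((SX.harm_eq_zero hk (σ x)).1 hx)

theorem exists_lift (a : ℕ) :
    ∃ l : X' (a + 1) →ₗ[k] Wk dX qX a, ∀ x, qX (a + 1) (l x).1 = SX.sp.e (a + 1) x := by
  obtain ⟨σ, hσ⟩ := SX.exists_sigma (a + 1)
  refine ⟨(σ ∘ₗ SX.sp.e (a + 1)).codRestrict _ fun x => ⟨LinearMap.mem_ker.2 (SX.dd_apply (a + 1) _),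
    LinearMap.mem_ker.2 ?_⟩, fun x => hσ _⟩
  rw [LinearMap.comp_apply, SX.comm_apply, hσ]
  exact LinearMap.congr_fun (SX.sp.de (a + 1)) x

include SY

variable {a b : ℕ}

theorem top_mem (u : Wk dX qX a) (v : Wk dY qY b) :
    totD dX dY (a + 1 + b + 1) (ins (a + 1) (b + 1) (a + 1 + b + 1) rfl (u.1 ⊗ₜ v.1)) ∈
      Zk (totD dX dY) (totMap qX qY) (a + 1 + b + 1 + 1) := by
  refine ⟨LinearMap.mem_ker.2 ((SX.tensor SY).dd_apply _ _), LinearMap.mem_ker.2 ?_⟩
  rw [totD_ins, map_add, map_smul, totMap_ins, totMap_ins, TensorProduct.map_tmul, TensorProduct.map_tmul,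
    LinearMap.mem_ker.1 u.2.2, LinearMap.mem_ker.1 v.2.2, TensorProduct.zero_tmul, TensorProduct.tmul_zero,
    map_zero, map_zero, smul_zero, add_zero]

/-- The class of the differential of a tensor. -/
noncomputable def topMap (Ψ : Zk (totD dX dY) (totMap qX qY) (a + 1 + b + 1 + 1) →ₗ[k] H) :
    Wk dX qX a ⊗[k] Wk dY qY b →ₗ[k] H :=
  Ψ ∘ₗ (totD dX dY (a + 1 + b + 1) ∘ₗ ins (a + 1) (b + 1) (a + 1 + b + 1) rfl ∘ₗ
      TensorProduct.map (Wk dX qX a).subtype (Wk dY qY b).subtype).codRestrict _ fun w => by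
    induction w using TensorProduct.induction_on with
    | zero => rw [map_zero]; exact zero_mem _
    | add x y hx hy => rw [map_add]; exact add_mem hx hy
    | tmul u v => exact SX.top_mem SY u v

variable {ΨX : Zk dX qX (a + 2) →ₗ[k] HX} {ΨY : Zk dY qY (b + 2) →ₗ[k] HY}
  {Ψ : Zk (totD dX dY) (totMap qX qY) (a + 1 + b + 1 + 1) →ₗ[k] H}
  (hsX : Function.Surjective ΨX) (hkX : LinearMap.ker ΨX = (Bk dX qX (a + 2)).comap (Zk dX qX (a + 2)).subtype)
  (hsY : Function.Surjective ΨY) (hkY : LinearMap.ker ΨY = (Bk dY qY (b + 2)).comap (Zk dY qY (b + 2)).subtype)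
  (hk : LinearMap.ker Ψ = (Bk (totD dX dY) (totMap qX qY) (a + 1 + b + 1 + 1)).comap
    (Zk (totD dX dY) (totMap qX qY) (a + 1 + b + 1 + 1)).subtype)

include hkX hk in
theorem topMap_left_zero {u : Wk dX qX a} (hu : cls ΨX u = 0) (v : Wk dY qY b) :
    SX.topMap SY Ψ (u ⊗ₜ v) = 0 := by
  obtain ⟨c, w, hc, huw⟩ := (SX.cls_eq_zero hkX u).1 hu
  have h1 := totD_ins dX dY (show a + (b + 1) = a + 1 + b by omega) w v.1
  refine LinearMap.mem_ker.1 (hk.ge ⟨ins (a + 1) (b + 1) (a + 1 + b + 1) rfl (c ⊗ₜ v.1) -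
    (sgn a : k) • ins a (b + 2) _ (by omega) (w ⊗ₜ dY (b + 1) v.1), LinearMap.mem_ker.2 ?_, ?_⟩)
  · rw [map_sub, map_smul, totMap_ins, totMap_ins, TensorProduct.map_tmul, TensorProduct.map_tmul, hc,
      LinearMap.mem_ker.1 v.2.2, TensorProduct.zero_tmul, TensorProduct.tmul_zero, map_zero, map_zero, smul_zero,
      sub_zero]
  · show totD dX dY _ _ = totD dX dY _ (ins (a + 1) (b + 1) (a + 1 + b + 1) rfl (u.1 ⊗ₜ v.1))
    rw [huw, TensorProduct.add_tmul, map_add (ins (a + 1) (b + 1) (a + 1 + b + 1) rfl),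
      eq_sub_of_add_eq h1.symm, map_sub, map_add, map_sub,
      (SX.tensor SY).dd_apply (a + 1 + b)]
    exact (congrArg (_ + ·) (zero_sub _)).trans (sub_eq_add_neg _ _).symm |>.symm

include hkY hk in
theorem topMap_right_zero (u : Wk dX qX a) {v : Wk dY qY b} (hv : cls ΨY v = 0) :
    SX.topMap SY Ψ (u ⊗ₜ v) = 0 := by
  obtain ⟨c, w, hc, hvw⟩ := (SY.cls_eq_zero hkY v).1 hv
  have h1 := totD_ins dX dY (show a + 1 + b = a + 1 + b from rfl) u.1 w
  refine LinearMap.mem_ker.1 (hk.ge ⟨ins (a + 1) (b + 1) (a + 1 + b + 1) rfl (u.1 ⊗ₜ c) -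
    (sgn (a + 1) : k) • ins (a + 2) b _ (by omega) (dX (a + 1) u.1 ⊗ₜ w), LinearMap.mem_ker.2 ?_, ?_⟩)
  · rw [map_sub, map_smul, totMap_ins, totMap_ins, TensorProduct.map_tmul, TensorProduct.map_tmul, hc,
      LinearMap.mem_ker.1 u.2.2, TensorProduct.zero_tmul, TensorProduct.tmul_zero, map_zero, map_zero, smul_zero,
      sub_zero]
  · show totD dX dY _ _ = totD dX dY _ (ins (a + 1) (b + 1) (a + 1 + b + 1) rfl (u.1 ⊗ₜ v.1))
    have h2 : ins (a + 1) (b + 1) (a + 1 + b + 1) rfl (u.1 ⊗ₜ[k] dY b w) = (sgn (a + 1) : k) •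
        (totD dX dY _ (ins (a + 1) b (a + 1 + b) rfl (u.1 ⊗ₜ[k] w)) -
          ins (a + 2) b (a + 1 + b + 1) (by omega) (dX (a + 1) u.1 ⊗ₜ[k] w)) := by
      rw [h1, add_sub_cancel_left, ← mul_smul, sgn_mul_self, one_smul]
    rw [hvw, TensorProduct.tmul_add, map_add (ins (a + 1) (b + 1) (a + 1 + b + 1) rfl), h2, map_sub, map_add,
      map_smul, map_smul, map_sub, (SX.tensor SY).dd_apply (a + 1 + b), zero_sub, smul_neg, sub_eq_add_neg]

include hsX hkX hsY hkY hk in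
/-- The top class. -/
theorem exists_top :
    ∃ Ω : HX ⊗[k] HY →ₗ[k] H, (∀ u v, Ω (cls ΨX u ⊗ₜ cls ΨY v) = SX.topMap SY Ψ (u ⊗ₜ v)) ∧
      Function.Injective Ω ∧
      ((∀ i, a + 1 < i → SX.sp.e i = 0) → (∀ j, b + 1 < j → SY.sp.e j = 0) →
        Function.Surjective Ψ → Function.Surjective Ω) := by
  obtain ⟨σ, hσ, hσi⟩ := SX.exists_section hsX hkX
  obtain ⟨σ', hσ', hσi'⟩ := SY.exists_section hsY hkY
  let Ω : HX ⊗[k] HY →ₗ[k] H := SX.topMap SY Ψ ∘ₗ TensorProduct.map σ σ'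
  have key : ∀ u v, Ω (cls ΨX u ⊗ₜ cls ΨY v) = SX.topMap SY Ψ (u ⊗ₜ v) := fun u v => by
    show SX.topMap SY Ψ (σ (cls ΨX u) ⊗ₜ σ' (cls ΨY v)) = _
    refine sub_eq_zero.1 ?_
    rw [← map_sub, show σ (cls ΨX u) ⊗ₜ[k] σ' (cls ΨY v) - u ⊗ₜ[k] v =
      (σ (cls ΨX u) - u) ⊗ₜ[k] σ' (cls ΨY v) + u ⊗ₜ[k] (σ' (cls ΨY v) - v) by
        rw [TensorProduct.sub_tmul, TensorProduct.tmul_sub]; abel, map_add,
      SX.topMap_left_zero SY hkX hk (by rw [map_sub, hσ, sub_self]),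
      SX.topMap_right_zero SY hkY hk u (by rw [map_sub, hσ', sub_self]), add_zero]
  refine ⟨Ω, key, (injective_iff_map_eq_zero _).2 fun x hx => ?_, fun hX hY hs => ?_⟩
  · let w : X (a + 1) ⊗[k] Y (b + 1) :=
      TensorProduct.map (Wk dX qX a).subtype (Wk dY qY b).subtype (TensorProduct.map σ σ' x)
    obtain ⟨c, hc, hcw⟩ : totD dX dY _ (ins (a + 1) (b + 1) (a + 1 + b + 1) rfl w) ∈
        Bk (totD dX dY) (totMap qX qY) (a + 1 + b + 1 + 1) := hk.le hx
    have h1 : totD dX dY (a + 1 + b + 1) (ins (a + 1) (b + 1) (a + 1 + b + 1) rfl w - c) = 0 := by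
      rw [map_sub]; exact sub_eq_zero.2 hcw.symm
    obtain ⟨w', hw'⟩ := ((SX.tensor SY).exact₁ (a + 1 + b)).le h1
    have h2 : ((totSplit SX.sp SY.sp).e (a + 1 + b + 1) (totMap qX qY _ (ins (a + 1) (b + 1) (a + 1 + b + 1) rfl w))).1
        (a + 1) (b + 1) = 0 := by
      rw [show ins (a + 1) (b + 1) (a + 1 + b + 1) rfl w = totD dX dY _ w' + c by rw [hw', sub_add_cancel],
        map_add, LinearMap.mem_ker.1 hc, add_zero, (SX.tensor SY).comm_apply]
      exact congrArg (fun v => v.1 (a + 1) (b + 1)) (LinearMap.congr_fun ((totSplit SX.sp SY.sp).ed (a + 1 + b)) _)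
    rw [totSplit_e_val, Ee_apply, totMap_ins, ins_same, map_map', map_map', map_map'] at h2
    exact TensorProduct.map_injective_of_flat_flat _ _ hσi hσi' (h2.trans (map_zero _).symm)
  · intro y
    obtain ⟨z, rfl⟩ := hs y
    obtain ⟨w, hw⟩ := ((SX.tensor SY).exact₁ (a + 1 + b + 1)).le (show _ = _ from z.2.1)
    let P := (totSplit SX.sp SY.sp)
    let v := totMap qX qY (a + 1 + b + 1) w
    have hQw : totD dX' dY' _ v = 0 := by
      show totD dX' dY' _ (totMap qX qY (a + 1 + b + 1) w) = 0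
      rw [← (SX.tensor SY).comm_apply, hw]; exact z.2.2
    obtain ⟨x, hx⟩ := (SX.tensor SY).surj (a + 1 + b) (P.h (a + 1 + b) v)
    have h1 := LinearMap.congr_fun (P.hd_succ (a + 1 + b)) v
    rw [LinearMap.add_apply, LinearMap.comp_apply, LinearMap.comp_apply, LinearMap.sub_apply, LinearMap.id_apply,
      hQw, map_zero, zero_add] at h1
    obtain ⟨l, hl⟩ := SX.exists_lift a
    obtain ⟨l', hl'⟩ := SY.exists_lift b
    let t := TensorProduct.map l l' (v.1 (a + 1) (b + 1))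
    let w₂ := ins (a + 1) (b + 1) (a + 1 + b + 1) rfl
      (TensorProduct.map (Wk dX qX a).subtype (Wk dY qY b).subtype t)
    have h2 : totMap qX qY _ w₂ = P.e (a + 1 + b + 1) v := by
      refine (totMap_ins _ _ _ _).trans ?_
      refine Eq.trans ?_ (eq_ins (p := a + 1) (q := b + 1) rfl _ fun i j hij hi => ?_).symm
      · refine congrArg _ ?_
        rw [totSplit_e_val, Ee_apply, map_map', map_map', LinearMap.comp_assoc, LinearMap.comp_assoc,
          show qX (a + 1) ∘ₗ (Wk dX qX a).subtype ∘ₗ l = SX.sp.e (a + 1) from LinearMap.ext hl,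
          show qY (b + 1) ∘ₗ (Wk dY qY b).subtype ∘ₗ l' = SY.sp.e (b + 1) from LinearMap.ext hl']
      · rw [totSplit_e_val, Ee_apply]
        rcases lt_or_gt_of_ne hi with hlt | hlt
        · rw [hY j (by omega), TensorProduct.map_zero_right, LinearMap.zero_apply]
        · rw [hX i hlt, TensorProduct.map_zero_left, LinearMap.zero_apply]
    refine ⟨TensorProduct.map (cls ΨX) (cls ΨY) t, ?_⟩
    have h3 : ∀ t, Ω (TensorProduct.map (cls ΨX) (cls ΨY) t) = SX.topMap SY Ψ t := fun t => by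
      induction t using TensorProduct.induction_on with
      | zero => simp
      | add p q hp hq => simp only [map_add, hp, hq]
      | tmul p q => rw [TensorProduct.map_tmul]; exact key p q
    refine (h3 t).trans (sub_eq_zero.1 ?_)
    show Ψ _ - Ψ z = 0
    rw [← map_sub]
    refine LinearMap.mem_ker.1 (hk.ge ⟨w₂ - (w - totD dX dY (a + 1 + b) x), LinearMap.mem_ker.2 ?_, ?_⟩)
    · rw [map_sub, map_sub, h2, (SX.tensor SY).comm_apply, hx, h1]
      exact sub_eq_zero.2 (sub_sub_cancel _ _).symm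
    · rw [map_sub, map_sub, (SX.tensor SY).dd_apply, sub_zero, hw]
      rfl

end Setup

end SegreLC
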