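import Groth.Agent.SegreLC.Lin

/-! The tensor product of two resolutions with quotient complexes. -/

set_option autoImplicit false
universe u

open TensorProduct

namespace SegreLC

variable {k : Type u} [Field k] {X : ℕ → Type u} [∀ n, AddCommGroup (X n)] [∀ n, Module k (X n)]
  {Y : ℕ → Type u} [∀ n, AddCommGroup (Y n)] [∀ n, Module k (Y n)]
  {X' : ℕ → Type u} [∀ n, AddCommGroup (X' n)] [∀ n, Module k (X' n)]
  {Y' : ℕ → Type u} [∀ n, AddCommGroup (Y' n)] [∀ n, Module k (Y' n)]
  {A B : Type u} [AddCommGroup A] [Module k A] [AddCommGroup B] [Module k B]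
  {dX : ∀ n, X n →ₗ[k] X (n + 1)} {dY : ∀ n, Y n →ₗ[k] Y (n + 1)} {dX' : ∀ n, X' n →ₗ[k] X' (n + 1)}
  {dY' : ∀ n, Y' n →ₗ[k] Y' (n + 1)} {qX : ∀ n, X n →ₗ[k] X' n} {qY : ∀ n, Y n →ₗ[k] Y' n}
  (SX : Setup dX dX' qX A) (SY : Setup dY dY' qY B)

/-- The tensor of the two augmentations. -/
noncomputable def totAug (fX : A →ₗ[k] X 0) (fY : B →ₗ[k] Y 0) : A ⊗[k] B →ₗ[k] tot (k := k) X Y 0 := by
  classical
  exact (LinearMap.single k (fun p => ∀ q, X p ⊗[k] Y q) 0 ∘ₗ LinearMap.single k (fun q => X 0 ⊗[k] Y q) 0 ∘ₗ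
      TensorProduct.map fX fY).codRestrict _ fun w p q h => by
    rw [LinearMap.comp_apply, LinearMap.comp_apply, LinearMap.coe_single, LinearMap.coe_single]
    by_cases hp : p = 0
    · subst hp
      rw [Pi.single_eq_same, Pi.single_eq_of_ne (by omega)]
    · rw [Pi.single_eq_of_ne hp]
      rfl

theorem totAug_val (fX : A →ₗ[k] X 0) (fY : B →ₗ[k] Y 0) (w : A ⊗[k] B) :
    (totAug fX fY w).1 0 0 = TensorProduct.map fX fY w := by
  classical
  show (LinearMap.single k (fun p => ∀ q, X p ⊗[k] Y q) 0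
    (LinearMap.single k (fun q => X 0 ⊗[k] Y q) 0 (TensorProduct.map fX fY w))) 0 0 = _
  rw [LinearMap.coe_single, LinearMap.coe_single, Pi.single_eq_same, Pi.single_eq_same]

theorem tot_zero_ext {v w : tot (k := k) X Y 0} (h : v.1 0 0 = w.1 0 0) : v = w := by
  refine (dtotEval_bijective (A := k) (Z := fun p q => X p ⊗[k] Y q) 0).1 (funext fun p => ?_)
  obtain ⟨p, hp⟩ := p
  obtain rfl : p = 0 := by omega
  exact h

namespace Setup

include SX

theorem e_succ (s : Split dX) (n : ℕ) (x : X (n + 1)) : s.e (n + 1) x = 0 := by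
  obtain ⟨y, hy⟩ := (SX.exact₁ n).le (LinearMap.congr_fun (s.de (n + 1)) x)
  rw [← LinearMap.congr_fun (s.ee (n + 1)) x, LinearMap.comp_apply, ← hy]
  exact LinearMap.congr_fun (s.ed n) y

theorem e_zero_mem (s : Split dX) (x : X 0) : s.e 0 x ∈ LinearMap.range SX.ε :=
  SX.exact₀.le (LinearMap.congr_fun (s.de 0) x)

include SY

/-- The total setup. -/
noncomputable def tensor : Setup (totD dX dY) (totD dX' dY') (totMap qX qY) (A ⊗[k] B) where
  ε := totAug SX.ε SY.ε
  sp := totSplit SX.sp SY.sp
  comm := totMap_totD qX qY SX.comm SY.comm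
  surj := totMap_surjective qX qY SX.surj SY.surj
  inj := fun v w h => TensorProduct.map_injective_of_flat_flat _ _ SX.inj SY.inj
    (by rw [← totAug_val SX.ε SY.ε, ← totAug_val SX.ε SY.ε, h])
  exact₀ := by
    obtain ⟨sX⟩ := nonempty_split dX fun n => LinearMap.ext fun x => SX.dd_apply n x
    obtain ⟨sY⟩ := nonempty_split dY fun n => LinearMap.ext fun x => SY.dd_apply n x
    ext z
    constructor
    · intro hz
      have h1 := LinearMap.congr_fun (totSplit sX sY).hd_zero z
      rw [LinearMap.comp_apply, LinearMap.mem_ker.1 hz, map_zero, LinearMap.sub_apply, LinearMap.id_apply] at h1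
      have hz' : z = (totSplit sX sY).e 0 z := sub_eq_zero.1 h1.symm
      have key : ∀ v : X 0 ⊗[k] Y 0, TensorProduct.map (sX.e 0) (sY.e 0) v ∈
          LinearMap.range (TensorProduct.map SX.ε SY.ε) := fun v => by
        induction v using TensorProduct.induction_on with
        | zero => rw [map_zero]; exact zero_mem _
        | add a b ha hb => rw [map_add]; exact add_mem ha hb
        | tmul a b =>
          obtain ⟨a', ha'⟩ := SX.e_zero_mem sX a
          obtain ⟨b', hb'⟩ := SY.e_zero_mem sY b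
          exact ⟨a' ⊗ₜ b', by rw [TensorProduct.map_tmul, TensorProduct.map_tmul, ha', hb']⟩
      obtain ⟨w, hw⟩ := key (z.1 0 0)
      refine ⟨w, tot_zero_ext ?_⟩
      rw [totAug_val, hw, hz']
      rw [← hz']
      exact (congrArg (fun v : tot (k := k) X Y 0 => v.1 0 0) hz').symm
    · rintro ⟨w, rfl⟩
      have hX0 : dX 0 ∘ₗ SX.ε = 0 := LinearMap.ext fun a => LinearMap.mem_ker.1 (SX.exact₀.ge ⟨a, rfl⟩)
      have hY0 : dY 0 ∘ₗ SY.ε = 0 := LinearMap.ext fun a => LinearMap.mem_ker.1 (SY.exact₀.ge ⟨a, rfl⟩)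
      refine LinearMap.mem_ker.2 (Subtype.ext (funext fun p => funext fun q => ?_))
      show D dX dY (totAug SX.ε SY.ε w).1 p q = 0
      match p, q with
      | 0, 0 => exact D_zero_zero dX dY _
      | 1, 0 => rw [D_succ_zero, totAug_val, map_map', hX0, TensorProduct.map_zero_left, LinearMap.zero_apply]
      | 0, 1 => rw [D_zero_succ, totAug_val, map_map', hY0, TensorProduct.map_zero_right, LinearMap.zero_apply]
      | p + 2, 0 => rw [D_succ_zero, (totAug SX.ε SY.ε w).2 (p + 1) 0 (by omega), map_zero]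
      | 0, q + 2 => rw [D_zero_succ, (totAug SX.ε SY.ε w).2 0 (q + 1) (by omega), map_zero]
      | p + 1, q + 1 =>
        rw [D_succ_succ, (totAug SX.ε SY.ε w).2 p (q + 1) (by omega), (totAug SX.ε SY.ε w).2 (p + 1) q (by omega),
          map_zero, map_zero, smul_zero, add_zero]
  exact₁ n := by
    obtain ⟨sX⟩ := nonempty_split dX fun n => LinearMap.ext fun x => SX.dd_apply n x
    obtain ⟨sY⟩ := nonempty_split dY fun n => LinearMap.ext fun x => SY.dd_apply n x
    ext z
    constructor
    · intro hz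
      have h1 := LinearMap.congr_fun ((totSplit sX sY).hd_succ n) z
      rw [LinearMap.add_apply, LinearMap.comp_apply, LinearMap.comp_apply, LinearMap.mem_ker.1 hz, map_zero,
        zero_add, LinearMap.sub_apply, LinearMap.id_apply] at h1
      have he : (totSplit sX sY).e (n + 1) z = 0 := Subtype.ext (funext fun p => funext fun q => by
        rw [totSplit_e_val, Ee_apply]
        by_cases hpq : p + q = n + 1
        · match p, q with
          | p + 1, q =>
            rw [show sX.e (p + 1) = 0 from LinearMap.ext fun x => SX.e_succ sX p x,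
              TensorProduct.map_zero_left, LinearMap.zero_apply]
            rfl
          | 0, q + 1 =>
            rw [show sY.e (q + 1) = 0 from LinearMap.ext fun x => SY.e_succ sY q x,
              TensorProduct.map_zero_right, LinearMap.zero_apply]
            rfl
          | 0, 0 => omega
        · rw [z.2 p q hpq, map_zero]
          rfl)
      rw [he, sub_zero] at h1
      exact ⟨_, h1⟩
    · rintro ⟨w, rfl⟩
      refine LinearMap.mem_ker.2 (Subtype.ext ?_)
      show D dX dY (D dX dY w.1) = 0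
      funext p q
      have hx : ∀ n, dX (n + 1) ∘ₗ dX n = 0 := fun n => LinearMap.ext fun x => SX.dd_apply n x
      have hy : ∀ n, dY (n + 1) ∘ₗ dY n = 0 := fun n => LinearMap.ext fun x => SY.dd_apply n x
      cases p with
      | zero =>
        cases q with
        | zero => exact D_zero_zero dX dY _
        | succ q =>
          cases q with
          | zero => simp [D_zero_succ, D_zero_zero]
          | succ q => simp [D_zero_succ, map_map', hy]
      | succ p =>
        cases q with
        | zero =>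
          cases p with
          | zero => simp [D_succ_zero, D_zero_zero]
          | succ p => simp [D_succ_zero, map_map', hx]
        | succ q =>
          cases p with
          | zero =>
            cases q with
            | zero => simp [D_succ_succ, D_succ_zero, D_zero_succ, map_map', sgn_succ, sgn_zero]
            | succ q =>
              simp [D_succ_succ, D_zero_succ, map_map', hy, sgn_succ, sgn_zero]
          | succ p =>
            cases q with
            | zero => simp [D_succ_succ, D_succ_zero, map_map', hx, sgn_succ]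
            | succ q => simp [D_succ_succ, map_map', hx, hy, sgn_succ]

variable {H : Type u} [AddCommGroup H] [Module k H]

omit SY in
theorem tensor_range_le {A' B' C E : Type u} [AddCommGroup A'] [Module k A'] [AddCommGroup B'] [Module k B']
    [AddCommGroup C] [Module k C] [AddCommGroup E] [Module k E] {e : A' →ₗ[k] A'} {e' : B' →ₗ[k] B'} {f : C →ₗ[k] A'}
    {g : E →ₗ[k] B'} (hf : LinearMap.range e ≤ LinearMap.range f) (hg : LinearMap.range e' ≤ LinearMap.range g)
    (z : A' ⊗[k] B') : TensorProduct.map e e' z ∈ LinearMap.range (TensorProduct.map f g) := by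
  induction z using TensorProduct.induction_on with
  | zero => rw [map_zero]; exact zero_mem _
  | add a b ha hb => rw [map_add]; exact add_mem ha hb
  | tmul a b =>
    obtain ⟨a', ha'⟩ := hf ⟨a, rfl⟩
    obtain ⟨b', hb'⟩ := hg ⟨b, rfl⟩
    exact ⟨a' ⊗ₜ b', by rw [TensorProduct.map_tmul, TensorProduct.map_tmul, ha', hb']⟩

theorem tensor_aug_val (w : A ⊗[k] B) : (totMap qX qY 0 ((SX.tensor SY).ε w)).1 0 0 =
    TensorProduct.map (qX 0 ∘ₗ SX.ε) (qY 0 ∘ₗ SY.ε) w := by
  rw [totMap_val]
  exact (congrArg _ (totAug_val SX.ε SY.ε w)).trans (map_map' _ _ _ _ w)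

/-- No cohomology in degree zero. -/
theorem subsingleton_tensor_zero (hX : Function.Injective (qX 0 ∘ₗ SX.ε)) (hY : Function.Injective (qY 0 ∘ₗ SY.ε))
    (Ψ : Zk (totD dX dY) (totMap qX qY) 0 →ₗ[k] H) (hs : Function.Surjective Ψ)
    (hk : LinearMap.ker Ψ = (Bk (totD dX dY) (totMap qX qY) 0).comap (Zk (totD dX dY) (totMap qX qY) 0).subtype) :
    Subsingleton H := by
  obtain ⟨e⟩ := (SX.tensor SY).deg_zero Ψ hs hk
  haveI : Subsingleton (LinearMap.ker (totMap qX qY 0 ∘ₗ (SX.tensor SY).ε)) :=
    ⟨fun a b => Subtype.ext (TensorProduct.map_injective_of_flat_flat _ _ hX hY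
      ((SX.tensor_aug_val SY a.1).symm.trans ((congrArg (fun z : tot (k := k) X' Y' 0 => z.1 0 0)
        ((LinearMap.mem_ker.1 a.2).trans (LinearMap.mem_ker.1 b.2).symm)).trans (SX.tensor_aug_val SY b.1))))⟩
  exact e.symm.injective.subsingleton

/-- No cohomology in degree one. -/
theorem subsingleton_tensor_one (hX : LinearMap.range (qX 0 ∘ₗ SX.ε) = LinearMap.range (SX.sp.e 0))
    (hY : LinearMap.range (qY 0 ∘ₗ SY.ε) = LinearMap.range (SY.sp.e 0))
    (Ψ : Zk (totD dX dY) (totMap qX qY) 1 →ₗ[k] H) (hs : Function.Surjective Ψ)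
    (hk : LinearMap.ker Ψ = (Bk (totD dX dY) (totMap qX qY) 1).comap (Zk (totD dX dY) (totMap qX qY) 1).subtype) :
    Subsingleton H := by
  obtain ⟨Θ, hΘ, hΘk⟩ := (SX.tensor SY).deg_one Ψ hs hk
  refine subsingleton_of_forall_eq 0 fun x => ?_
  obtain ⟨v, rfl⟩ := hΘ x
  refine LinearMap.mem_ker.1 (hΘk.ge ?_)
  obtain ⟨w, hw⟩ := v.2
  obtain ⟨t, ht⟩ := SX.tensor_range_le hX.ge hY.ge (w.1 0 0)
  exact ⟨t, tot_zero_ext ((SX.tensor_aug_val SY t).trans
    (ht.trans (congrArg (fun z : tot (k := k) X' Y' 0 => z.1 0 0) hw)))⟩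

end Setup

end SegreLC
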