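import Groth.Agent.SegreLC.Deg
import Groth.Agent.SegreLC.TotSetup
import Groth.Agent.SegreLC.Acyclic
import Groth.Agent.GrModLib.Coresolution

/-! Graded local cohomology of a Segre product from the total complex. -/

set_option autoImplicit false
universe u

open scoped TensorProduct
open DirectSum GrModLib

namespace SegreLC

section Generic

theorem subsingleton_H_pi {A : Type u} [CommRing A] (I : Ideal A) (q : ℕ) :
    ∀ (n : ℕ) (M : Fin n → Type u) [∀ i, AddCommGroup (M i)] [∀ i, Module A (M i)],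
      (∀ i, Subsingleton (LocCoh.H I q (M i))) → Subsingleton (LocCoh.H I q (∀ i, M i)) := by
  classical
  intro n
  induction n with
  | zero =>
    intro M _ _ _
    haveI : Subsingleton (∀ i, M i) := ⟨fun a b => funext fun i => i.elim0⟩
    exact LocCohLib.subsingleton_H_of_subsingleton _ q
  | succ n ih =>
    intro M _ _ h
    let i₂ : (∀ i : Fin n, M i.succ) →ₗ[A] ∀ i, M i :=
      LinearMap.pi fun i => Fin.cases (motive := fun i => (∀ j : Fin n, M j.succ) →ₗ[A] M i) 0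
        (fun j => LinearMap.proj j) i
    let p₂ : (∀ i, M i) →ₗ[A] ∀ i : Fin n, M i.succ := LinearMap.pi fun i => LinearMap.proj i.succ
    refine subsingleton_H_split I (LinearMap.single A M 0) (LinearMap.proj 0) i₂ p₂ (fun z => by simp)
      (fun z => funext fun i => by simp [i₂, p₂]) (fun z => funext fun i => by simp [p₂, Fin.succ_ne_zero])
      (fun v => funext fun i => ?_) q (h 0) (ih (fun i => M i.succ) fun i => h i.succ)
    refine Fin.cases ?_ (fun j => ?_) i
    · simp [i₂]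
    · simp [i₂, p₂, Fin.succ_ne_zero]

end Generic

variable {k : Type u} [Field k] {R S T : Type u} [CommRing R] [Algebra k R] [CommRing S] [Algebra k S]
  [CommRing T] [Algebra k T] {𝒜 : ℤ → Submodule k R} [GradedAlgebra 𝒜] {ℬ : ℤ → Submodule k S} [GradedAlgebra ℬ]
  {𝒯 : ℤ → Submodule k T} [GradedAlgebra 𝒯] {ψ : T →ₐ[k] R ⊗[k] S}

/-- A piece of a Segre product is the tensor product of the pieces. -/
theorem Seg.exists_lift {X : GrLC.GMod.{u} (toAdd 𝒜)} {Y : GrLC.GMod.{u} (toAdd ℬ)} (s : Seg 𝒯 ψ X Y) (d : ℤ) :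
    ∃ j : kpiece X d ⊗[k] kpiece Y d →ₗ[k] s.Z.carrier, Function.Injective j ∧
      (∀ w, s.val (j w) = TensorProduct.map (kpiece X d).subtype (kpiece Y d).subtype w) ∧
      ∀ p, p ∈ s.Z.gr d ↔ p ∈ LinearMap.range j := by
  let m := TensorProduct.map (kpiece X d).subtype (kpiece Y d).subtype
  have hm : Function.Injective m :=
    TensorProduct.map_injective_of_flat_flat _ _ (Submodule.injective_subtype _) (Submodule.injective_subtype _)
  have hmem : ∀ w, m w ∈ GrSeg.segrePiece k X.gr Y.gr d := fun w => by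
    induction w using TensorProduct.induction_on with
    | zero => rw [map_zero]; exact zero_mem _
    | add a b ha hb => rw [map_add]; exact add_mem ha hb
    | tmul a b => exact tmul_mem_segrePiece a.2 b.2
  choose j hj hjv using fun w => s.exists_eq_of_mem (hmem w)
  refine ⟨{ toFun := j, map_add' := fun a b => s.val_injective ?_,
            map_smul' := fun c a => s.val_injective ?_ }, fun a b h => hm ?_, hjv, fun p => ⟨fun hp => ?_, ?_⟩⟩
  · rw [map_add, hjv, hjv, hjv, map_add]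
  · rw [RingHom.id_apply, map_smul, hjv, hjv, map_smul]
  · rw [← hjv, ← hjv]; exact congrArg s.val h
  · have key : ∀ x ∈ GrSeg.segrePiece k X.gr Y.gr d, x ∈ LinearMap.range m := fun x hx => by
      induction hx using Submodule.span_induction with
      | mem x hx => obtain ⟨a, ha, b, hb, rfl⟩ := hx; exact ⟨⟨a, ha⟩ ⊗ₜ ⟨b, hb⟩, rfl⟩
      | zero => exact zero_mem _
      | add x y _ _ hx hy => exact add_mem hx hy
      | smul c x _ hx => exact Submodule.smul_mem _ c hx
    obtain ⟨w, hw⟩ := key _ (s.val_mem hp)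
    exact ⟨w, s.val_injective ((hjv w).trans hw)⟩
  · rintro ⟨w, rfl⟩
    exact hj w

/-- The chosen map from the tensor product of the pieces. -/
noncomputable def Seg.lift {X : GrLC.GMod.{u} (toAdd 𝒜)} {Y : GrLC.GMod.{u} (toAdd ℬ)} (s : Seg 𝒯 ψ X Y) (d : ℤ) :
    kpiece X d ⊗[k] kpiece Y d →ₗ[k] s.Z.carrier := (s.exists_lift d).choose

theorem Seg.lift_injective {X : GrLC.GMod.{u} (toAdd 𝒜)} {Y : GrLC.GMod.{u} (toAdd ℬ)} (s : Seg 𝒯 ψ X Y) (d : ℤ) :
    Function.Injective (s.lift d) := (s.exists_lift d).choose_spec.1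

theorem Seg.val_lift {X : GrLC.GMod.{u} (toAdd 𝒜)} {Y : GrLC.GMod.{u} (toAdd ℬ)} (s : Seg 𝒯 ψ X Y) (d : ℤ)
    (w : kpiece X d ⊗[k] kpiece Y d) :
    s.val (s.lift d w) = TensorProduct.map (kpiece X d).subtype (kpiece Y d).subtype w :=
  (s.exists_lift d).choose_spec.2.1 w

theorem Seg.mem_range_lift {X : GrLC.GMod.{u} (toAdd 𝒜)} {Y : GrLC.GMod.{u} (toAdd ℬ)} (s : Seg 𝒯 ψ X Y) (d : ℤ)
    {p : s.Z.carrier} : p ∈ s.Z.gr d ↔ p ∈ LinearMap.range (s.lift d) := (s.exists_lift d).choose_spec.2.2 p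

theorem Seg.map_lift {X X' : GrLC.GMod.{u} (toAdd 𝒜)} {Y Y' : GrLC.GMod.{u} (toAdd ℬ)} (s : Seg 𝒯 ψ X Y)
    (s' : Seg 𝒯 ψ X' Y') {f : X.carrier →ₗ[R] X'.carrier} {g : Y.carrier →ₗ[S] Y'.carrier}
    (hf : GrLC.IsGrHom X.gr X'.gr f) (hg : GrLC.IsGrHom Y.gr Y'.gr g) (d : ℤ) (w : kpiece X d ⊗[k] kpiece Y d) :
    s.map s' hf hg (s.lift d w) = s'.lift d (TensorProduct.map (kmap hf d) (kmap hg d) w) := by
  apply s'.val_injective
  rw [Seg.val_map, Seg.val_lift, Seg.val_lift, map_map', map_map']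
  rfl

theorem Seg.val_algebraMap_smul {X : GrLC.GMod.{u} (toAdd 𝒜)} {Y : GrLC.GMod.{u} (toAdd ℬ)} (s : Seg 𝒯 ψ X Y)
    (c : k) (p : s.Z.carrier) : s.val (algebraMap k T c • p) = c • s.val p := by
  rw [algebraMap_smul, map_smul]

variable (hT : GrSeg.IsSegreRing 𝒜 ℬ 𝒯 ψ) {M : GrLC.GMod.{u} (toAdd 𝒜)} {N : GrLC.GMod.{u} (toAdd ℬ)}
  (EM : GrLC.StarInjRes (toAdd 𝒜) M.gr) (EN : GrLC.StarInjRes (toAdd ℬ) N.gr)

/-- The bigraded terms. -/
noncomputable def Zs (p q : ℕ) : Seg 𝒯 ψ (EM.X p) (EN.X q) := segG hT (EM.X p) (EN.X q)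

/-- The carriers of the bigraded terms. -/
abbrev Zc (p q : ℕ) : Type u := (Zs hT EM EN p q).Z.carrier

theorem idHom {A : Type u} [CommRing A] {𝒟 : ℤ → AddSubgroup A} [GradedRing 𝒟] (X : GrLC.GMod.{u} 𝒟) :
    GrLC.IsGrHom X.gr X.gr (LinearMap.id : X.carrier →ₗ[A] X.carrier) := fun _ _ h => h

/-- The total differential on all families. -/
noncomputable def DT : (∀ p q, Zc hT EM EN p q) →ₗ[T] ∀ p q, Zc hT EM EN p q :=
  (LinearMap.pi fun p => LinearMap.pi fun q => match p with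
    | 0 => 0
    | p + 1 => (Zs hT EM EN p q).map (Zs hT EM EN (p + 1) q) (EM.d_grHom p) (idHom (EN.X q)) ∘ₗ
        (LinearMap.proj q ∘ₗ LinearMap.proj p)) +
  (LinearMap.pi fun p => LinearMap.pi fun q => match q with
    | 0 => 0
    | q + 1 => algebraMap k T (sgn p) •
        ((Zs hT EM EN p q).map (Zs hT EM EN p (q + 1)) (idHom (EM.X p)) (EN.d_grHom q) ∘ₗ
          (LinearMap.proj q ∘ₗ LinearMap.proj p)))

/-- The values in the tensor products. -/
noncomputable def valBi : (∀ p q, Zc hT EM EN p q) →ₗ[k]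
    Bi (fun p => (EM.X p).carrier) (fun q => (EN.X q).carrier) k :=
  LinearMap.pi fun p => LinearMap.pi fun q => (Zs hT EM EN p q).val ∘ₗ (LinearMap.proj q ∘ₗ LinearMap.proj p)

theorem valBi_injective : Function.Injective (valBi hT EM EN) := fun v w h =>
  funext fun p => funext fun q => (Zs hT EM EN p q).val_injective (congrFun (congrFun h p) q)

theorem DT_zero_zero (v : ∀ p q, Zc hT EM EN p q) : DT hT EM EN v 0 0 = 0 := add_zero (0 : Zc hT EM EN 0 0)

theorem DT_succ_zero (v : ∀ p q, Zc hT EM EN p q) (p : ℕ) : DT hT EM EN v (p + 1) 0 =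
    (Zs hT EM EN p 0).map (Zs hT EM EN (p + 1) 0) (EM.d_grHom p) (idHom (EN.X 0)) (v p 0) :=
  add_zero _

theorem DT_zero_succ (v : ∀ p q, Zc hT EM EN p q) (q : ℕ) : DT hT EM EN v 0 (q + 1) = algebraMap k T (sgn 0) •
    (Zs hT EM EN 0 q).map (Zs hT EM EN 0 (q + 1)) (idHom (EM.X 0)) (EN.d_grHom q) (v 0 q) :=
  zero_add _

theorem DT_succ_succ (v : ∀ p q, Zc hT EM EN p q) (p q : ℕ) : DT hT EM EN v (p + 1) (q + 1) =
    (Zs hT EM EN p (q + 1)).map (Zs hT EM EN (p + 1) (q + 1)) (EM.d_grHom p) (idHom (EN.X (q + 1))) (v p (q + 1)) +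
      algebraMap k T (sgn (p + 1)) • (Zs hT EM EN (p + 1) q).map (Zs hT EM EN (p + 1) (q + 1))
        (idHom (EM.X (p + 1))) (EN.d_grHom q) (v (p + 1) q) := rfl

theorem valBi_apply (v : ∀ p q, Zc hT EM EN p q) (p q : ℕ) :
    valBi hT EM EN v p q = (Zs hT EM EN p q).val (v p q) := rfl

theorem valBi_DT (v : ∀ p q, Zc hT EM EN p q) : valBi hT EM EN (DT hT EM EN v) =
    D (X := fun p => (EM.X p).carrier) (Y := fun q => (EN.X q).carrier)
      (fun n => (EM.d n).restrictScalars k) (fun n => (EN.d n).restrictScalars k) (valBi hT EM EN v) := by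
  funext p q
  rw [valBi_apply]
  cases p with
  | zero =>
    cases q with
    | zero => rw [DT_zero_zero, D_zero_zero, map_zero]
    | succ q =>
      rw [DT_zero_succ, D_zero_succ, sgn_zero, map_one, one_smul, Seg.val_map, valBi_apply]
      rfl
  | succ p =>
    cases q with
    | zero =>
      rw [DT_succ_zero, D_succ_zero, Seg.val_map, valBi_apply]
      rfl
    | succ q =>
      rw [DT_succ_succ, D_succ_succ, map_add, Seg.val_algebraMap_smul, Seg.val_map, Seg.val_map, valBi_apply,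
        valBi_apply]
      rfl

theorem DT_mem (n : ℕ) {v : ∀ p q, Zc hT EM EN p q} (hv : v ∈ dtot T (Zc hT EM EN) n) :
    DT hT EM EN v ∈ dtot T (Zc hT EM EN) (n + 1) := fun p q h => by
  apply (Zs hT EM EN p q).val_injective
  rw [map_zero]
  show valBi hT EM EN (DT hT EM EN v) p q = 0
  rw [valBi_DT]
  refine D_mem_tot _ _ (n := n) (fun a b hab => ?_) p q h
  show (Zs hT EM EN a b).val (v a b) = 0
  rw [hv a b hab, map_zero]

/-- The pieces of a total term. -/
def totGr (n : ℕ) : ℤ → AddSubgroup (dtot T (Zc hT EM EN) n) := fun d =>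
  { carrier := {v | ∀ p q, v.1 p q ∈ (Zs hT EM EN p q).Z.gr d}
    add_mem' := fun ha hb p q => add_mem (ha p q) (hb p q)
    zero_mem' := fun _ _ => zero_mem _
    neg_mem' := fun ha p q => neg_mem (ha p q) }

theorem mem_totGr {n : ℕ} {d : ℤ} {v : dtot T (Zc hT EM EN) n} :
    v ∈ totGr hT EM EN n d ↔ ∀ p q, v.1 p q ∈ (Zs hT EM EN p q).Z.gr d := Iff.rfl

theorem totGr_isInternal (n : ℕ) : DirectSum.IsInternal (totGr hT EM EN n) := by
  classical
  refine isInternal_of_pr _ (fun d =>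
    { toFun := fun v => ⟨fun p q => pr (Zs hT EM EN p q).Z.gr d (v.1 p q),
        fun p q h => by dsimp only; rw [v.2 p q h, map_zero]⟩
      map_zero' := Subtype.ext (funext fun p => funext fun q => map_zero _)
      map_add' := fun a b => Subtype.ext (funext fun p => funext fun q => map_add _ _ _) })
    (fun d v hv => Subtype.ext (funext fun p => funext fun q => pr_self _ (hv p q)))
    (fun d j v hv h => Subtype.ext (funext fun p => funext fun q => pr_ne _ (hv p q) h)) fun v => ?_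
  choose S hS0 hS using fun pq : ℕ × ℕ => exists_finset (Zs hT EM EN pq.1 pq.2).Z.gr (v.1 pq.1 pq.2)
  let s : Finset ℤ := (Finset.range (n + 1)).biUnion fun p => S (p, n - p)
  have hv : v = ∑ d ∈ s, (⟨fun p q => pr (Zs hT EM EN p q).Z.gr d (v.1 p q),
      fun p q h => by dsimp only; rw [v.2 p q h, map_zero]⟩ : dtot T (Zc hT EM EN) n) := by
    refine Subtype.ext (funext fun p => funext fun q => ?_)
    rw [Submodule.coe_sum, Finset.sum_apply, Finset.sum_apply]
    show v.1 p q = ∑ d ∈ s, pr (Zs hT EM EN p q).Z.gr d (v.1 p q)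
    by_cases hpq : p + q = n
    · obtain rfl : q = n - p := by omega
      rw [← Finset.sum_subset (Finset.subset_biUnion_of_mem (fun p => S (p, n - p))
        (Finset.mem_range.2 (show p < n + 1 by omega))) fun d _ hd => hS0 (p, n - p) d hd]
      exact (hS (p, n - p)).symm
    · rw [v.2 p q hpq]
      exact (Finset.sum_eq_zero fun d _ => map_zero _).symm
  rw [hv]
  exact sum_mem fun d _ => le_iSup (totGr hT EM EN n) d (fun p q => pr_mem _ d _)

/-- The terms of the total complex. -/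
noncomputable def totG (n : ℕ) : GrLC.GMod.{u} (toAdd 𝒯) :=
  letI := (totGr_isInternal hT EM EN n).chooseDecomposition
  haveI : SetLike.GradedSMul (toAdd 𝒯) (totGr hT EM EN n) :=
    ⟨fun {i j t v} ht hv p q => (Zs hT EM EN p q).Z.gsmul.smul_mem ht (hv p q)⟩
  { carrier := dtot T (Zc hT EM EN) n, gr := totGr hT EM EN n }

/-- The differential. -/
noncomputable def dG (n : ℕ) : (totG hT EM EN n).carrier →ₗ[T] (totG hT EM EN (n + 1)).carrier :=
  (DT hT EM EN).restrict fun _ hv => DT_mem hT EM EN n hv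

/-- The total complex in one degree. -/
abbrev TC (d : ℤ) (n : ℕ) : Type u := ↥(tot (k := k) (Xd EM d) (Xd EN d) n)

/-- Its differential. -/
noncomputable abbrev TD (d : ℤ) (n : ℕ) : TC EM EN d n →ₗ[k] TC EM EN d (n + 1) :=
  totD (X := Xd EM d) (Y := Xd EN d) (dd EM d) (dd EN d) n

/-- The quotient of the total complex in one degree. -/
abbrev TC' (aR : HomogeneousIdeal (toAdd 𝒜)) (aS : HomogeneousIdeal (toAdd ℬ)) (d : ℤ) (n : ℕ) : Type u :=
  ↥(tot (k := k) (X'd EM aR d) (X'd EN aS d) n)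

/-- Its differential. -/
noncomputable abbrev TD' (aR : HomogeneousIdeal (toAdd 𝒜)) (aS : HomogeneousIdeal (toAdd ℬ)) (d : ℤ) (n : ℕ) :
    TC' EM EN aR aS d n →ₗ[k] TC' EM EN aR aS d (n + 1) :=
  totD (X := X'd EM aR d) (Y := X'd EN aS d) (dd' EM aR d) (dd' EN aS d) n

/-- The projection of the total complexes. -/
noncomputable abbrev TQ (aR : HomogeneousIdeal (toAdd 𝒜)) (aS : HomogeneousIdeal (toAdd ℬ)) (d : ℤ) (n : ℕ) :
    TC EM EN d n →ₗ[k] TC' EM EN aR aS d n :=
  totMap (X := Xd EM d) (Y := Xd EN d) (X' := X'd EM aR d) (Y' := X'd EN aS d) (qd EM aR d) (qd EN aS d) n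

/-- The lifted family. -/
noncomputable def Jv (d : ℤ) (n : ℕ) (u : TC EM EN d n) : dtot T (Zc hT EM EN) n :=
  ⟨fun p q => (Zs hT EM EN p q).lift d (u.1 p q), fun p q h => by dsimp only; rw [u.2 p q h, map_zero]⟩

theorem Jv_val (d : ℤ) {n : ℕ} (u : TC EM EN d n) (p q : ℕ) :
    (Jv hT EM EN d n u).1 p q = (Zs hT EM EN p q).lift d (u.1 p q) := rfl

/-- The embedding of the total complex of one degree. -/
noncomputable def J (d : ℤ) (n : ℕ) : TC EM EN d n →ₗ[k] (totG hT EM EN n).carrier where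
  toFun u := Jv hT EM EN d n u
  map_add' a b := Subtype.ext (funext fun p => funext fun q => map_add _ _ _)
  map_smul' c a := Subtype.ext (funext fun p => funext fun q =>
    (map_smul ((Zs hT EM EN p q).lift d) c (a.1 p q)).trans (algebraMap_smul T c _).symm)

theorem J_val (d : ℤ) {n : ℕ} (u : TC EM EN d n) (p q : ℕ) :
    (J hT EM EN d n u).1 p q = (Zs hT EM EN p q).lift d (u.1 p q) := rfl

theorem J_injective (d : ℤ) (n : ℕ) : Function.Injective (J hT EM EN d n) := fun _ _ h =>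
  Subtype.ext (funext fun p => funext fun q => (Zs hT EM EN p q).lift_injective d
    (congrFun (congrFun (congrArg Subtype.val h) p) q))

theorem mem_totG_gr {d : ℤ} {n : ℕ} {v : (totG hT EM EN n).carrier} :
    v ∈ (totG hT EM EN n).gr d ↔ v ∈ LinearMap.range (J hT EM EN d n) := by
  refine ⟨fun hv => ?_, ?_⟩
  · choose u hu using fun p q => ((Zs hT EM EN p q).mem_range_lift d).1 (hv p q)
    refine ⟨⟨u, fun p q h => (Zs hT EM EN p q).lift_injective d ?_⟩, Subtype.ext (funext fun p => funext fun q => hu p q)⟩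
    rw [hu, map_zero]
    exact v.2 p q h
  · rintro ⟨u, rfl⟩ p q
    exact ((Zs hT EM EN p q).mem_range_lift d).2 ⟨u.1 p q, rfl⟩

theorem J_totD (d : ℤ) {n : ℕ} (u : TC EM EN d n) :
    dG hT EM EN n (J hT EM EN d n u) = J hT EM EN d (n + 1) (TD EM EN d n u) := by
  refine Subtype.ext (valBi_injective hT EM EN ?_)
  let fX : ∀ p, Xd EM d p →ₗ[k] (EM.X p).carrier := fun p => (kpiece (EM.X p) d).subtype
  let fY : ∀ q, Xd EN d q →ₗ[k] (EN.X q).carrier := fun q => (kpiece (EN.X q) d).subtype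
  have hv : ∀ {m : ℕ} (w : TC EM EN d m), valBi hT EM EN (J hT EM EN d m w).1 =
      (totMap (X := Xd EM d) (Y := Xd EN d) (X' := fun p => (EM.X p).carrier) (Y' := fun q => (EN.X q).carrier)
        fX fY m w).1 := fun w => funext fun p => funext fun q => (Zs hT EM EN p q).val_lift d _
  show valBi hT EM EN (DT hT EM EN (J hT EM EN d n u).1) = _
  rw [valBi_DT, hv, hv]
  exact congrArg Subtype.val (LinearMap.congr_fun
    (totMap_totD (dX := dd EM d) (dY := dd EN d) (dX' := fun n => (EM.d n).restrictScalars k)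
      (dY' := fun n => (EN.d n).restrictScalars k) fX fY (fun _ => rfl) (fun _ => rfl) n) u).symm

theorem dG_grHom (n : ℕ) : GrLC.IsGrHom (totG hT EM EN n).gr (totG hT EM EN (n + 1)).gr (dG hT EM EN n) :=
  fun d v hv => by
    obtain ⟨u, rfl⟩ := (mem_totG_gr hT EM EN).1 hv
    rw [J_totD]
    exact (mem_totG_gr hT EM EN).2 ⟨_, rfl⟩

variable (s : Seg 𝒯 ψ M N)

/-- The augmentation. -/
noncomputable def εG : s.Z.carrier →ₗ[T] (totG hT EM EN 0).carrier := by
  classical
  exact (LinearMap.single T (fun p => ∀ q, Zc hT EM EN p q) 0 ∘ₗ LinearMap.single T (fun q => Zc hT EM EN 0 q) 0 ∘ₗ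
    s.map (Zs hT EM EN 0 0) EM.ε_grHom EN.ε_grHom).codRestrict (dtot T (Zc hT EM EN) 0) fun w p q h => by
    rw [LinearMap.comp_apply, LinearMap.comp_apply, LinearMap.coe_single, LinearMap.coe_single]
    by_cases hp : p = 0
    · subst hp
      rw [Pi.single_eq_same, Pi.single_eq_of_ne (by omega)]
    · rw [Pi.single_eq_of_ne hp]
      rfl

theorem εG_val (w : s.Z.carrier) :
    (εG hT EM EN s w).1 0 0 = s.map (Zs hT EM EN 0 0) EM.ε_grHom EN.ε_grHom w := by
  classical
  show (LinearMap.single T (fun p => ∀ q, Zc hT EM EN p q) 0 (LinearMap.single T (fun q => Zc hT EM EN 0 q) 0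
    (s.map (Zs hT EM EN 0 0) EM.ε_grHom EN.ε_grHom w))) 0 0 = _
  rw [LinearMap.coe_single, LinearMap.coe_single, Pi.single_eq_same, Pi.single_eq_same]

theorem εG_lift (d : ℤ) (w : kpiece M d ⊗[k] kpiece N d) :
    εG hT EM EN s (s.lift d w) = J hT EM EN d 0 (totAug (X := Xd EM d) (Y := Xd EN d) (εd EM d) (εd EN d) w) := by
  refine Subtype.ext (funext fun p => funext fun q => ?_)
  by_cases h : p + q = 0
  · obtain ⟨rfl, rfl⟩ : p = 0 ∧ q = 0 := by omega
    rw [εG_val, J_val, totAug_val, Seg.map_lift]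
    rfl
  · exact ((εG hT EM EN s (s.lift d w)).2 p q h).trans ((J hT EM EN d 0 _).2 p q h).symm

theorem εG_grHom : GrLC.IsGrHom s.Z.gr (totG hT EM EN 0).gr (εG hT EM EN s) := fun d w hw => by
  obtain ⟨w, rfl⟩ := (s.mem_range_lift d).1 hw
  rw [εG_lift]
  exact (mem_totG_gr hT EM EN).2 ⟨_, rfl⟩

theorem εG_injective : Function.Injective (εG hT EM EN s) := fun v w h => s.val_injective (by
  have h0 : (εG hT EM EN s v).1 0 0 = (εG hT EM EN s w).1 0 0 := by rw [h]
  rw [εG_val, εG_val] at h0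
  have h1 := congrArg (Zs hT EM EN 0 0).val h0
  rw [Seg.val_map, Seg.val_map] at h1
  exact TensorProduct.map_injective_of_flat_flat (EM.ε.restrictScalars k) (EN.ε.restrictScalars k)
    EM.ε_injective EN.ε_injective h1)

variable (aR : HomogeneousIdeal (toAdd 𝒜)) (aS : HomogeneousIdeal (toAdd ℬ))

/-- One degree of the total complex. -/
noncomputable def tSetup (d : ℤ) :
    Setup (C := TC EM EN d) (C' := TC' EM EN aR aS d) (TD EM EN d) (TD' EM EN aR aS d) (TQ EM EN aR aS d)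
      (kpiece M d ⊗[k] kpiece N d) :=
  (dSetup EM aR d).tensor (dSetup EN aS d)

theorem tSetup_ε (d : ℤ) : (tSetup EM EN aR aS d).ε = totAug (X := Xd EM d) (Y := Xd EN d) (εd EM d) (εd EN d) := rfl

include aR aS in
theorem dG_exact₀ : LinearMap.ker (dG hT EM EN 0) = LinearMap.range (εG hT EM EN s) := by
  have hK := ker_isHomogeneous (dG_grHom hT EM EN 0)
  refine le_antisymm (fun z hz => ?_) ?_
  · obtain ⟨t, -, ht⟩ := exists_finset (totG hT EM EN 0).gr z
    rw [← ht]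
    refine sum_mem fun d _ => ?_
    obtain ⟨u, hu⟩ := (mem_totG_gr hT EM EN).1 (pr_mem (totG hT EM EN 0).gr d z)
    have hu0 : u ∈ LinearMap.ker (TD EM EN d 0) := by
      refine LinearMap.mem_ker.2 (J_injective hT EM EN d 1 ?_)
      rw [← J_totD, hu, map_zero]
      exact LinearMap.mem_ker.1 (hK d hz)
    rw [(tSetup EM EN aR aS d).exact₀] at hu0
    obtain ⟨w, hw⟩ := hu0
    refine ⟨s.lift d w, ?_⟩
    rw [εG_lift, ← tSetup_ε EM EN aR aS d, hw, hu]
  · rintro _ ⟨w, rfl⟩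
    refine LinearMap.mem_ker.2 ?_
    induction w using GrModLib.induction s.Z.gr with
    | h0 => rw [map_zero, map_zero]
    | hadd a b ha hb => rw [map_add, map_add, ha, hb, add_zero]
    | hmem d w hw =>
      obtain ⟨w, rfl⟩ := (s.mem_range_lift d).1 hw
      rw [εG_lift, J_totD, ← tSetup_ε EM EN aR aS d,
        LinearMap.mem_ker.1 ((tSetup EM EN aR aS d).exact₀.ge ⟨w, rfl⟩), map_zero]

include aR aS in
theorem dG_exact₁ (n : ℕ) : LinearMap.ker (dG hT EM EN (n + 1)) = LinearMap.range (dG hT EM EN n) := by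
  have hK := ker_isHomogeneous (dG_grHom hT EM EN (n + 1))
  refine le_antisymm (fun z hz => ?_) ?_
  · obtain ⟨t, -, ht⟩ := exists_finset (totG hT EM EN (n + 1)).gr z
    rw [← ht]
    refine sum_mem fun d _ => ?_
    obtain ⟨u, hu⟩ := (mem_totG_gr hT EM EN).1 (pr_mem (totG hT EM EN (n + 1)).gr d z)
    have hu0 : u ∈ LinearMap.ker (TD EM EN d (n + 1)) := by
      refine LinearMap.mem_ker.2 (J_injective hT EM EN d (n + 2) ?_)
      rw [← J_totD, hu, map_zero]
      exact LinearMap.mem_ker.1 (hK d hz)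
    rw [(tSetup EM EN aR aS d).exact₁ n] at hu0
    obtain ⟨w, hw⟩ := hu0
    refine ⟨J hT EM EN d n w, ?_⟩
    rw [J_totD, hw, hu]
  · rintro _ ⟨w, rfl⟩
    refine LinearMap.mem_ker.2 ?_
    induction w using GrModLib.induction (totG hT EM EN n).gr with
    | h0 => rw [map_zero, map_zero]
    | hadd a b ha hb => rw [map_add, map_add, ha, hb, add_zero]
    | hmem d w hw =>
      obtain ⟨w, rfl⟩ := (mem_totG_gr hT EM EN).1 hw
      rw [J_totD, J_totD, (tSetup EM EN aR aS d).dd_apply n w, map_zero]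

variable {mR : HomogeneousIdeal 𝒜} {mS : HomogeneousIdeal ℬ} {mT : HomogeneousIdeal 𝒯}
  (hmR : mR.toIdeal = Ideal.span (⋃ n ∈ Set.Ioi (0 : ℤ), (𝒜 n : Set R)))
  (hmS : mS.toIdeal = Ideal.span (⋃ n ∈ Set.Ioi (0 : ℤ), (ℬ n : Set S)))
  (hmT : mT.toIdeal = Ideal.span (⋃ n ∈ Set.Ioi (0 : ℤ), (𝒯 n : Set T)))

include hmT in
theorem van_totG [IsNoetherianRing R] [IsNoetherianRing S] [IsNoetherianRing T] (n i : ℕ) (d : ℤ) :
    Van (toAddIdeal mT) (totG hT EM EN n).gr (i + 1) d := by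
  refine van_of_subsingleton_H ?_ d
  let e : (totG hT EM EN n).carrier ≃ₗ[T] ∀ p : Fin (n + 1), Zc hT EM EN p (n - p) :=
    LinearEquiv.ofBijective (dtotEval (A := T) (Z := Zc hT EM EN) n) (dtotEval_bijective n)
  exact (LocCohLib.subsingleton_H_congr (I := (toAddIdeal mT).toIdeal) e (i + 1)).2
    (subsingleton_H_pi _ _ _ _ fun p => subsingleton_H_seg hT mT hmT (EM.starInj _) (EN.starInj _) _ i)

include hmR hmS hmT in
theorem J_mem_gam_iff [IsNoetherianRing R] [IsNoetherianRing S] [IsNoetherianRing T] (d : ℤ) {n : ℕ}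
    (u : TC EM EN d n) :
    J hT EM EN d n u ∈ GrLC.gam mT.toIdeal (totG hT EM EN n).carrier ↔
      TQ EM EN (toAddIdeal mR) (toAddIdeal mS) d n u = 0 := by
  have key : ∀ p q, (Zs hT EM EN p q).lift d (u.1 p q) ∈ GrLC.gam mT.toIdeal (Zc hT EM EN p q) ↔
      TensorProduct.map (qd EM (toAddIdeal mR) d p) (qd EN (toAddIdeal mS) d q) (u.1 p q) = 0 := fun p q => by
    let iX : X'd EM (toAddIdeal mR) d p →ₗ[k] (EM.X p).carrier ⧸ GrLC.gam mR.toIdeal (EM.X p).carrier :=
      (Γd EM (toAddIdeal mR) d p).liftQ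
        ((GrLC.gam mR.toIdeal (EM.X p).carrier).mkQ.restrictScalars k ∘ₗ (kpiece (EM.X p) d).subtype)
        fun x hx => LinearMap.mem_ker.2 ((Submodule.Quotient.mk_eq_zero _).2 hx)
    let iY : X'd EN (toAddIdeal mS) d q →ₗ[k] (EN.X q).carrier ⧸ GrLC.gam mS.toIdeal (EN.X q).carrier :=
      (Γd EN (toAddIdeal mS) d q).liftQ
        ((GrLC.gam mS.toIdeal (EN.X q).carrier).mkQ.restrictScalars k ∘ₗ (kpiece (EN.X q) d).subtype)
        fun x hx => LinearMap.mem_ker.2 ((Submodule.Quotient.mk_eq_zero _).2 hx)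
    have hiX : Function.Injective iX := LinearMap.ker_eq_bot.1 (eq_bot_iff.2 fun x hx => by
      obtain ⟨x, rfl⟩ := qd_surjective EM (toAddIdeal mR) d p x
      exact (qd_eq_zero EM (toAddIdeal mR)).2
        ((Submodule.Quotient.mk_eq_zero (GrLC.gam mR.toIdeal (EM.X p).carrier)).1 hx))
    have hiY : Function.Injective iY := LinearMap.ker_eq_bot.1 (eq_bot_iff.2 fun x hx => by
      obtain ⟨x, rfl⟩ := qd_surjective EN (toAddIdeal mS) d q x
      exact (qd_eq_zero EN (toAddIdeal mS)).2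
        ((Submodule.Quotient.mk_eq_zero (GrLC.gam mS.toIdeal (EN.X q).carrier)).1 hx))
    rw [(Zs hT EM EN p q).mem_gam_iff hT hmR hmS hmT, Seg.val_lift, map_map']
    rw [show (GrLC.gam mR.toIdeal (EM.X p).carrier).mkQ.restrictScalars k ∘ₗ (kpiece (EM.X p) d).subtype =
        iX ∘ₗ qd EM (toAddIdeal mR) d p from rfl,
      show (GrLC.gam mS.toIdeal (EN.X q).carrier).mkQ.restrictScalars k ∘ₗ (kpiece (EN.X q) d).subtype =
        iY ∘ₗ qd EN (toAddIdeal mS) d q from rfl, TensorProduct.map_comp, LinearMap.comp_apply]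
    exact map_eq_zero_iff _ (TensorProduct.map_injective_of_flat_flat _ _ hiX hiY)
  constructor
  · intro h
    refine Subtype.ext (funext fun p => funext fun q => ?_)
    refine (key p q).1 ?_
    exact map_gam (a := toAddIdeal mT) ((LinearMap.proj q ∘ₗ LinearMap.proj p) ∘ₗ
      (dtot T (Zc hT EM EN) n).subtype) h
  · intro h
    refine mem_gam_of_forall (E := (mT.toIdeal : Set T)) (Ideal.span_eq _) fun t ht => ?_
    have h' : ∀ p : Fin (n + 1), ∃ N : ℕ, t ^ N • (Jv hT EM EN d n u).1 p (n - p) = 0 := fun p => by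
      rw [Jv_val]
      obtain ⟨N, hN⟩ := (key p (n - p)).2 (congrFun (congrFun (congrArg Subtype.val h) p) (n - p))
      exact ⟨N, hN _ (Ideal.pow_mem_pow ht N)⟩
    exact dtot_pow_smul_eq_zero t (Jv hT EM EN d n u) h'

/-- The total complex of the Segre products computes local cohomology. -/
theorem exists_phi_tot [IsNoetherianRing R] [IsNoetherianRing S] [IsNoetherianRing T]
    (aR : HomogeneousIdeal (toAdd 𝒜)) (aS : HomogeneousIdeal (toAdd ℬ))
    (hmT : mT.toIdeal = Ideal.span (⋃ n ∈ Set.Ioi (0 : ℤ), (𝒯 n : Set T)))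
    (F : GrLC.StarInjRes (toAdd 𝒯) s.Z.gr) (i : ℕ) :
    ∃ φ : acCocyc (toAddIdeal mT).toIdeal (fun n => (totG hT EM EN n).carrier) (dG hT EM EN) i →ₗ[T]
        F.H (toAddIdeal mT) i, Function.Surjective φ ∧
      LinearMap.ker φ = (acCobdy (toAddIdeal mT).toIdeal (fun n => (totG hT EM EN n).carrier) (dG hT EM EN) i).comap
        (acCocyc (toAddIdeal mT).toIdeal (fun n => (totG hT EM EN n).carrier) (dG hT EM EN) i).subtype ∧
      ∀ g z, z.1 ∈ (totG hT EM EN i).gr g → φ z ∈ F.Hgr (toAddIdeal mT) i g :=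
  exists_coresolution (toAddIdeal mT) i s.Z F (totG hT EM EN) (dG hT EM EN) (εG hT EM EN s)
    (dG_grHom hT EM EN) (εG_grHom hT EM EN s) (εG_injective hT EM EN s)
    (dG_exact₀ hT EM EN s aR aS) (dG_exact₁ hT EM EN aR aS) (van_totG hT EM EN hmT)

set_option maxHeartbeats 2000000 in
include hmR hmS hmT in
/-- The classes of one degree of the total complex, from a given comparison. -/
theorem exists_psi_of [IsNoetherianRing R] [IsNoetherianRing S] [IsNoetherianRing T]
    (F : GrLC.StarInjRes (toAdd 𝒯) s.Z.gr) (i : ℕ)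
    (φ : acCocyc (toAddIdeal mT).toIdeal (fun n => (totG hT EM EN n).carrier) (dG hT EM EN) i →ₗ[T]
        F.H (toAddIdeal mT) i) (hφs : Function.Surjective φ)
    (hφk : LinearMap.ker φ = (acCobdy (toAddIdeal mT).toIdeal (fun n => (totG hT EM EN n).carrier) (dG hT EM EN) i).comap
        (acCocyc (toAddIdeal mT).toIdeal (fun n => (totG hT EM EN n).carrier) (dG hT EM EN) i).subtype)
    (hφd : ∀ g z, z.1 ∈ (totG hT EM EN i).gr g → φ z ∈ F.Hgr (toAddIdeal mT) i g) (d : ℤ) :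
    ∃ Ψ : Zk (C := TC EM EN d) (C' := TC' EM EN (toAddIdeal mR) (toAddIdeal mS) d) (TD EM EN d) (TQ EM EN (toAddIdeal mR) (toAddIdeal mS) d) i →ₗ[k]
        Hd F (toAddIdeal mT) i d, Function.Surjective Ψ ∧
      LinearMap.ker Ψ =
        (Bk (C := TC EM EN d) (C' := TC' EM EN (toAddIdeal mR) (toAddIdeal mS) d) (TD EM EN d) (TQ EM EN (toAddIdeal mR) (toAddIdeal mS) d) i).comap
          (Zk (C := TC EM EN d) (C' := TC' EM EN (toAddIdeal mR) (toAddIdeal mS) d) (TD EM EN d) (TQ EM EN (toAddIdeal mR) (toAddIdeal mS) d) i).subtype ∧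
      ∀ z hm, (Ψ z).1 = φ ⟨J hT EM EN d i z.1, hm⟩ := by
  let Y : ℕ → GrLC.GMod.{u} (toAdd 𝒯) := totG hT EM EN
  let Q : ∀ n, TC EM EN d n →ₗ[k] TC' EM EN (toAddIdeal mR) (toAddIdeal mS) d n :=
    TQ EM EN (toAddIdeal mR) (toAddIdeal mS) d
  let DD : ∀ n, TC EM EN d n →ₗ[k] TC EM EN d (n + 1) := TD EM EN d
  have hmem : ∀ z : Zk DD Q i,
      J hT EM EN d i z.1 ∈ acCocyc (toAddIdeal mT).toIdeal (fun n => (Y n).carrier) (dG hT EM EN) i := fun z =>
    ⟨(J_mem_gam_iff hT EM EN hmR hmS hmT d z.1).2 (LinearMap.mem_ker.1 z.2.2),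
      LinearMap.mem_ker.2 (by rw [J_totD, LinearMap.mem_ker.1 z.2.1, map_zero])⟩
  let Z := acCocyc (toAddIdeal mT).toIdeal (fun n => (Y n).carrier) (dG hT EM EN) i
  let Ψ : Zk DD Q i →ₗ[k] Hd F (toAddIdeal mT) i d :=
    { toFun := fun z => ⟨φ ⟨_, hmem z⟩, hφd d _ ((mem_totG_gr hT EM EN).2 ⟨z.1, rfl⟩)⟩
      map_add' := fun x y => Subtype.ext ((congrArg φ (Subtype.ext (map_add (J hT EM EN d i) x.1 y.1))).trans
        (map_add φ (⟨_, hmem x⟩ : Z) ⟨_, hmem y⟩))
      map_smul' := fun c x => Subtype.ext ((congrArg φ (show (⟨_, hmem (c • x)⟩ : Z) =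
          algebraMap k T c • (⟨_, hmem x⟩ : Z) from Subtype.ext
          ((map_smul (J hT EM EN d i) c x.1).trans (algebraMap_smul T c _).symm))).trans
        ((map_smul φ (algebraMap k T c) (⟨_, hmem x⟩ : Z)).trans (algebraMap_smul T c _))) }
  refine ⟨Ψ, fun x => ?_, ?_, fun z hm => rfl⟩
  · letI := (Hgr_isInternal F (toAddIdeal mT) i).chooseDecomposition
    have hZ : Z.IsHomogeneous (Y i).gr :=
      inf_isHomogeneous _ (gam_isHomogeneous (ℳ := (Y i).gr) (toAddIdeal mT))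
        (ker_isHomogeneous (dG_grHom hT EM EN i))
    letI := (subGr_isInternal Z hZ).chooseDecomposition
    obtain ⟨z, hz⟩ := hφs x.1
    have h1 : φ (pr (subGr Z (Y i).gr) d z) = x.1 := by
      rw [map_pr (ℳ := subGr Z (Y i).gr) (𝒩 := F.Hgr (toAddIdeal mT) i) (f := φ) (fun g v hv => hφd g v hv), hz]
      exact pr_self _ x.2
    obtain ⟨u, hu⟩ := (mem_totG_gr hT EM EN).1
      (show ((pr (subGr Z (Y i).gr) d z : Z) : (Y i).carrier) ∈ (Y i).gr d from pr_mem (subGr Z (Y i).gr) d z)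
    have hz1 : J hT EM EN d i u ∈ GrLC.gam mT.toIdeal (totG hT EM EN i).carrier := by
      rw [hu]; exact (pr (subGr Z (Y i).gr) d z).2.1
    have hz2 : dG hT EM EN i (J hT EM EN d i u) = 0 := by
      rw [hu]; exact LinearMap.mem_ker.1 (pr (subGr Z (Y i).gr) d z).2.2
    refine ⟨⟨u, LinearMap.mem_ker.2 (J_injective hT EM EN d (i + 1) (by rw [← J_totD, hz2, map_zero])),
      LinearMap.mem_ker.2 ((J_mem_gam_iff hT EM EN hmR hmS hmT d u).1 hz1)⟩, Subtype.ext ?_⟩
    exact (congrArg φ (Subtype.ext hu)).trans h1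
  · refine Submodule.ext fun z => ?_
    show Ψ z = 0 ↔ z.1 ∈ Bk DD Q i
    refine Subtype.ext_iff.trans ((SetLike.ext_iff.1 hφk (⟨_, hmem z⟩ : Z)).trans ?_)
    show J hT EM EN d i z.1 ∈ acCobdy (toAddIdeal mT).toIdeal (fun n => (Y n).carrier) (dG hT EM EN) i ↔ _
    cases i with
    | zero =>
      show J hT EM EN d 0 z.1 ∈ (⊥ : Submodule T (Y 0).carrier) ↔ z.1 ∈ (⊥ : Submodule k _)
      rw [Submodule.mem_bot, Submodule.mem_bot]
      exact map_eq_zero_iff _ (J_injective hT EM EN d 0)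
    | succ i =>
      constructor
      · rintro ⟨w, hw, hwz⟩
        obtain ⟨u, hu⟩ := (mem_totG_gr hT EM EN).1 (pr_mem (Y i).gr d w)
        refine ⟨u, LinearMap.mem_ker.2 ((J_mem_gam_iff hT EM EN hmR hmS hmT d u).1 ?_),
          J_injective hT EM EN d (i + 1) ?_⟩
        · rw [hu]; exact gam_isHomogeneous (ℳ := (Y i).gr) (toAddIdeal mT) d hw
        · refine (J_totD hT EM EN d u).symm.trans ((congrArg (dG hT EM EN i) hu).trans ?_)
          refine (map_pr (dG_grHom hT EM EN i) d w).trans ((congrArg (pr (Y (i + 1)).gr d) hwz).trans ?_)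
          exact pr_self _ ((mem_totG_gr hT EM EN).2 ⟨z.1, rfl⟩)
      · rintro ⟨u, hu, huz⟩
        refine ⟨J hT EM EN d i u, (J_mem_gam_iff hT EM EN hmR hmS hmT d u).2 (LinearMap.mem_ker.1 hu), ?_⟩
        exact (J_totD hT EM EN d u).trans (congrArg (J hT EM EN d (i + 1)) huz)

set_option maxHeartbeats 2000000 in
include hT EM EN hmR hmS hmT in
/-- The classes of one degree of the total complex. -/
theorem exists_psi_tot [IsNoetherianRing R] [IsNoetherianRing S] [IsNoetherianRing T]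
    (F : GrLC.StarInjRes (toAdd 𝒯) s.Z.gr) (i : ℕ) (d : ℤ) :
    ∃ Ψ : Zk (C := TC EM EN d) (C' := TC' EM EN (toAddIdeal mR) (toAddIdeal mS) d) (TD EM EN d) (TQ EM EN (toAddIdeal mR) (toAddIdeal mS) d) i →ₗ[k]
        Hd F (toAddIdeal mT) i d, Function.Surjective Ψ ∧
      LinearMap.ker Ψ =
        (Bk (C := TC EM EN d) (C' := TC' EM EN (toAddIdeal mR) (toAddIdeal mS) d) (TD EM EN d) (TQ EM EN (toAddIdeal mR) (toAddIdeal mS) d) i).comap
          (Zk (C := TC EM EN d) (C' := TC' EM EN (toAddIdeal mR) (toAddIdeal mS) d) (TD EM EN d) (TQ EM EN (toAddIdeal mR) (toAddIdeal mS) d) i).subtype := by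
  obtain ⟨φ, hφs, hφk, hφd⟩ := exists_phi_tot hT EM EN s (toAddIdeal mR) (toAddIdeal mS) hmT F i
  obtain ⟨Ψ, hs, hk, -⟩ := exists_psi_of hT EM EN s hmR hmS hmT F i φ hφs hφk hφd d
  exact ⟨Ψ, hs, hk⟩

end SegreLC
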